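import Groth.Agent.Lib.Ample.GG
import Groth.Agent.Lib.Modules.Free

/-!
# Finitely many sections generating a coherent module

If the global sections of a coherent module on a quasi-compact scheme generate every stalk then
finitely many do (`Gen.exists_epi_freeMod`).
-/

noncomputable section

universe u

open CategoryTheory CategoryTheory.Limits AlgebraicGeometry Opposite TopologicalSpace

namespace Groth.Agent.Lib.ProjCoh.Gen

open Groth.Agent.Lib Groth.Agent.Lib.Ample.GG TensorMod.Dual Modules.StalkModule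

variable {X : Scheme.{u}} {M : X.Modules}

/-- Finitely many global sections generate the germs of `t` at all points near `x`. -/
def NbhdGen (M : X.Modules) (x : X) {U : X.Opens} (t : Γ(M, U)) : Prop :=
  ∃ (V : X.Opens) (hV : V ≤ U) (G : Finset Γ(M, ⊤)), x ∈ V ∧ ∀ (y : X) (hy : y ∈ V),
    gm (hV hy) t ∈ Submodule.span (X.presheaf.stalk y) ((fun g : Γ(M, ⊤) => gm (memTop y) g) '' ↑G)

theorem exists_nbhdGen {x : X} {v : M.presheaf.stalk x}
    (hv : v ∈ Submodule.span (X.presheaf.stalk x) (Set.range fun g : Γ(M, ⊤) => gm (memTop x) g)) :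
    ∃ (U : X.Opens) (hx : x ∈ U) (t : Γ(M, U)), gm hx t = v ∧ NbhdGen M x t := by
  classical
  induction hv using Submodule.span_induction with
  | mem v hv =>
    obtain ⟨g, rfl⟩ := hv
    exact ⟨⊤, memTop x, g, rfl, ⊤, le_rfl, {g}, memTop x,
      fun y _ => Submodule.subset_span ⟨g, by simp, rfl⟩⟩
  | zero =>
    exact ⟨⊤, memTop x, 0, map_zero _, ⊤, le_rfl, ∅, memTop x,
      fun y _ => by rw [gm, map_zero]; exact zero_mem _⟩
  | add v w _ _ hv hw =>
    obtain ⟨U, hx, t, rfl, V, hV, G, hxV, hG⟩ := hv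
    obtain ⟨U', hx', t', rfl, V', hV', G', hxV', hG'⟩ := hw
    have hmem : x ∈ V ⊓ V' := ⟨hxV, hxV'⟩
    refine ⟨V ⊓ V', hmem,
      rs M (inf_le_left.trans hV) t + rs M (inf_le_right.trans hV') t', ?_, V ⊓ V', le_rfl, G ∪ G',
      hmem, fun y hy => ?_⟩
    · rw [gm, map_add, ← gm, ← gm, gm_rs, gm_rs]
    · rw [gm, map_add, ← gm, ← gm, gm_rs, gm_rs]
      refine add_mem (Submodule.span_mono (Set.image_mono ?_) (hG y hy.1))
        (Submodule.span_mono (Set.image_mono ?_) (hG' y hy.2))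
      · exact Finset.coe_subset.2 Finset.subset_union_left
      · exact Finset.coe_subset.2 Finset.subset_union_right
  | smul c v _ hv =>
    obtain ⟨U, hx, t, rfl, V, hV, G, hxV, hG⟩ := hv
    obtain ⟨W, hxW, r, rfl⟩ := TopCat.Presheaf.exists_germ_eq X.presheaf c
    have hmem : x ∈ V ⊓ W := ⟨hxV, hxW⟩
    refine ⟨V ⊓ W, hmem, rf (inf_le_right : V ⊓ W ≤ W) r • rs M (inf_le_left.trans hV) t, ?_,
      V ⊓ W, le_rfl, G, hmem, fun y hy => ?_⟩
    · rw [gm_smul, gm_rs, TopCat.Presheaf.germ_res_apply]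
    · rw [gm_smul, gm_rs]
      exact Submodule.smul_mem _ _ (hG y hy.1)

theorem nbhdGen_of_genAt {x : X} (h : GenAt M x) {U : X.Opens} (hx : x ∈ U) (t : Γ(M, U)) :
    NbhdGen M x t := by
  obtain ⟨U', hx', t', e, V, hV, G, hxV, hG⟩ := exists_nbhdGen (h.ge (Submodule.mem_top (x := gm hx t)))
  obtain ⟨W, hxW, i, j, e'⟩ := TopCat.Presheaf.germ_eq M.presheaf x hx' hx t' t e
  refine ⟨V ⊓ W, inf_le_right.trans j.le, G, ⟨hxV, hxW⟩, fun y hy => ?_⟩
  have h1 : gm (hV hy.1) t' = gm (j.le hy.2) t :=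
    (gm_rs i.le hy.2 t').symm.trans ((congrArg (fun z => gm hy.2 z) e').trans (gm_rs j.le hy.2 t))
  exact h1 ▸ hG y hy.1

/-- A coherent module on a quasi-compact scheme with generated stalks is a quotient of a finite free
module. -/
theorem exists_epi_freeMod [CompactSpace X] (hM : Coh.IsCoh M) (h : ∀ x, GenAt M x) :
    ∃ (k : ℕ) (p : FlatMod.freeMod X k ⟶ M), Epi p := by
  classical
  haveI := hM.1
  have key : ∀ x : X, ∃ (V : X.Opens) (G : Finset Γ(M, ⊤)), x ∈ V ∧ ∀ (y : X), y ∈ V →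
      Submodule.span (X.presheaf.stalk y) ((fun g : Γ(M, ⊤) => gm (memTop y) g) '' ↑G) = ⊤ := by
    intro x
    obtain ⟨U, hU, hx, -⟩ := exists_isAffineOpen_mem_and_subset (X := X) (x := x) (U := ⊤) trivial
    haveI := CohBasics.Closure.finite_sections hM hU
    obtain ⟨m, t, ht⟩ := Module.Finite.exists_fin (R := Γ(X, U)) (M := Γ(M, U))
    choose V hV G hxV hG using fun i => nbhdGen_of_genAt (h x) hx (t i)
    refine ⟨⟨(U : Set X) ∩ ⋂ i, (V i : Set X), U.isOpen.inter (isOpen_iInter_of_finite fun i => (V i).isOpen)⟩,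
      Finset.univ.biUnion G, ⟨hx, Set.mem_iInter.2 hxV⟩, fun y hy => top_le_iff.1 ?_⟩
    rw [← CohBasics.Affine.germ_span_eq_top hU (Set.range t) ht (x := y) hy.1, Submodule.span_le]
    rintro _ ⟨_, ⟨i, rfl⟩, rfl⟩
    refine Submodule.span_mono (Set.image_mono ?_) (hG i y (Set.mem_iInter.1 hy.2 i))
    exact Finset.coe_subset.2 (Finset.subset_biUnion_of_mem G (Finset.mem_univ i))
  choose V G hxV hG using key
  obtain ⟨T, hT⟩ := isCompact_univ.elim_finite_subcover (fun x => (V x : Set X)) (fun x => (V x).isOpen)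
    fun x _ => Set.mem_iUnion.2 ⟨x, hxV x⟩
  let s : Fin (T.biUnion G).card → Γ(M, ⊤) := fun i => ((T.biUnion G).equivFin.symm i : Γ(M, ⊤))
  refine ⟨_, Modules.Free.freeHom s, (Modules.Stalk.epi_iff_stalk_surjective _).2 fun y => ?_⟩
  obtain ⟨x, hx, hyx⟩ := Set.mem_iUnion₂.1 (hT (Set.mem_univ y))
  suffices hr : LinearMap.range (stalkMapₗ (Modules.Free.freeHom s) y) = ⊤ from LinearMap.range_eq_top.1 hr
  rw [← top_le_iff, ← hG x y hyx, Submodule.span_le]
  rintro _ ⟨g, hg, rfl⟩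
  refine ⟨(FlatMod.freeMod X _).presheaf.germ ⊤ y trivial
    (Modules.Free.gen X ((T.biUnion G).equivFin ⟨g, Finset.mem_biUnion.2 ⟨x, hx, hg⟩⟩)),
    (Modules.Free.freeHom_stalk_germ s y _).trans ?_⟩
  exact congrArg (gm (memTop y)) (congrArg Subtype.val ((T.biUnion G).equivFin.symm_apply_apply _))

end Groth.Agent.Lib.ProjCoh.Gen
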