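import Groth.Agent.Lib.ProjCoh.Twist
import Groth.Agent.Lib.ProjCoh.Gen
import Groth.Agent.Lib.HProj.QuasiProj
import Groth.Agent.Lib.ProjTilde.Tensor
import Groth.Agent.Lib.TensorMod.TensorQCoh
import Groth.Agent.Lib.Perfect.Coherent
import Mathlib.CategoryTheory.Limits.Preserves.Shapes.Products
import Mathlib.RingTheory.Noetherian.Basic

/-!
# Coherent sheaves on `P^n_R`

* `Coherent.exists_epi`: a coherent module is a quotient of a finite sum of copies of `A(-m)~`.
* `Coherent.finite_HH`: over a Noetherian ring its cohomology is finitely generated.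
* `Coherent.exists_forall_subsingleton` (and `exists_forall_subsingleton_tensorPow`): Serre vanishing.
-/

noncomputable section

universe u

open CategoryTheory CategoryTheory.Limits AlgebraicGeometry TopologicalSpace MvPolynomial

namespace Groth.Agent.Lib.ProjCoh.Coherent

open Groth.Agent.Lib Groth.Agent.Lib.ProjCoh.Sections TensorMod.Basic

variable {n : ℕ} {R : Type u} [CommRing R]

theorem hcov (x : ProjectiveSpectrum (CohB1.polyGrading n R)) :
    ∃ f ∈ CohB1.polyGrading n R 1, f ∉ x.asHomogeneousIdeal := by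
  obtain ⟨j, hj⟩ := Opens.mem_iSup.mp ((iSup_cover (n := n) (R := R)).ge (Set.mem_univ x))
  exact ⟨MvPolynomial.X j.down, ProjSpace.Charts.X_mem_one j.down, hj⟩

/-- `O(d)` on `P^n_R`. -/
abbrev tw (n : ℕ) (R : Type u) [CommRing R] (d : ℤ) : (CohB1.ProjSpace n R).Modules :=
  Twist.twist (CohB1.polyGrading n R) d

/-- `O(d) ≅ A(d)~`. -/
def twIso (d : ℤ) : tw n R d ≅ TS n R d := ProjTilde.Basic.twistIsoTilde (𝒜 := CohB1.polyGrading n R) d

theorem isInvertible_tw (d : ℤ) : PicF.IsInvertible (tw n R d) :=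
  ProjTilde.Invertible.twist_isInvertible_of_cover hcov d

/-- `O(0) ≅ O`. -/
def twZero : tw n R 0 ≅ Coh.structureModule (CohB1.ProjSpace n R) :=
  twIso 0 ≪≫ (Twist.structureIso n R).symm

/-- `O(a) ⊗ O(b) ≅ O(a + b)`. -/
def twTensor (a b : ℤ) : CohB1.tensorMod (tw n R a) (tw n R b) ≅ tw n R (a + b) :=
  ProjTilde.Tensor.twistTensorIso hcov a b

/-- `O(a) ⊗ O(-a) ≅ O`. -/
def twCancel (a b : ℤ) (h : a + b = 0) :
    CohB1.tensorMod (tw n R a) (tw n R b) ≅ Coh.structureModule (CohB1.ProjSpace n R) :=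
  twTensor a b ≪≫ eqToIso (by rw [h]) ≪≫ twZero

theorem isCoh_tw (d : ℤ) : Coh.IsCoh (tw n R d) := Ample.GG.isCoh_of_isInvertible (isInvertible_tw d)

theorem isCoh_tensorMod {X : Scheme.{u}} {M N : X.Modules} (hM : Coh.IsCoh M) (hN : Coh.IsCoh N) :
    Coh.IsCoh (CohB1.tensorMod M N) := by
  have := hM.1; have := hN.1; have := hM.2; have := hN.2
  exact ⟨TensorMod.TensorQCoh.isQCoh_tensorMod M N, TensorMod.TensorQCoh.isFiniteType_tensorMod M N⟩

instance compactSpace_projSpace : CompactSpace (CohB1.ProjSpace n R) := by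
  have := ProjSpace.Basic.isProper_toSpec n R
  exact QuasiCompact.compactSpace_of_compactSpace (CohB1.ProjSpace.toSpec n R)

instance quasiSeparatedSpace_projSpace : QuasiSeparatedSpace (CohB1.ProjSpace n R) := by
  have := ProjSpace.Basic.isProper_toSpec n R
  exact quasiSeparatedSpace_of_quasiSeparated (CohB1.ProjSpace.toSpec n R)

instance isLocallyNoetherian_projSpace [IsNoetherianRing R] : IsLocallyNoetherian (CohB1.ProjSpace n R) := by
  have := ProjSpace.Basic.isProper_toSpec n R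
  exact LocallyOfFiniteType.isLocallyNoetherian (CohB1.ProjSpace.toSpec n R)

/-! ### Twisting is exact -/

/-- `(M ⊗ L) ⊗ L' ≅ M` naturally, when `L ⊗ L' ≅ O`. -/
def cancelNat {X : Scheme.{u}} {L L' : X.Modules} (e : CohB1.tensorMod L L' ≅ Coh.structureModule X) :
    tensorBy L ⋙ tensorBy L' ≅ 𝟭 X.Modules :=
  NatIso.ofComponents (fun M => assoc M L L' ≪≫ tensorIso (Iso.refl M) e ≪≫ rightUnit M)
    fun {M N} f => by
      change tmap (tmap f (𝟙 L)) (𝟙 L') ≫ (assoc N L L').hom ≫ tmap (𝟙 N) e.hom ≫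
          (rightUnit N).hom = ((assoc M L L').hom ≫ tmap (𝟙 M) e.hom ≫ (rightUnit M).hom) ≫ f
      rw [assoc_natural_assoc, tmap_id, ← tmap_comp_assoc, Category.comp_id, Category.id_comp,
        Category.assoc, Category.assoc, ← rightUnit_natural, ← tmap_comp_assoc, Category.id_comp,
        Category.comp_id]

instance isEquivalence_tw (d : ℤ) : (tensorBy (tw n R d)).IsEquivalence :=
  (CategoryTheory.Equivalence.mk (tensorBy (tw n R d)) (tensorBy (tw n R (-d)))
    (cancelNat (twCancel d (-d) (by omega))).symm (cancelNat (twCancel (-d) d (by omega)))).isEquivalence_functor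

instance additive_tw (d : ℤ) : (tensorBy (tw n R d)).Additive :=
  Functor.additive_of_preserves_binary_products _

theorem shortExact_tw {S : ShortComplex (CohB1.ProjSpace n R).Modules} (hS : S.ShortExact) (d : ℤ) :
    (S.map (tensorBy (tw n R d))).ShortExact :=
  hS.map_of_exact _

/-! ### Sums of twists -/

/-- A sum of `k` copies of `A(a)~`. -/
abbrev sumTS (n : ℕ) (R : Type u) [CommRing R] (k : ℕ) (a : ℤ) : (CohB1.ProjSpace n R).Modules :=
  ∐ fun _ : Fin k => TS n R a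

theorem mapK_add {X : Scheme.{u}} (A : Type u) [CommRing A] [X.Over (Spec (CommRingCat.of A))]
    {M N : X.Modules} (φ ψ : M ⟶ N) (q : ℕ) (x : Coh.HH X M q) :
    Curves.LES.mapK A (φ + ψ) q x = Curves.LES.mapK A φ q x + Curves.LES.mapK A ψ q x := by
  refine (congrArg (fun g : Coh.toAb M ⟶ Coh.toAb N => Sheaf.H.map g q x)
    (Functor.map_add (F := Curves.LES.F X))).trans ?_
  exact Sheaf.H.map_add_apply _ _ _

theorem sigma_decomp {X : Scheme.{u}} (A : Type u) [CommRing A] [X.Over (Spec (CommRingCat.of A))]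
    (T : X.Modules) (k q : ℕ) (x : Coh.HH X (∐ fun _ : Fin k => T) q) :
    ∃ y : Fin k → Coh.HH X T q,
      ∑ i, Curves.LES.mapK A (Sigma.ι (fun _ : Fin k => T) i) q (y i) = x := by
  classical
  let S : X.Modules := ∐ fun _ : Fin k => T
  let ι : Fin k → (T ⟶ S) := fun i => Sigma.ι (fun _ : Fin k => T) i
  let π : Fin k → (S ⟶ T) := fun i => Sigma.desc fun j => if j = i then 𝟙 T else 0
  refine ⟨fun i => Curves.LES.mapK A (π i) q x, ?_⟩
  have htot : ∑ i, π i ≫ ι i = 𝟙 S := Sigma.hom_ext _ _ fun j => by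
    rw [Preadditive.comp_sum, Category.comp_id, Finset.sum_eq_single j]
    · simp [π, ι]
    · intro b _ hb; simp [π, ι, Ne.symm hb]
    · simp
  have hadd : ∀ (s : Finset (Fin k)) (φ : Fin k → (S ⟶ S)),
      Curves.LES.mapK A (∑ i ∈ s, φ i) q x = ∑ i ∈ s, Curves.LES.mapK A (φ i) q x := fun s φ =>
    map_sum (AddMonoidHom.mk' (fun ψ : S ⟶ S => Curves.LES.mapK A ψ q x)
      fun ψ ψ' => mapK_add A ψ ψ' q x) φ s
  calc ∑ i, Curves.LES.mapK A (ι i) q (Curves.LES.mapK A (π i) q x)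
      = ∑ i, Curves.LES.mapK A (π i ≫ ι i) q x := by simp [Curves.LES.mapK_comp]
    _ = x := by rw [← hadd, htot, Curves.LES.mapK_id]; rfl

theorem sigma_surj {X : Scheme.{u}} (A : Type u) [CommRing A] [X.Over (Spec (CommRingCat.of A))]
    (T : X.Modules) (k q : ℕ) :
    ∃ f : (Fin k → Coh.HH X T q) →ₗ[A] Coh.HH X (∐ fun _ : Fin k => T) q, Function.Surjective f := by
  refine ⟨∑ i, (Curves.LES.mapK A (Sigma.ι (fun _ : Fin k => T) i) q).comp (LinearMap.proj i),
    fun x => ?_⟩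
  obtain ⟨y, hy⟩ := sigma_decomp A T k q x
  exact ⟨y, by simpa only [LinearMap.coe_sum, Finset.sum_apply, LinearMap.comp_apply, LinearMap.proj_apply] using hy⟩

theorem finite_HH_sumTS (k : ℕ) (a : ℤ) (q : ℕ) :
    Module.Finite R (Coh.HH (CohB1.ProjSpace n R) (sumTS n R k a) q) := by
  obtain ⟨f, hf⟩ := sigma_surj R (TS n R a) k q
  have := Twist.finite_HH n R a q
  exact Module.Finite.of_surjective f hf

theorem subsingleton_HH_sumTS (k : ℕ) {a : ℤ} {q : ℕ}
    (h : Subsingleton (Coh.HH (CohB1.ProjSpace n R) (TS n R a) q)) :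
    Subsingleton (Coh.HH (CohB1.ProjSpace n R) (sumTS n R k a) q) := by
  obtain ⟨f, hf⟩ := sigma_surj R (TS n R a) k q
  exact hf.subsingleton

/-- `(⊕ A(a)~) ⊗ O(d) ≅ ⊕ A(a + d)~`. -/
def sumTensor (k : ℕ) (a d : ℤ) :
    CohB1.tensorMod (sumTS n R k a) (tw n R d) ≅ sumTS n R k (a + d) :=
  PreservesCoproduct.iso (tensorBy (tw n R d)) (fun _ : Fin k => TS n R a) ≪≫
    Sigma.mapIso fun _ => ProjTilde.Tensor.tensorTwistIso (𝒜 := CohB1.polyGrading n R)
      (ℳ := CohB1.polyGrading n R) hcov a d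

theorem nonempty_freeMod_tensor (k : ℕ) (a : ℤ) :
    Nonempty (CohB1.tensorMod (FlatMod.freeMod (CohB1.ProjSpace n R) k) (tw n R a) ≅ sumTS n R k a) :=
  ⟨PreservesCoproduct.iso (tensorBy (tw n R a))
      (fun _ : Fin k => Coh.structureModule (CohB1.ProjSpace n R)) ≪≫
    Sigma.mapIso fun _ => leftUnit (tw n R a) ≪≫ twIso a⟩

theorem isCoh_sumTS (k : ℕ) (a : ℤ) : Coh.IsCoh (sumTS n R k a) := by
  obtain ⟨e⟩ := nonempty_freeMod_tensor (n := n) (R := R) k a
  exact CohBasics.Closure.isCoh_of_iso e (isCoh_tensorMod (Perfect.Coherent.isCoh_freeMod _ k) (isCoh_tw a))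

theorem nonempty_tensorPow_iso (d : ℕ) :
    Nonempty (tw n R (d : ℤ) ≅ CohB1.tensorPow (tw n R 1) d) :=
  ProjTilde.Tensor.twist_iso_tensorPow hcov d

theorem exists_epi_of_twist {X : Scheme.{u}} {L L' F M S : X.Modules}
    (e : CohB1.tensorMod L L' ≅ Coh.structureModule X) (p : F ⟶ (tensorBy L).obj M) [Epi p]
    (i : (tensorBy L').obj F ≅ S) : ∃ r : S ⟶ M, Epi r := by
  have : Epi ((tensorBy L').map p) := (tensorBy L').map_epi p
  have : Epi ((tensorBy L').map p ≫ (cancelNat e).hom.app M) := @epi_comp _ _ _ _ _ _ this _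
    (@IsIso.epi_of_iso _ _ _ _ _ ((cancelNat e).app M).isIso_hom)
  exact ⟨i.inv ≫ (tensorBy L').map p ≫ (cancelNat e).hom.app M, epi_comp _ _⟩

/-- A coherent module is a quotient of a finite sum of twists. -/
theorem exists_epi (M : (CohB1.ProjSpace n R).Modules) (hM : Coh.IsCoh M) :
    ∃ (k m : ℕ) (p : sumTS n R k (-(m : ℤ)) ⟶ M), Epi p := by
  obtain ⟨m, hm⟩ := Ample.GG.eventually_genAt_twist (HProj.QuasiProj.isAmple_twist_projSpace n R) M hM
  obtain ⟨j⟩ := nonempty_tensorPow_iso (n := n) (R := R) m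
  let e : CohB1.tensorMod M (CohB1.tensorPow (tw n R 1) m) ≅ CohB1.tensorMod M (tw n R (m : ℤ)) :=
    tensorIso (Iso.refl M) j.symm
  have hc : Coh.IsCoh (CohB1.tensorMod M (tw n R (m : ℤ))) := isCoh_tensorMod hM (isCoh_tw _)
  obtain ⟨k, p, hp⟩ := Gen.exists_epi_freeMod hc fun x => (hm m le_rfl x).of_iso e
  obtain ⟨i⟩ := nonempty_freeMod_tensor (n := n) (R := R) k (-(m : ℤ))
  exact ⟨k, m, @exists_epi_of_twist _ _ _ _ _ _ (twCancel (m : ℤ) (-(m : ℤ)) (by omega)) p hp i⟩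

/-- The kernel sequence of an epimorphism. -/
theorem exists_shortExact [IsNoetherianRing R] (M : (CohB1.ProjSpace n R).Modules) (hM : Coh.IsCoh M) :
    ∃ (k : ℕ) (m : ℕ) (S : ShortComplex (CohB1.ProjSpace n R).Modules),
      S.ShortExact ∧ Coh.IsCoh S.X₁ ∧ S.X₂ = sumTS n R k (-(m : ℤ)) ∧ S.X₃ = M := by
  obtain ⟨k, m, p, hp⟩ := exists_epi M hM
  refine ⟨k, m, ShortComplex.mk (kernel.ι p) p (kernel.condition p), ?_,
    CohBasics.Closure.isCoh_kernel p (isCoh_sumTS k _) hM.1, rfl, rfl⟩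
  exact { exact := ShortComplex.exact_of_f_is_kernel _ (kernelIsKernel p)
          epi_g := hp }

/-- Finiteness of cohomology of coherent modules on `P^n_R`. -/
theorem finite_HH [IsNoetherianRing R] (M : (CohB1.ProjSpace n R).Modules) (hM : Coh.IsCoh M) (q : ℕ) :
    Module.Finite R (Coh.HH (CohB1.ProjSpace n R) M q) := by
  suffices H : ∀ j q : ℕ, n + 1 ≤ q + j → ∀ M : (CohB1.ProjSpace n R).Modules, Coh.IsCoh M →
      Module.Finite R (Coh.HH (CohB1.ProjSpace n R) M q) from H (n + 1) q (by omega) M hM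
  intro j
  induction j with
  | zero =>
    intro q hq M hM
    have : Coh.IsQCoh M := hM.1
    have := Twist.subsingleton_HH_of_lt M (i := q) (by omega)
    exact ⟨⟨∅, Subsingleton.elim _ _⟩⟩
  | succ j ih =>
    intro q hq M hM
    obtain ⟨k, m, S, hS, h1, h2, rfl⟩ := exists_shortExact M hM
    have hf2 : Module.Finite R (Coh.HH (CohB1.ProjSpace n R) S.X₂ q) := h2 ▸ finite_HH_sumTS k _ q
    have hf1 := ih (q + 1) (by omega) S.X₁ h1
    have : IsNoetherian R (Coh.HH (CohB1.ProjSpace n R) S.X₂ q) := inferInstance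
    have : IsNoetherian R (Coh.HH (CohB1.ProjSpace n R) S.X₁ (q + 1)) := inferInstance
    have : IsNoetherian R (Coh.HH (CohB1.ProjSpace n R) S.X₃ q) :=
      isNoetherian_of_range_eq_ker _ _ (Curves.LES.exactK₃ R hS q (q + 1) rfl).linearMap_ker_eq.symm
    infer_instance

/-- Serre vanishing on `P^n_R`. -/
theorem exists_forall_subsingleton [IsNoetherianRing R] (M : (CohB1.ProjSpace n R).Modules)
    (hM : Coh.IsCoh M) : ∃ d₀ : ℕ, ∀ d : ℤ, (d₀ : ℤ) ≤ d → ∀ q : ℕ,
      Subsingleton (Coh.HH (CohB1.ProjSpace n R) (CohB1.tensorMod M (tw n R d)) (q + 1)) := by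
  suffices H : ∀ j q : ℕ, n ≤ q + j → ∀ M : (CohB1.ProjSpace n R).Modules, Coh.IsCoh M →
      ∃ d₀ : ℕ, ∀ d : ℤ, (d₀ : ℤ) ≤ d → ∀ q', q ≤ q' →
        Subsingleton (Coh.HH (CohB1.ProjSpace n R) (CohB1.tensorMod M (tw n R d)) (q' + 1)) by
    obtain ⟨d₀, hd⟩ := H n 0 (by omega) M hM
    exact ⟨d₀, fun d h q => hd d h q q.zero_le⟩
  intro j
  induction j with
  | zero =>
    intro q hq M hM
    refine ⟨0, fun d _ q' hq' => ?_⟩
    have : Coh.IsQCoh (CohB1.tensorMod M (tw n R d)) := (isCoh_tensorMod hM (isCoh_tw d)).1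
    exact Twist.subsingleton_HH_of_lt _ (by omega)
  | succ j ih =>
    intro q hq M hM
    obtain ⟨k, m, S, hS, h1, h2, rfl⟩ := exists_shortExact M hM
    obtain ⟨d₁, hd₁⟩ := ih (q + 1) (by omega) S.X₁ h1
    refine ⟨max d₁ m, fun d hd q' hq' => ?_⟩
    have hT := shortExact_tw hS d
    have hs2 : Subsingleton (Coh.HH (CohB1.ProjSpace n R) (S.map (tensorBy (tw n R d))).X₂ (q' + 1)) := by
      change Subsingleton (Coh.HH _ (CohB1.tensorMod S.X₂ (tw n R d)) (q' + 1))
      rw [h2]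
      have := subsingleton_HH_sumTS (n := n) (R := R) k (a := -(m : ℤ) + d) (q := q' + 1)
        (Twist.subsingleton_HH_of_neg_le n R (by omega) (Nat.succ_ne_zero _))
      exact (Curves.LES.isoK R (sumTensor k (-(m : ℤ)) d) (q' + 1)).injective.subsingleton
    have hs1 : Subsingleton (Coh.HH (CohB1.ProjSpace n R) (S.map (tensorBy (tw n R d))).X₁ (q' + 2)) :=
      hd₁ d (by omega) (q' + 1) (by omega)
    refine subsingleton_of_forall_eq 0 fun x => ?_
    obtain ⟨y, hy⟩ := ((Curves.LES.exactK₃ R hT (q' + 1) (q' + 2) rfl) x).1 (Subsingleton.elim _ _)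
    rw [← hy, Subsingleton.elim y 0, map_zero]
    rfl

/-- Serre vanishing, for tensor powers of `O(1)`. -/
theorem exists_forall_subsingleton_tensorPow [IsNoetherianRing R] (M : (CohB1.ProjSpace n R).Modules)
    (hM : Coh.IsCoh M) : ∃ d₀ : ℕ, ∀ d, d₀ ≤ d → ∀ q : ℕ,
      Subsingleton (Coh.HH (CohB1.ProjSpace n R) (CohB1.tensorMod M (CohB1.tensorPow (tw n R 1) d)) (q + 1)) := by
  obtain ⟨d₀, hd⟩ := exists_forall_subsingleton M hM
  refine ⟨d₀, fun d hdd q => ?_⟩
  obtain ⟨j⟩ := nonempty_tensorPow_iso (n := n) (R := R) d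
  have := hd (d : ℤ) (by omega) q
  exact (Curves.LES.isoK R (tensorIso (Iso.refl M) j.symm) (q + 1)).injective.subsingleton

end Groth.Agent.Lib.ProjCoh.Coherent
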