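import Groth.Agent.Lib.ProjCoh.Scalars

/-!
# Global functions on `P^n_R`

* `GlobalFun.isIso_appTop`: `R → Γ(P^n_R, O)` is bijective.
-/

universe u

open CategoryTheory AlgebraicGeometry TopologicalSpace Opposite MvPolynomial

noncomputable section

namespace Groth.Agent.Lib.ProjCoh.GlobalFun

open Groth.Agent.Lib.ProjTilde Groth.Agent.Lib.ProjCoh.Sections Groth.Agent.Lib.Cech.Complex

variable {n : ℕ} {R : Type u} [CommRing R]

/-- A function as a section of `A(0)~`. -/
def fn (W : (CohB1.ProjSpace n R).Opens) (s : Twist.O (𝒜 := CohB1.polyGrading n R) (op ⊤)) : Sect n R 0 W :=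
  GrTilde.res (CohB1.polyGrading n R) (CohB1.polyGrading n R) 0 (homOfLE le_top).op (Basic.ofFun s)

theorem res_fn {W V : (CohB1.ProjSpace n R).Opens} (h : V ≤ W)
    (s : Twist.O (𝒜 := CohB1.polyGrading n R) (op ⊤)) :
    (Cech.Complex.res (PS n R 0) h (fn W s) : Sect n R 0 V) = fn V s :=
  Frac.sect_ext fun _ => rfl

theorem coef_fn_eq (i i' : Fin 1 → ULift.{u} (Fin (n + 1)))
    (s : Twist.O (𝒜 := CohB1.polyGrading n R) (op ⊤)) :
    coef i (fn (inter (cover n R) i) s) = coef i' (fn (inter (cover n R) i') s) := by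
  let p : Fin 2 → ULift.{u} (Fin (n + 1)) := ![i 0, i' 0]
  have h : inter (cover n R) p ≤ inter (cover n R) i :=
    inter_mono _ _ _ fun b => ⟨0, by fin_cases b; rfl⟩
  have h' : inter (cover n R) p ≤ inter (cover n R) i' :=
    inter_mono _ _ _ fun b => ⟨1, by fin_cases b; rfl⟩
  have e1 := coef_res p i h (fn (inter (cover n R) i) s)
  have e2 := coef_res p i' h' (fn (inter (cover n R) i') s)
  rw [res_fn h s] at e1
  rw [res_fn h' s] at e2
  exact e1.symm.trans e2

theorem rep_const (r : R) (W : (CohB1.ProjSpace n R).Opens) :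
    Rep (fn W (Coh.toGlobal (CohB1.ProjSpace.toSpec n R) r)) 0 (C r : S n R) := by
  refine ⟨Frac.Deg.of_mem (ℳ := CohB1.polyGrading n R)
    ((mem_homogeneousSubmodule _ _).mpr (isHomogeneous_C _ r)) (Or.inl (by simp)), ?_, fun x hx => ?_⟩
  · intro x _ h
    exact x.isPrime.ne_top ((Ideal.eq_top_iff_one _).mpr h)
  · exact (toGlobal_val r ⟨x.1, trivial⟩).trans
      (congrArg (LocalizedModule.mk (C r : S n R)) (Subtype.ext rfl))

theorem coef_const (r : R) {q : ℕ} (i : Fin (q + 1) → ULift.{u} (Fin (n + 1))) :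
    coef i (fn (inter (cover n R) i) (Coh.toGlobal (CohB1.ProjSpace.toSpec n R) r)) =
      AddMonoidAlgebra.single 0 r := by
  rw [coef_eq i (rep_const r _), laur, map_zero, neg_zero, zmono_zero, mul_one]
  exact (toL_monomial 0 r).trans (by simp)

theorem toGlobal_bijective (n : ℕ) (R : Type u) [CommRing R] :
    Function.Bijective (Coh.toGlobal (CohB1.ProjSpace.toSpec n R)) := by
  let i₀ : Fin 1 → ULift.{u} (Fin (n + 1)) := fun _ => ⟨0⟩
  constructor
  · intro r r' h
    have e := coef_const r i₀
    rw [h, coef_const r' i₀] at e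
    exact (Finsupp.single_injective 0 (congrArg AddMonoidAlgebra.coeff e)).symm
  · intro s
    let l : Lau n R := coef i₀ (fn (inter (cover n R) i₀) s)
    have hl : ∀ e, l.coeff e ≠ 0 → e = 0 := fun e he => by
      have hA : ∀ i : Fin 1 → ULift.{u} (Fin (n + 1)), Adm 0 i e := fun i =>
        coef_support i (fn (inter (cover n R) i) s) ((congrArg (fun m : Lau n R => m.coeff e) (coef_fn_eq i i₀ s)).trans_ne he)
      have h0 : ∀ j, 0 ≤ e j := fun j => by
        rcases Nat.eq_zero_or_pos n with rfl | hn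
        · have h1 : e j = 0 := by
            refine Eq.trans ?_ (hA i₀).1
            exact (Finset.sum_eq_single j (fun b _ hb => absurd (Subsingleton.elim (α := Fin 1) b j) hb)
              (fun h => absurd (Finset.mem_univ _) h)).symm
          exact h1.ge
        · refine not_lt.mp fun hj => ?_
          obtain ⟨j', hj'⟩ : ∃ j' : Fin (n + 1), j' ≠ j := by
            have : Nontrivial (Fin (n + 1)) := Fin.nontrivial_iff_two_le.mpr (by omega)
            exact exists_ne j
          obtain ⟨a, ha⟩ := (hA fun _ => ⟨j'⟩).2 j hj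
          exact hj' ha
      ext j
      exact ((Finset.sum_eq_zero_iff_of_nonneg fun j _ => h0 j).mp (hA i₀).1) j (Finset.mem_univ j)
    refine ⟨l.coeff 0, Basic.ofFun_injective (Frac.sect_ext fun x => ?_)⟩
    obtain ⟨j, hj⟩ : ∃ j, (x.1 : CohB1.ProjSpace n R) ∈ cover n R j := by
      have hx : (x.1 : CohB1.ProjSpace n R) ∈ iSup (cover n R) := (iSup_cover (n := n) (R := R)).ge trivial
      exact Opens.mem_iSup.mp hx
    let i : Fin 1 → ULift.{u} (Fin (n + 1)) := fun _ => j
    have hx : (x.1 : CohB1.ProjSpace n R) ∈ inter (cover n R) i :=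
      (le_iInf fun _ => le_rfl : cover n R j ≤ inter (cover n R) i) hj
    have e : fn (inter (cover n R) i) (Coh.toGlobal (CohB1.ProjSpace.toSpec n R) (l.coeff 0)) =
        fn (inter (cover n R) i) s := by
      refine coef_injective i ((coef_const _ i).trans (Eq.trans ?_ (coef_fn_eq i₀ i s)))
      refine AddMonoidAlgebra.ext (Finsupp.ext fun e => ?_)
      change (AddMonoidAlgebra.single 0 (l.coeff 0)).coeff e = l.coeff e
      by_cases he : e = 0
      · subst he; simp
      · rw [AddMonoidAlgebra.coeff_single, Finsupp.single_eq_of_ne he]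
        by_contra hne; exact he (hl e (Ne.symm hne))
    exact congrArg (fun σ => Frac.val σ (⟨x.1, hx⟩ : inter (cover n R) i)) e

theorem isIso_appTop (n : ℕ) (R : Type u) [CommRing R] :
    IsIso (CohB1.ProjSpace.toSpec n R).appTop := by
  refine (ConcreteCategory.isIso_iff_bijective _).mpr ?_
  refine (Function.Bijective.of_comp_iff (CohB1.ProjSpace.toSpec n R).appTop
    (ConcreteCategory.bijective_of_isIso (Scheme.ΓSpecIso (CommRingCat.of R)).inv)).mp ?_
  exact toGlobal_bijective n R

end Groth.Agent.Lib.ProjCoh.GlobalFun
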