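import Groth.Agent.Lib.Cech.Complex
import Mathlib.CategoryTheory.Functor.Const
import Mathlib.LinearAlgebra.Matrix.Determinant.Basic
import Mathlib.Data.Finset.Card
import Mathlib.Data.Fintype.EquivFin
import Mathlib.Data.Fintype.Pigeonhole

/-!
# The cochain complex of a simplex relative to a set of vertices

A cochain of degree `q` is a function on `(q+1)`-tuples of vertices.  We study the subcomplex of
cochains which vanish on tuples not containing a given set `N` of vertices.  This is the complex of
one Laurent monomial in the Čech complex of projective space (`N` = negative exponents).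
-/

universe u

open CategoryTheory TopologicalSpace

noncomputable section

namespace Groth.Agent.Lib.ProjCoh.Monomial

variable {ι A : Type u} [AddCommGroup A]

/-- The differential. -/
def D {ι A : Type*} [AddCommGroup A] {q : ℕ} (c : (Fin (q + 1) → ι) → A) : (Fin (q + 2) → ι) → A := fun i =>
  ∑ j : Fin (q + 2), (-1 : ℤ) ^ (j : ℕ) • c (i ∘ j.succAbove)

theorem D_D {q : ℕ} (c : (Fin (q + 1) → ι) → A) (i : Fin (q + 3) → ι) : D (D c) i = 0 :=
  congr_fun (Cech.Complex.dC_dC (fun _ : ι => (⊤ : Opens (TopCat.of PUnit.{u + 1})))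
    ((Functor.const _).obj (AddCommGrpCat.of A)) q c) i

theorem D_add {q : ℕ} (b c : (Fin (q + 1) → ι) → A) (i : Fin (q + 2) → ι) :
    D (b + c) i = D b i + D c i := by
  simp [D, smul_add, Finset.sum_add_distrib]

theorem D_sub {q : ℕ} (b c : (Fin (q + 1) → ι) → A) (i : Fin (q + 2) → ι) :
    D (b - c) i = D b i - D c i := by
  simp [D, smul_sub, Finset.sum_sub_distrib]

theorem cons_comp_succAbove_succ {q : ℕ} (k : ι) (i : Fin (q + 2) → ι) (a : Fin (q + 2)) :
    (Fin.cons k i : Fin (q + 3) → ι) ∘ a.succ.succAbove =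
      (Fin.cons k (i ∘ a.succAbove) : Fin (q + 2) → ι) := by
  funext b
  induction b using Fin.cases with
  | zero => simp
  | succ b => simp [Fin.succ_succAbove_succ]

theorem cons_comp_succAbove_zero {q : ℕ} (k : ι) (i : Fin (q + 1) → ι) :
    (Fin.cons k i : Fin (q + 2) → ι) ∘ (0 : Fin (q + 2)).succAbove = i := by
  funext b; simp

/-- `D c` at a tuple with a first vertex `k` split off. -/
theorem D_cons {q : ℕ} (c : (Fin (q + 2) → ι) → A) (k : ι) (i : Fin (q + 2) → ι) :
    D c (Fin.cons k i) = c i - D (fun i' => c (Fin.cons k i')) i := by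
  rw [D, Fin.sum_univ_succ, sub_eq_add_neg, cons_comp_succAbove_zero]
  simp only [D, Fin.val_zero, pow_zero, one_smul, cons_comp_succAbove_succ, Fin.val_succ,
    pow_succ, mul_neg, mul_one, neg_smul, Finset.sum_neg_distrib]

theorem eq_of_D_cons {q : ℕ} (c : (Fin (q + 2) → ι) → A) (k : ι) (i : Fin (q + 2) → ι)
    (h : D c (Fin.cons k i) = 0) : D (fun i' => c (Fin.cons k i')) i = c i := by
  rw [D_cons, sub_eq_zero] at h; exact h.symm

/-- Off `N`: a vertex outside `N` contracts the complex. -/
theorem exists_D_eq_of_not_mem (N : Finset ι) (k : ι) (hk : k ∉ N) {q : ℕ}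
    (c : (Fin (q + 2) → ι) → A) (hc : ∀ i, ¬ (↑N ⊆ Set.range i) → c i = 0) (hd : ∀ i, D c i = 0) :
    ∃ b : (Fin (q + 1) → ι) → A, (∀ i, ¬ (↑N ⊆ Set.range i) → b i = 0) ∧ ∀ i, D b i = c i := by
  refine ⟨fun i => c (Fin.cons k i), fun i hi => hc _ fun h => hi fun x hx => ?_,
    fun i => eq_of_D_cons c k i (hd _)⟩
  rcases (Fin.range_cons k i ▸ h hx) with rfl | h'
  · exact absurd hx (by simpa using hk)
  · exact h'

theorem card_le_of_range_eq [DecidableEq ι] {m : ℕ} (i : Fin m → ι) (S : Finset ι)
    (h : (↑S : Set ι) ⊆ Set.range i) : S.card ≤ m := by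
  refine (Finset.card_le_card (t := Finset.univ.image i) fun x hx => ?_).trans
    (Finset.card_image_le.trans (by simp))
  simpa using h hx

/-- The relative complex of a full simplex `S` is exact outside the top degree. -/
theorem exists_D_eq_range [DecidableEq ι] (S : Finset ι) : ∀ {q : ℕ}, q + 2 ≠ S.card →
    ∀ c : (Fin (q + 2) → ι) → A, (∀ i, Set.range i ⊆ ↑S → Set.range i ≠ ↑S → c i = 0) →
      (∀ i, Set.range i ⊆ ↑S → D c i = 0) →
      ∃ b : (Fin (q + 1) → ι) → A, (∀ i, Set.range i ≠ ↑S → b i = 0) ∧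
        ∀ i, Set.range i ⊆ ↑S → D b i = c i := by
  classical
  induction S using Finset.strongInduction with
  | _ S IH =>
    intro q hq c hc hd
    rcases S.eq_empty_or_nonempty with rfl | ⟨a, ha⟩
    · refine ⟨0, fun _ _ => rfl, fun i hi => ?_⟩
      exact absurd (hi ⟨0, rfl⟩) (by simp)
    have hcons : ∀ {m : ℕ} (i : Fin m → ι), Set.range i ⊆ ↑S →
        Set.range (Fin.cons a i : Fin (m + 1) → ι) ⊆ ↑S := fun i hi => by
      rw [Fin.range_cons]; exact Set.insert_subset (by simpa using ha) hi
    let b₀ : (Fin (q + 1) → ι) → A := fun i =>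
      if Set.range i ⊆ ↑S then c (Fin.cons a i) else 0
    have hb₀ : ∀ i, Set.range i ⊆ ↑S → D b₀ i = c i := fun i hi => by
      refine Eq.trans ?_ (eq_of_D_cons c a i (hd _ (hcons i hi)))
      refine Finset.sum_congr rfl fun j _ => congrArg _ (if_pos ?_)
      exact (Set.range_comp_subset_range _ _).trans hi
    -- values of `b₀` on tuples avoiding `a`
    have hb₀0 : ∀ i, b₀ i ≠ 0 → Set.range i ⊆ ↑S ∧ ↑(S.erase a) ⊆ Set.range i := fun i h => by
      have hi : Set.range i ⊆ ↑S := by
        by_contra hi; exact h (if_neg hi)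
      refine ⟨hi, fun x hx => ?_⟩
      by_contra hxi
      apply h
      refine (if_pos hi).trans (hc _ (hcons i hi) fun he => hxi ?_)
      obtain ⟨hxa, hxS⟩ := Finset.mem_erase.mp (Finset.mem_coe.mp hx)
      have : x ∈ Set.range (Fin.cons a i : Fin (q + 2) → ι) := he ▸ (by simpa using hxS)
      rw [Fin.range_cons] at this
      exact this.resolve_left hxa
    rcases (S.erase a).eq_empty_or_nonempty with he | he
    · have hS : S = {a} := by
        rw [← Finset.insert_erase ha, he]
        rfl
      refine ⟨b₀, fun i hi => ?_, hb₀⟩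
      by_contra h
      obtain ⟨x, hx⟩ : (Set.range i).Nonempty := ⟨i 0, 0, rfl⟩
      have hi' := (hb₀0 i h).1
      refine hi (Set.Subset.antisymm hi' fun y hy => ?_)
      have hxa : x = a := by simpa [hS] using hi' hx
      have hya : y = a := by simpa [hS] using hy
      rwa [hya, ← hxa]
    obtain _ | q := q
    · -- tuples of length two cannot fill `S`
      refine ⟨0, fun _ _ => rfl, fun i hi => ?_⟩
      refine Eq.trans (by simp [D]) (hc i hi fun h => ?_).symm
      have h1 := card_le_of_range_eq i S h.ge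
      have h2 := he.card_pos
      rw [Finset.card_erase_of_mem ha] at h2
      omega
    let c' : (Fin (q + 2) → ι) → A := fun i =>
      if Set.range i ⊆ ↑(S.erase a) then b₀ i else 0
    have hsub : ∀ {m : ℕ} (i : Fin m → ι), Set.range i ⊆ ↑(S.erase a) → Set.range i ⊆ ↑S :=
      fun i hi => hi.trans (by simp)
    obtain ⟨h, hh0, hhd⟩ := IH (S.erase a) (Finset.erase_ssubset ha)
      (by rw [Finset.card_erase_of_mem ha]; omega) c'
      (fun i hi hne => by
        refine (if_pos hi).trans ?_
        by_contra hb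
        exact hne (Set.Subset.antisymm hi (hb₀0 i hb).2))
      (fun i hi => by
        refine Eq.trans (Finset.sum_congr rfl fun j _ => congrArg _ (if_pos ?_))
          ((hb₀ i (hsub i hi)).trans (hc i (hsub i hi) fun he' => ?_))
        · exact (Set.range_comp_subset_range _ _).trans hi
        · exact absurd (hi (he'.ge (by simpa using ha))) (by simp))
    refine ⟨fun i => if Set.range i = ↑S then b₀ i - D h i else 0, fun i hi => if_neg hi,
      fun i hi => ?_⟩
    have key : ∀ i' : Fin (q + 2) → ι, Set.range i' ⊆ ↑S →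
        (if Set.range i' = ↑S then b₀ i' - D h i' else 0) = (b₀ - D h) i' := fun i' hi' => by
      split_ifs with h'
      · rfl
      · change (0 : A) = b₀ i' - D h i'
        by_cases hia : Set.range i' ⊆ ↑(S.erase a)
        · rw [hhd i' hia]; exact ((sub_eq_zero).mpr (if_pos hia).symm).symm
        · have ha' : a ∈ Set.range i' := by
            by_contra hna
            exact hia fun x hx => by
              exact Finset.mem_coe.mpr (Finset.mem_erase.mpr
                ⟨fun (e : x = a) => hna (e ▸ hx), Finset.mem_coe.mp (hi' hx)⟩)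
          have full : ↑(S.erase a) ⊆ Set.range i' → False := fun hf =>
            h' (Set.Subset.antisymm hi' fun x hx => by
              by_cases hxa : x = a
              · exact hxa ▸ ha'
              · exact hf (Finset.mem_coe.mpr (Finset.mem_erase.mpr ⟨hxa, Finset.mem_coe.mp hx⟩)))
          have e1 : b₀ i' = 0 := by
            by_contra hb; exact full (hb₀0 i' hb).2
          have e2 : D h i' = 0 := Finset.sum_eq_zero fun j _ => by
            rw [hh0 _ fun he' => full (he'.ge.trans (Set.range_comp_subset_range _ _)), smul_zero]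
          rw [e1, e2, sub_zero]
    rw [show D (fun i => if Set.range i = ↑S then b₀ i - D h i else 0) i = D (b₀ - D h) i from
        Finset.sum_congr rfl fun j _ => congrArg _
          (key _ ((Set.range_comp_subset_range _ _).trans hi)),
      D_sub, D_D, sub_zero, hb₀ i hi]

/-- Exactness of the monomial complexes. -/
theorem exists_D_eq [Fintype ι] [DecidableEq ι] (N : Finset ι) {q : ℕ}
    (hq : N = Finset.univ → q + 2 ≠ Fintype.card ι)
    (c : (Fin (q + 2) → ι) → A) (hc : ∀ i, ¬ (↑N ⊆ Set.range i) → c i = 0) (hd : ∀ i, D c i = 0) :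
    ∃ b : (Fin (q + 1) → ι) → A, (∀ i, ¬ (↑N ⊆ Set.range i) → b i = 0) ∧ ∀ i, D b i = c i := by
  by_cases hN : N = Finset.univ
  · subst hN
    obtain ⟨b, hb, hbd⟩ := exists_D_eq_range Finset.univ (by simpa using hq rfl) c
      (fun i _ hne => hc i fun h => hne (Set.Subset.antisymm (by simp) h)) (fun i _ => hd i)
    exact ⟨b, fun i hi => hb i fun h => hi h.ge, fun i => hbd i (by simp)⟩
  · obtain ⟨k, hk⟩ : ∃ k, k ∉ N := by
      by_contra h; push Not at h; exact hN (Finset.eq_univ_of_forall h)
    exact exists_D_eq_of_not_mem N k hk c hc hd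

/-- Degree zero: cocycles are constant. -/
theorem eq_of_D_eq_zero (c : (Fin 1 → ι) → A) (hd : ∀ i, D c i = 0) (i j : Fin 1 → ι) :
    c i = c j := by
  have h := hd (![j 0, i 0])
  have e1 : (![j 0, i 0] : Fin 2 → ι) ∘ (0 : Fin 2).succAbove = i := by
    funext b; fin_cases b; rfl
  have e2 : (![j 0, i 0] : Fin 2 → ι) ∘ (1 : Fin 2).succAbove = j := by
    funext b; fin_cases b; rfl
  rw [D, Fin.sum_univ_two, e1, e2] at h
  simpa [sub_eq_zero, ← sub_eq_add_neg] using h

/-- Degree zero: a cocycle supported on tuples containing a nonempty `N` vanishes. -/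
theorem eq_zero_of_D_eq_zero [Fintype ι] (N : Finset ι) (hN : N.Nonempty)
    (hι : 1 < Fintype.card ι) (c : (Fin 1 → ι) → A) (hc : ∀ i, ¬ (↑N ⊆ Set.range i) → c i = 0)
    (hd : ∀ i, D c i = 0) (i : Fin 1 → ι) : c i = 0 := by
  obtain ⟨a, ha⟩ := hN
  obtain ⟨b, hb⟩ := Fintype.exists_ne_of_one_lt_card hι a
  refine (eq_of_D_eq_zero c hd i fun _ => b).trans (hc _ fun h => hb ?_)
  simpa [Set.range_const, eq_comm] using h (Finset.mem_coe.mpr ha)

/-! ### Top degree -/

/-- Move the vertex at position `j` to the front. -/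
theorem eq_zero_moveFront {n : ℕ} (c : (Fin (n + 2) → ι) → A)
    (hinj : ∀ i, ¬ Function.Injective i → c i = 0) (hd : ∀ i, D c i = 0)
    (i : Fin (n + 2) → ι) (hi : Function.Injective i) (h0 : c i = 0) (j : Fin (n + 2)) :
    c (Fin.cons (i j) (i ∘ j.succAbove)) = 0 := by
  have h := hd (Fin.cons (i j) i)
  rw [D_cons, h0, zero_sub, neg_eq_zero, D, Finset.sum_eq_single j] at h
  · rcases neg_one_pow_eq_or ℤ (j : ℕ) with he | he <;> rw [he] at h <;> simpa using h
  · intro l _ hl
    rw [hinj _ fun hinj' => ?_, smul_zero]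
    obtain ⟨l', hl'⟩ := Fin.exists_succAbove_eq (Ne.symm hl)
    exact Fin.succ_ne_zero l' (hinj' (a₁ := l'.succ) (a₂ := 0) (by simp [hl']))
  · simp

/-- A top degree cocycle on the full simplex is determined by one value. -/
theorem eq_zero_of_one_value {n : ℕ} [Fintype ι] (hι : Fintype.card ι = n + 2)
    (c : (Fin (n + 2) → ι) → A)
    (hinj : ∀ i, ¬ Function.Injective i → c i = 0) (hd : ∀ i, D c i = 0)
    (i₀ : Fin (n + 2) → ι) (hi₀ : Function.Injective i₀) (h0 : c i₀ = 0) (t : Fin (n + 2) → ι) :
    c t = 0 := by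
  by_cases ht : Function.Injective t
  swap; · exact hinj t ht
  -- `Q k`: some injective zero of `c` begins with the last `k` entries of `t`
  suffices Q : ∀ k ≤ n + 2, ∃ i : Fin (n + 2) → ι, Function.Injective i ∧ c i = 0 ∧
      ∀ a : Fin (n + 2), (a : ℕ) < k → ∀ b : Fin (n + 2), (b : ℕ) + k = n + 2 + (a : ℕ) →
        i a = t b by
    obtain ⟨i, -, hci, hi⟩ := Q (n + 2) le_rfl
    obtain rfl : i = t := funext fun a => hi a a.2 a (by omega)
    exact hci
  intro k
  induction k with
  | zero => exact fun _ => ⟨i₀, hi₀, h0, fun a ha => absurd ha (Nat.not_lt_zero _)⟩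
  | succ k IH =>
    intro hk
    obtain ⟨i, hiinj, hci, hi⟩ := IH (by omega)
    have hbij : Function.Bijective i :=
      (Fintype.bijective_iff_injective_and_card i).mpr ⟨hiinj, by simp [hι]⟩
    obtain ⟨j, hj⟩ := hbij.2 (t ⟨n + 1 - k, by omega⟩)
    have hj' : k ≤ (j : ℕ) := by
      by_contra hlt
      push Not at hlt
      have := hi j hlt ⟨n + 2 + (j : ℕ) - k, by omega⟩ (by simp; omega)
      have := congrArg Fin.val (ht (this.symm.trans hj))
      simp at this
      omega
    refine ⟨Fin.cons (i j) (i ∘ j.succAbove), ?_, eq_zero_moveFront c hinj hd i hiinj hci j,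
      fun a ha b hab => ?_⟩
    · refine Fin.cons_injective_iff.mpr ⟨?_, hiinj.comp Fin.succAbove_right_injective⟩
      rintro ⟨l, hl⟩
      exact Fin.succAbove_ne j l (hiinj hl)
    · induction a using Fin.cases with
      | zero =>
        rw [Fin.cons_zero, hj]
        exact congrArg t (Fin.ext (by simp at hab ⊢; omega))
      | succ l =>
        simp only [Fin.val_succ] at ha hab
        rw [Fin.cons_succ, Function.comp_apply,
          Fin.succAbove_of_castSucc_lt j l (by simp [Fin.lt_def]; omega)]
        exact hi _ (by simp; omega) b (by simp; omega)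

/-- The orientation cochain of a full simplex. -/
def orient [DecidableEq ι] {m : ℕ} (e : Fin m ≃ ι) (i : Fin m → ι) : ℤ :=
  (Matrix.of fun a b => if i a = e b then (1 : ℤ) else 0).det

theorem orient_self [DecidableEq ι] {m : ℕ} (e : Fin m ≃ ι) : orient e e = 1 := by
  rw [orient, show (Matrix.of fun a b => if e a = e b then (1 : ℤ) else 0) = 1 from ?_,
    Matrix.det_one]
  ext a b
  simp [Matrix.one_apply]

theorem orient_eq_zero [DecidableEq ι] {m : ℕ} (e : Fin m ≃ ι) (i : Fin m → ι)
    (hi : ¬ Function.Injective i) : orient e i = 0 := by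
  obtain ⟨a, b, hab, hne⟩ := Function.not_injective_iff.mp hi
  exact Matrix.det_zero_of_row_eq hne (funext fun c => by simp [hab])

theorem D_orient [DecidableEq ι] {n : ℕ} (e : Fin (n + 1) ≃ ι) (i : Fin (n + 2) → ι) :
    D (orient e) i = 0 := by
  classical
  let M : Matrix (Fin (n + 2)) (Fin (n + 2)) ℤ :=
    Matrix.of fun a b => Fin.cases 1 (fun b => if i a = e b then 1 else 0) b
  have hM : M.det = 0 := by
    obtain ⟨a, b, hne, hab⟩ := Fintype.exists_ne_map_eq_of_card_lt (fun a => e.symm (i a)) (by simp)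
    have hab' := e.symm.injective hab
    exact Matrix.det_zero_of_row_eq hne (funext fun c => by simp [M, hab'])
  rw [Matrix.det_succ_column_zero] at hM
  refine Eq.trans ?_ hM
  refine Finset.sum_congr rfl fun j _ => ?_
  rw [smul_eq_mul, show M j 0 = 1 from rfl, mul_one]
  congr 1

end Groth.Agent.Lib.ProjCoh.Monomial
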