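import Groth.Agent.Lib.ProjCoh.Sections

/-!
# Constants acting on the Laurent polynomials of sections
-/

universe u

open CategoryTheory AlgebraicGeometry TopologicalSpace Opposite MvPolynomial

noncomputable section

namespace Groth.Agent.Lib.ProjCoh.Sections

open Groth.Agent.Lib.ProjTilde

variable {n : ℕ} {R : Type u} [CommRing R] {d : ℤ} {q : ℕ}

/-! ### Scalars -/

theorem appTop_topIso_inv {X : Scheme.{u}} (U : X.Opens) (j : X ⟶ U.toScheme) (hj : j ≫ U.ι = 𝟙 X)
    (hU : ⊤ ≤ U) (s : Γ(X, U)) : j.appTop (U.topIso.inv s) = X.presheaf.map (homOfLE hU).op s := by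
  have e : U.topIso.inv s = U.ι.appTop (X.presheaf.map (homOfLE hU).op s) := by
    simp only [← CommRingCat.comp_apply]
    congr 2
    rw [Scheme.Opens.topIso, Scheme.Opens.ι_appTop]
    erw [← Functor.map_comp]
    exact congrArg X.presheaf.map (Subsingleton.elim _ _)
  rw [e, ← CommRingCat.comp_apply, ← Scheme.Hom.comp_appTop, hj]
  simp

theorem toSpecZero_appTop_val {A : Type u} [CommRing A] [Algebra R A] {𝒜 : ℕ → Submodule R A}
    [GradedAlgebra 𝒜] (a : 𝒜 0) (x : (⊤ : Opens (ProjectiveSpectrum.top 𝒜))) :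
    ((((Proj.toSpecZero 𝒜).appTop) ((Scheme.ΓSpecIso (CommRingCat.of (𝒜 0))).inv a) :
      Γ(Proj 𝒜, ⊤)) : Twist.O (𝒜 := 𝒜) (op ⊤)).1 x =
      HomogeneousLocalization.fromZeroRingHom 𝒜 _ a := by
  have hj : ((Proj 𝒜).topIso.inv ≫ ((Proj 𝒜).isoOfEq (Proj.basicOpen_one 𝒜)).inv) ≫
      (Proj.basicOpen 𝒜 (1 : A)).ι = 𝟙 (Proj 𝒜) := by
    rw [Category.assoc, Scheme.isoOfEq_inv_ι, ← Scheme.topIso_hom, Iso.inv_hom_id]
  rw [Proj.toSpecZero, ← Category.assoc, Scheme.Hom.comp_appTop, Scheme.Hom.comp_appTop]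
  have h := ConcreteCategory.congr_hom (Scheme.ΓSpecIso_inv_naturality (CommRingCat.ofHom
    (HomogeneousLocalization.fromZeroRingHom 𝒜 (Submonoid.powers (1 : A))))) a
  simp only [CommRingCat.comp_apply] at h ⊢
  erw [← h]
  rw [Scheme.Hom.appTop, Scheme.Hom.appTop, Proj.basicOpenToSpec_app_top]
  erw [ConcreteCategory.comp_apply, ConcreteCategory.comp_apply, ConcreteCategory.comp_apply,
    Iso.inv_hom_id_apply]
  erw [appTop_topIso_inv (Proj.basicOpen 𝒜 (1 : A)) _ hj (by simp)]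
  apply HomogeneousLocalization.val_injective
  refine (ProjectiveSpectrum.Proj.awayToSection_apply 𝒜 1 _
    ⟨x.1, (by simp : ⊤ ≤ Proj.basicOpen 𝒜 (1 : A)) trivial⟩).trans ?_
  have : (x.1 : ProjectiveSpectrum 𝒜).asHomogeneousIdeal.toIdeal.IsPrime := x.1.isPrime
  refine (congrArg _ (Localization.mk_one_eq_algebraMap (a : A))).trans ?_
  erw [IsLocalization.map_eq]
  exact (Localization.mk_one_eq_algebraMap (a : A)).symm

/-- A constant, as a global function on `P^n_R`. -/
theorem toGlobal_val (r : R) (x : (⊤ : Opens (ProjectiveSpectrum.top (CohB1.polyGrading n R)))) :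
    (((Coh.toGlobal (CohB1.ProjSpace.toSpec n R) r : Coh.Γtop (CohB1.ProjSpace n R)) :
      Twist.O (𝒜 := CohB1.polyGrading n R) (op ⊤)).1 x).val =
      Localization.mk (C r : S n R) 1 := by
  have h : Coh.toGlobal (CohB1.ProjSpace.toSpec n R) r =
      (Proj.toSpecZero (CohB1.polyGrading n R)).appTop
        ((Scheme.ΓSpecIso (CommRingCat.of (CohB1.polyGrading n R 0))).inv
          (algebraMap R (CohB1.polyGrading n R 0) r)) := by
    change ((Scheme.ΓSpecIso (CommRingCat.of R)).inv ≫ (Proj.toSpecZero (CohB1.polyGrading n R) ≫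
      Spec.map (CommRingCat.ofHom (algebraMap R (CohB1.polyGrading n R 0)))).appTop) r = _
    rw [Scheme.Hom.comp_appTop, ← Category.assoc, ← Scheme.ΓSpecIso_inv_naturality]
    rfl
  rw [h]
  erw [toSpecZero_appTop_val]
  rfl

theorem coef_smul (r : R) (i : Fin (q + 1) → ULift.{u} (Fin (n + 1)))
    (σ : Sect n R d (Cech.Complex.inter (cover n R) i)) :
    coef i ((Coh.smulAb (TS n R d) (Coh.toGlobal (CohB1.ProjSpace.toSpec n R) r)).hom.app
      (op (Cech.Complex.inter (cover n R) i)) σ) = r • coef i σ := by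
  obtain ⟨k, m, hσ⟩ := exists_rep i σ
  have key : Rep ((Coh.smulAb (TS n R d) (Coh.toGlobal (CohB1.ProjSpace.toSpec n R) r)).hom.app
      (op (Cech.Complex.inter (cover n R) i)) σ : Sect n R d _) (k • expo i) (C r * m) := by
    have h1 : Frac.Deg (CohB1.polyGrading n R) (((k • expo i).degree : ℤ) + d) ((C r : S n R) • m) :=
      (Frac.Deg.smul (j := 0) ((mem_homogeneousSubmodule _ _).mpr (isHomogeneous_C _ r)) hσ.deg).congr
        (by simp)
    refine ⟨h1, hσ.le, fun x hx => ?_⟩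
    refine Eq.trans (b := ((Coh.toGlobal (CohB1.ProjSpace.toSpec n R) r :
      Twist.O (𝒜 := CohB1.polyGrading n R) (op ⊤)).1 ⟨x.1, trivial⟩).val • Frac.val σ x) rfl ?_
    refine (congrArg₂ (· • ·) (toGlobal_val r ⟨x.1, trivial⟩) (hσ.val x hx)).trans ?_
    rw [LocalizedModule.mk_smul_mk, one_mul]
    rfl
  rw [coef_eq i key, coef_eq i hσ, laur, laur, map_mul, Algebra.smul_def, ← mul_assoc]
  congr 2
  exact toL.commutes r

end Groth.Agent.Lib.ProjCoh.Sections
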