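import Groth.Agent.Lib.ProjCoh.CechNat
import Groth.Agent.Lib.ProjCoh.Monomial
import Groth.Agent.Lib.ProjCoh.Scalars
import Groth.Agent.Lib.ProjTilde.QCoh
import Groth.Agent.Lib.ZarCoh.Affine
import Groth.Agent.Lib.ZarCoh.Compare
import Groth.Agent.Lib.Cech.MV
import Groth.Agent.Lib.Curves.LES
import Mathlib.RingTheory.Finiteness.Basic
import Mathlib.Data.Int.Interval

/-!
# Cohomology of `O(d)` on `P^n_R`

* `Twist.subsingleton_HH_of_ne`: `H^q(P^n_R, A(d)~) = 0` for `q ≠ 0, n`.
* `Twist.subsingleton_HH_of_neg_le`: `H^q = 0` for `q ≠ 0` when `-n ≤ d`.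
* `Twist.finite_HH`: every `H^q` is a finitely generated `R`-module.
* `Twist.subsingleton_HH_of_lt`: `H^i(P^n_R, M) = 0` for `i > n` and `M` quasi-coherent.
-/

universe u

open CategoryTheory AlgebraicGeometry TopologicalSpace Opposite

noncomputable section

namespace Groth.Agent.Lib.ProjCoh.Twist

open Groth.Agent.Lib.ProjCoh Groth.Agent.Lib.ProjCoh.Sections Groth.Agent.Lib.Cech.Complex

variable {n : ℕ} {R : Type u} [CommRing R] {d : ℤ}

/-! ### The covering -/

theorem isAffineOpen_inter {q : ℕ} (i : Fin (q + 1) → ULift.{u} (Fin (n + 1))) :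
    IsAffineOpen (inter (cover n R) i) := by
  have h := Proj.isAffineOpen_basicOpen (CohB1.polyGrading n R) (mono R (expo i)) (mono_mem _)
    (degree_expo_pos i)
  rw [inter_eq]; exact h

theorem interAcyclic (M : (CohB1.ProjSpace n R).Modules) [Coh.IsQCoh M] :
    Cech.Compare.InterAcyclic (cover n R) (Coh.toAb M) := fun _ i k =>
  haveI : M.IsQuasicoherent := ‹Coh.IsQCoh M›
  ZarCoh.Affine.HU_subsingleton M (isAffineOpen_inter i) k

/-- The twist is quasi-coherent. -/
theorem isQCoh_TS : Coh.IsQCoh (TS n R d) := ProjTilde.QCoh.tilde_isQCoh d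

theorem interAcyclic_TS : Cech.Compare.InterAcyclic (cover n R) (Coh.toAb (TS n R d)) :=
  haveI := isQCoh_TS (n := n) (R := R) (d := d)
  interAcyclic _

/-- The comparison for the standard covering. -/
def cmp (n : ℕ) (R : Type u) [CommRing R] (q : ℕ) : CechNat.Comparison (cover n R) q :=
  (CechNat.nonempty_comparison (cover n R) iSup_cover q).some

/-- `H^i(P^n_R, M) = 0` for `i > n` and `M` quasi-coherent. -/
theorem subsingleton_HH_of_lt (M : (CohB1.ProjSpace n R).Modules) [Coh.IsQCoh M] {i : ℕ} (hi : n < i) :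
    Subsingleton (Coh.HH (CohB1.ProjSpace n R) M i) := by
  have h := Cech.MV.subsingleton_HU_iSup_fin (Coh.toAb M) n (fun j => cover n R ⟨j⟩)
    (fun q a k => interAcyclic M q (fun b => ⟨a b⟩) k) i hi
  rw [show (⨆ j : Fin (n + 1), cover n R ⟨j⟩) = ⊤ from
    (Equiv.ulift.{u, 0}.symm.iSup_comp (g := cover n R)).trans iSup_cover] at h
  exact ⟨fun a b => (ZarCoh.Compare.hTop (Coh.toAb M) i).injective (h.elim _ _)⟩

/-! ### Coefficients of cochains -/

/-- Cochains of `A(d)~` on the standard covering. -/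
abbrev Coch (n : ℕ) (R : Type u) [CommRing R] (d : ℤ) (q : ℕ) : Type u :=
  Cochain (cover n R) (PS n R d) q

/-- The negative indices of an exponent. -/
def negSet (e : Fin (n + 1) →₀ ℤ) : Finset (ULift.{u} (Fin (n + 1))) :=
  Finset.univ.filter fun j => e j.down < 0

theorem adm_iff {q : ℕ} (i : Fin (q + 1) → ULift.{u} (Fin (n + 1))) (e : Fin (n + 1) →₀ ℤ) :
    Adm d i e ↔ (∑ j, e j) = d ∧ (↑(negSet.{u} e) : Set (ULift.{u} (Fin (n + 1)))) ⊆ Set.range i := by
  refine and_congr_right fun _ => ⟨fun h j hj => ?_, fun h j hj => ?_⟩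
  · obtain ⟨a, ha⟩ := h j.down (by simpa [negSet] using hj)
    exact ⟨a, ULift.ext _ _ ha⟩
  · obtain ⟨a, ha⟩ := h (show (⟨j⟩ : ULift.{u} (Fin (n + 1))) ∈ ↑(negSet.{u} e) by simpa [negSet] using hj)
    exact ⟨a, congrArg ULift.down ha⟩

variable {q : ℕ}

/-- `Sections.coef` on the values of cochains. -/
def coefC (i : Fin (q + 1) → ULift.{u} (Fin (n + 1))) :
    (PS n R d).obj (op (inter (cover n R) i)) →+ Lau n R :=
  AddMonoidHom.mk' (fun σ => coef i σ) fun σ τ => map_add (coef i) σ τ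

theorem coefC_res {p : ℕ} (i : Fin (q + 1) → ULift.{u} (Fin (n + 1)))
    (i' : Fin (p + 1) → ULift.{u} (Fin (n + 1))) (h : inter (cover n R) i ≤ inter (cover n R) i')
    (σ : (PS n R d).obj (op (inter (cover n R) i'))) :
    coefC i (res (PS n R d) h σ) = coefC i' σ := coef_res i i' h σ

theorem coefC_injective (i : Fin (q + 1) → ULift.{u} (Fin (n + 1))) :
    Function.Injective (coefC (R := R) (d := d) i) := coef_injective i

theorem coefC_smul (r : R) (i : Fin (q + 1) → ULift.{u} (Fin (n + 1)))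
    (σ : (PS n R d).obj (op (inter (cover n R) i))) :
    coefC i ((Coh.smulAb (TS n R d) (Coh.toGlobal (CohB1.ProjSpace.toSpec n R) r)).hom.app
      (op (inter (cover n R) i)) σ) = r • coefC i σ := coef_smul r i σ

theorem coefC_surj (i : Fin (q + 1) → ULift.{u} (Fin (n + 1))) (l : Lau n R)
    (hl : ∀ e, l.coeff e ≠ 0 → Adm d i e) :
    ∃ σ : (PS n R d).obj (op (inter (cover n R) i)), coefC i σ = l := coef_surj i l hl

theorem coefC_support (i : Fin (q + 1) → ULift.{u} (Fin (n + 1)))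
    (σ : (PS n R d).obj (op (inter (cover n R) i))) {e : Fin (n + 1) →₀ ℤ}
    (he : (coefC i σ).coeff e ≠ 0) : Adm d i e := coef_support i σ he

/-- The coefficient at exponent `e` of a cochain. -/
def cc (c : Coch n R d q) (e : Fin (n + 1) →₀ ℤ) (i : Fin (q + 1) → ULift.{u} (Fin (n + 1))) : R :=
  (coefC i (c i)).coeff e

theorem cc_dC (c : Coch n R d q) (e : Fin (n + 1) →₀ ℤ) :
    cc (dC (cover n R) (PS n R d) q c) e = Monomial.D (cc c e) := by
  funext i
  rw [cc, dC_apply, map_sum]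
  simp only [map_zsmul, coefC_res, AddMonoidAlgebra.coeff_sum, AddMonoidAlgebra.coeff_smul,
    Finsupp.finsetSum_apply, Finsupp.smul_apply]
  rfl

theorem cc_ext {c c' : Coch n R d q} (h : ∀ e i, cc c e i = cc c' e i) : c = c' :=
  funext fun i => coefC_injective i (AddMonoidAlgebra.ext (Finsupp.ext fun e => h e i))

theorem cc_eq_zero (c : Coch n R d q) (e : Fin (n + 1) →₀ ℤ)
    (i : Fin (q + 1) → ULift.{u} (Fin (n + 1))) (h : ¬ Adm d i e) : cc c e i = 0 := by
  by_contra hne; exact h (coefC_support i _ hne)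

/-- A cochain with prescribed coefficients. -/
theorem exists_cochain (B : Finset (Fin (n + 1) →₀ ℤ))
    (b : (Fin (n + 1) →₀ ℤ) → (Fin (q + 1) → ULift.{u} (Fin (n + 1))) → R)
    (hb : ∀ e i, b e i ≠ 0 → Adm d i e) (hB : ∀ e i, b e i ≠ 0 → e ∈ B) :
    ∃ c : Coch n R d q, ∀ e i, cc c e i = b e i := by
  classical
  let l : ∀ i : Fin (q + 1) → ULift.{u} (Fin (n + 1)), Lau n R := fun i =>
    ∑ e ∈ B, AddMonoidAlgebra.single e (b e i)
  have hl : ∀ i e, (l i).coeff e = b e i := fun i e => by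
    simp only [l, AddMonoidAlgebra.coeff_sum, Finsupp.finsetSum_apply, AddMonoidAlgebra.coeff_single,
      Finsupp.single_apply, Finset.sum_ite_eq']
    split_ifs with h
    · rfl
    · by_contra hne; exact h (hB e i (Ne.symm hne))
  choose σ hσ using fun i => coefC_surj (d := d) i (l i) fun e he => hb e i (by rwa [hl] at he)
  exact ⟨σ, fun e i => by rw [cc, hσ, hl]⟩

/-- A cocycle is a coboundary when the monomial complexes are exact. -/
theorem exists_dC_eq (c : Coch n R d (q + 1)) (hc : dC (cover n R) (PS n R d) (q + 1) c = 0)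
    (H : ∀ e : Fin (n + 1) →₀ ℤ, negSet.{u} e = Finset.univ → q + 1 = n → ∀ i, cc c e i = 0) :
    ∃ b : Coch n R d q, dC (cover n R) (PS n R d) q b = c := by
  classical
  have key : ∀ e : Fin (n + 1) →₀ ℤ, ∃ b : (Fin (q + 1) → ULift.{u} (Fin (n + 1))) → R,
      (∀ i, b i ≠ 0 → Adm d i e) ∧ (∀ i, b i ≠ 0 → ∃ j, cc c e j ≠ 0) ∧
        ∀ i, Monomial.D b i = cc c e i := by
    intro e
    by_cases h0 : ∀ i, cc c e i = 0
    · exact ⟨0, fun i h => absurd rfl h, fun i h => absurd rfl h, fun i => by simp [Monomial.D, h0]⟩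
    push Not at h0
    obtain ⟨i₀, hi₀⟩ := h0
    have hsum : (∑ j, e j) = d := (coefC_support i₀ _ hi₀).1
    have hd : ∀ i, Monomial.D (cc c e) i = 0 := fun i => by
      rw [← congr_fun (cc_dC c e) i, hc, cc, Pi.zero_apply, map_zero]
      rfl
    obtain ⟨b, hb, hbd⟩ := Monomial.exists_D_eq (negSet.{u} e)
      (fun hu h => hi₀ (H e hu (by simp at h; omega) i₀)) (cc c e)
      (fun i hi => cc_eq_zero c e i fun ha => hi ((adm_iff i e).mp ha).2) hd
    exact ⟨b, fun i hi => (adm_iff i e).mpr ⟨hsum, by by_contra h; exact hi (hb i h)⟩,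
      fun i _ => ⟨i₀, hi₀⟩, hbd⟩
  choose b hbA hbE hbd using key
  obtain ⟨β, hβ⟩ := exists_cochain (q := q)
    (Finset.univ.biUnion fun i : Fin (q + 2) → ULift.{u} (Fin (n + 1)) => (coefC i (c i)).coeff.support)
    b hbA fun e i h => by
      obtain ⟨j, hj⟩ := hbE e i h
      exact Finset.mem_biUnion.mpr ⟨j, Finset.mem_univ _, Finsupp.mem_support_iff.mpr hj⟩
  refine ⟨β, cc_ext fun e i => ?_⟩
  rw [cc_dC, show cc β e = b e from funext (hβ e)]
  exact hbd e i

/-! ### Classes in cohomology -/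

variable (n R d q) in
/-- Cocycles. -/
abbrev Z : AddSubgroup (Coch n R d q) := (dC (cover n R) (PS n R d) q).ker

/-- The class of a cocycle in cohomology. -/
def ψ (z : Z n R d q) : Coh.HH (CohB1.ProjSpace n R) (TS n R d) q :=
  ((cmp n R q).e _ interAcyclic_TS).hom (CechNat.cls (PS n R d) z.1 z.2)

theorem ψ_surjective : Function.Surjective (ψ (n := n) (R := R) (d := d) (q := q)) := fun x => by
  obtain ⟨y, rfl⟩ := (ConcreteCategory.bijective_of_isIso ((cmp n R q).e _ interAcyclic_TS).hom).2 x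
  obtain ⟨c, hc, rfl⟩ := CechNat.cls_surjective (PS n R d) y
  exact ⟨⟨c, hc⟩, rfl⟩

theorem ψ_add (z z' : Z n R d q) : ψ (z + z') = ψ z + ψ z' :=
  (congrArg _ (CechNat.cls_add (PS n R d) z.1 z'.1 z.2 z'.2)).trans (map_add _ _ _)

/-- The class map, bundled. -/
def ψHom : Z n R d q →+ Coh.HH (CohB1.ProjSpace n R) (TS n R d) q := AddMonoidHom.mk' ψ ψ_add

theorem ψ_boundary (b : Coch n R d q) :
    ψ (⟨dC (cover n R) (PS n R d) q b, dC_dC _ _ q b⟩ : Z n R d (q + 1)) = 0 :=
  (congrArg _ (CechNat.cls_eq_zero_of (PS n R d) b)).trans (map_zero _)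

/-- Multiplication of cochains by a constant. -/
def smc (r : R) (c : Coch n R d q) : Coch n R d q :=
  Cech.Complex.map (Coh.smulAb (TS n R d) (Coh.toGlobal (CohB1.ProjSpace.toSpec n R) r)).hom q c

theorem dC_smc (r : R) (z : Z n R d q) : dC (cover n R) (PS n R d) q (smc r z.1) = 0 := by
  rw [smc, ← map_dC, show dC _ _ q z.1 = 0 from z.2, map_zero]

theorem cc_smc (r : R) (c : Coch n R d q) (e : Fin (n + 1) →₀ ℤ)
    (i : Fin (q + 1) → ULift.{u} (Fin (n + 1))) : cc (smc r c) e i = r * cc c e i := by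
  rw [cc, smc, map_apply]
  rw [coefC_smul]
  rfl

theorem smul_ψ (r : R) (z : Z n R d q) : r • ψ z = ψ ⟨smc r z.1, dC_smc r z⟩ := by
  refine (ConcreteCategory.congr_hom ((cmp n R q).nat _ _
    (Coh.smulAb (TS n R d) (Coh.toGlobal (CohB1.ProjSpace.toSpec n R) r))
    interAcyclic_TS interAcyclic_TS) (CechNat.cls (PS n R d) z.1 z.2)).trans ?_
  exact congrArg _ (CechNat.cls_map (PS n R d) _ z.1 z.2)

/-! ### Vanishing -/

theorem subsingleton_of_exists_dC_eq
    (h : ∀ c : Coch n R d (q + 1), dC (cover n R) (PS n R d) (q + 1) c = 0 →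
      ∃ b, dC (cover n R) (PS n R d) q b = c) :
    Subsingleton (Coh.HH (CohB1.ProjSpace n R) (TS n R d) (q + 1)) := by
  refine subsingleton_of_forall_eq 0 fun x => ?_
  obtain ⟨⟨c, hc⟩, rfl⟩ := ψ_surjective x
  obtain ⟨b, rfl⟩ := h c hc
  exact ψ_boundary b

theorem subsingleton_HH_of_ne (n : ℕ) (R : Type u) [CommRing R] (d : ℤ) {q : ℕ} (h0 : q ≠ 0)
    (hn : q ≠ n) : Subsingleton (Coh.HH (CohB1.ProjSpace n R) (TS n R d) q) := by
  obtain ⟨p, rfl⟩ := Nat.exists_eq_succ_of_ne_zero h0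
  exact subsingleton_of_exists_dC_eq fun c hc => exists_dC_eq c hc fun e _ h => absurd h hn

theorem subsingleton_HH_of_neg_le (n : ℕ) (R : Type u) [CommRing R] {d : ℤ} (hd : -(n : ℤ) ≤ d)
    {q : ℕ} (h0 : q ≠ 0) : Subsingleton (Coh.HH (CohB1.ProjSpace n R) (TS n R d) q) := by
  obtain ⟨p, rfl⟩ := Nat.exists_eq_succ_of_ne_zero h0
  refine subsingleton_of_exists_dC_eq fun c hc => exists_dC_eq c hc fun e he _ i => ?_
  refine cc_eq_zero c e i fun ha => ?_
  have h1 : ∀ j, e j ≤ -1 := fun j => by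
    have := (Finset.mem_filter.mp (he ▸ Finset.mem_univ (⟨j⟩ : ULift.{u} (Fin (n + 1))) :
      (⟨j⟩ : ULift.{u} (Fin (n + 1))) ∈ negSet.{u} e)).2
    simp only at this
    omega
  have h2 : ∑ j, e j ≤ ∑ _j : Fin (n + 1), (-1 : ℤ) := Finset.sum_le_sum fun j _ => h1 j
  simp [ha.1] at h2
  omega

/-! ### Finiteness -/

/-- A box containing all relevant exponents. -/
def box (n : ℕ) (d : ℤ) : Finset (Fin (n + 1) →₀ ℤ) :=
  (Fintype.piFinset fun _ : Fin (n + 1) => Finset.Icc (-|d|) |d|).map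
    Finsupp.equivFunOnFinite.symm.toEmbedding

theorem mem_box {e : Fin (n + 1) →₀ ℤ} (hs : (∑ j, e j) = d)
    (h : (∀ j, 0 ≤ e j) ∨ (∀ j, e j ≤ 0)) : e ∈ box n d := by
  refine Finset.mem_map.mpr ⟨e, Fintype.mem_piFinset.mpr fun j => Finset.mem_Icc.mpr ?_, by simp⟩
  rcases h with h | h
  · have h1 : e j ≤ d := hs ▸ Finset.single_le_sum (fun i _ => h i) (Finset.mem_univ j)
    exact ⟨by linarith [h j, abs_nonneg d], h1.trans (le_abs_self d)⟩
  · have h1 : d ≤ e j := by
      have := Finset.single_le_sum (f := fun i => -e i) (fun i _ => by linarith [h i]) (Finset.mem_univ j)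
      simp only [Finset.sum_neg_distrib, hs] at this
      linarith
    exact ⟨le_trans (by linarith [neg_abs_le d]) h1, by linarith [h j, abs_nonneg d]⟩

/-- If every cocycle is an `R`-combination of a finite family modulo coboundaries then `H^q` is
finitely generated. -/
theorem finite_of_family {κ : Type*} (s : Finset κ) (g : κ → Z n R d q)
    (h : ∀ z : Z n R d q, ∃ r : κ → R,
      ψ (z - ∑ k ∈ s, (⟨smc (r k) (g k).1, dC_smc _ _⟩ : Z n R d q)) = 0) :
    Module.Finite R (Coh.HH (CohB1.ProjSpace n R) (TS n R d) q) := by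
  classical
  refine ⟨⟨s.image fun k => ψ (g k), eq_top_iff.mpr fun x _ => ?_⟩⟩
  obtain ⟨z, rfl⟩ := ψ_surjective x
  obtain ⟨r, hr⟩ := h z
  change ψHom _ = 0 at hr
  rw [map_sub, sub_eq_zero, map_sum] at hr
  change ψHom z ∈ _
  rw [hr]
  refine Submodule.sum_mem _ fun k hk => ?_
  change ψ _ ∈ _
  rw [← smul_ψ]
  exact Submodule.smul_mem _ _ (Submodule.subset_span (Finset.mem_image_of_mem _ hk))

theorem cc_sub_sum {κ : Type*} (s : Finset κ) (g : κ → Z n R d q) (r : κ → R) (z : Z n R d q)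
    (e : Fin (n + 1) →₀ ℤ) (i : Fin (q + 1) → ULift.{u} (Fin (n + 1))) :
    cc (z - ∑ k ∈ s, (⟨smc (r k) (g k).1, dC_smc _ _⟩ : Z n R d q) : Z n R d q).1 e i =
      cc z.1 e i - ∑ k ∈ s, r k * cc (g k).1 e i := by
  simp only [cc, AddSubgroup.coe_sub, AddSubgroup.val_finsetSum, Pi.sub_apply, Finset.sum_apply,
    map_sub, map_sum, AddMonoidAlgebra.coeff_sub, AddMonoidAlgebra.coeff_sum, Finsupp.sub_apply,
    Finsupp.finsetSum_apply]
  refine congrArg _ (Finset.sum_congr rfl fun k _ => ?_)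
  exact cc_smc (r k) (g k).1 e i

/-- The subset of the box relevant in degree zero. -/
theorem finite_HH_zero : Module.Finite R (Coh.HH (CohB1.ProjSpace n R) (TS n R d) 0) := by
  classical
  let G : Finset (Fin (n + 1) →₀ ℤ) :=
    (box n d).filter fun e => ∀ i : Fin 1 → ULift.{u} (Fin (n + 1)), Adm d i e
  have hg : ∀ e : G, ∃ c : Coch n R d 0, dC (cover n R) (PS n R d) 0 c = 0 ∧
      ∀ e' i, cc c e' i = if e' = e.1 then 1 else 0 := by
    intro e
    obtain ⟨c, hc⟩ := exists_cochain (q := 0) (d := d) (R := R) {e.1}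
      (fun e' _ => if e' = e.1 then 1 else 0)
      (fun e' i h => by
        obtain rfl : e' = e.1 := by by_contra hne; exact h (if_neg hne)
        exact (Finset.mem_filter.mp e.2).2 i)
      (fun e' i h => by
        obtain rfl : e' = e.1 := by by_contra hne; exact h (if_neg hne)
        simp)
    refine ⟨c, cc_ext fun e' i => ?_, hc⟩
    rw [cc_dC, show cc c e' = fun _ => _ from funext (hc e')]
    simp [Monomial.D, Fin.sum_univ_two, cc]
  choose g hg0 hg1 using hg
  refine finite_of_family (Finset.univ : Finset G) (fun e => ⟨g e, hg0 e⟩) fun z => ?_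
  let i₀ : Fin 1 → ULift.{u} (Fin (n + 1)) := fun _ => ⟨0⟩
  refine ⟨fun e => cc z.1 e.1 i₀, (congrArg ψ ?_).trans (map_zero (ψHom (n := n) (R := R) (d := d)))⟩
  refine Subtype.ext (cc_ext fun e i => ?_)
  rw [cc_sub_sum]
  simp only [hg1, mul_ite, mul_one, mul_zero]
  have hd : ∀ t, Monomial.D (cc z.1 e) t = 0 := fun t => by
    rw [← congr_fun (cc_dC z.1 e) t, show dC _ _ 0 z.1 = 0 from z.2]
    simp [cc]
  have hz : ∀ t, cc z.1 e t = cc z.1 e i := fun t => Monomial.eq_of_D_eq_zero _ hd t i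
  have hR : cc (0 : Z n R d 0).1 e i = 0 := by simp [cc]
  rw [hR, sub_eq_zero]
  by_cases he : e ∈ G
  · rw [Finset.sum_eq_single ⟨e, he⟩ (fun b _ hb => if_neg fun h => hb (Subtype.ext h.symm))
      (fun h => absurd (Finset.mem_univ _) h), if_pos rfl, hz i₀]
  · rw [Finset.sum_eq_zero fun b _ => if_neg fun (h : e = b.1) => he (h ▸ b.2)]
    by_contra hne
    apply he
    have hA : ∀ t, Adm d t e := fun t => coefC_support t _ (by
      have := hz t; unfold cc at this hne; rwa [this])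
    refine Finset.mem_filter.mpr ⟨mem_box (hA i).1 ?_, hA⟩
    rcases Nat.eq_zero_or_pos n with rfl | hn
    · rcases le_total 0 (e 0) with h | h
      · exact Or.inl fun j => by rwa [Subsingleton.elim (α := Fin 1) j 0]
      · exact Or.inr fun j => by rwa [Subsingleton.elim (α := Fin 1) j 0]
    · refine Or.inl fun j => not_lt.mp fun hj => ?_
      obtain ⟨j', hj'⟩ : ∃ j' : Fin (n + 1), j' ≠ j := by
        haveI : Nontrivial (Fin (n + 1)) := Fin.nontrivial_iff_two_le.mpr (by omega)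
        exact exists_ne j
      obtain ⟨a, ha⟩ := (hA fun _ => ⟨j'⟩).2 j hj
      exact hj' ha

/-- Finiteness in the top degree. -/
theorem finite_HH_top {m : ℕ} :
    Module.Finite R (Coh.HH (CohB1.ProjSpace (m + 1) R) (TS (m + 1) R d) (m + 1)) := by
  classical
  let σ₀ : Fin (m + 2) ≃ ULift.{u} (Fin (m + 2)) := Equiv.ulift.symm
  let G : Finset (Fin (m + 2) →₀ ℤ) :=
    (box (m + 1) d).filter fun e => (∑ j, e j) = d ∧ negSet.{u} e = Finset.univ
  have hsurj : ∀ (i : Fin (m + 2) → ULift.{u} (Fin (m + 2))), Function.Injective i →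
      Function.Surjective i := fun i hi =>
    ((Fintype.bijective_iff_injective_and_card i).mpr ⟨hi, by simp⟩).2
  have hg : ∀ e : G, ∃ c : Coch (m + 1) R d (m + 1), dC (cover (m + 1) R) (PS (m + 1) R d) (m + 1) c = 0 ∧
      ∀ e' i, cc c e' i = if e' = e.1 then (Monomial.orient σ₀ i : R) else 0 := by
    intro e
    obtain ⟨c, hc⟩ := exists_cochain (q := m + 1) (d := d) (R := R) {e.1}
      (fun e' i => if e' = e.1 then (Monomial.orient σ₀ i : R) else 0)
      (fun e' i h => by
        obtain rfl : e' = e.1 := by by_contra hne; exact h (if_neg hne)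
        refine (adm_iff i e.1).mpr ⟨(Finset.mem_filter.mp e.2).2.1, fun j _ => ?_⟩
        refine hsurj i ?_ j
        by_contra hi
        simp [Monomial.orient_eq_zero σ₀ i hi] at h)
      (fun e' i h => by
        obtain rfl : e' = e.1 := by by_contra hne; exact h (if_neg hne)
        simp)
    refine ⟨c, cc_ext fun e' t => ?_, hc⟩
    rw [cc_dC, show cc c e' = _ from funext (hc e')]
    have h := congrArg (fun x : ℤ => (x : R)) (Monomial.D_orient σ₀ t)
    simp only [Monomial.D, smul_eq_mul, Int.cast_sum, Int.cast_mul, Int.cast_pow, Int.cast_neg,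
      Int.cast_one, Int.cast_zero] at h
    split_ifs with he
    · simpa [Monomial.D, cc, zsmul_eq_mul] using h
    · simp [Monomial.D, cc]
  choose g hg0 hg1 using hg
  refine finite_of_family (Finset.univ : Finset G) (fun e => ⟨g e, hg0 e⟩) fun z => ?_
  let r : G → R := fun e => cc z.1 e.1 σ₀
  refine ⟨r, ?_⟩
  set w : Z (m + 1) R d (m + 1) :=
    z - ∑ e : G, (⟨smc (r e) (g e), dC_smc _ ⟨g e, hg0 e⟩⟩ : Z (m + 1) R d (m + 1)) with hw
  have H : ∀ e : Fin (m + 2) →₀ ℤ, negSet.{u} e = Finset.univ → m + 1 = m + 1 → ∀ i, cc w.1 e i = 0 := by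
    intro e he _ i
    have hd : ∀ t, Monomial.D (cc w.1 e) t = 0 := fun t => by
      rw [← congr_fun (cc_dC w.1 e) t, show dC _ _ _ w.1 = 0 from w.2]
      simp [cc]
    refine Monomial.eq_zero_of_one_value (by simp) (cc w.1 e) (fun t ht => ?_) hd σ₀ σ₀.injective ?_ i
    · refine cc_eq_zero _ _ _ fun ha => ht ?_
      refine Finite.injective_iff_surjective_of_equiv σ₀ |>.mpr fun j => ?_
      exact ((adm_iff t e).mp ha).2 (he.symm ▸ Finset.mem_univ j)
    · rw [hw, cc_sub_sum _ (fun e => ⟨g e, hg0 e⟩) r z e σ₀, sub_eq_zero]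
      simp only [hg1, mul_ite, Monomial.orient_self, Int.cast_one, mul_one, mul_zero]
      by_cases heG : e ∈ G
      · rw [Finset.sum_eq_single ⟨e, heG⟩ (fun b _ hb => if_neg fun h => hb (Subtype.ext h.symm))
          (fun h => absurd (Finset.mem_univ _) h), if_pos rfl]
      · rw [Finset.sum_eq_zero fun b _ => if_neg fun (h : e = b.1) => heG (h ▸ b.2)]
        by_contra hne
        have hA := coefC_support (σ₀ : Fin (m + 2) → _) _ hne
        refine heG (Finset.mem_filter.mpr ⟨mem_box hA.1 (Or.inr fun j => ?_), hA.1, he⟩)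
        have := (Finset.mem_filter.mp (he.symm ▸ Finset.mem_univ (⟨j⟩ : ULift.{u} (Fin (m + 2))) :
          (⟨j⟩ : ULift.{u} (Fin (m + 2))) ∈ negSet.{u} e)).2
        exact this.le
  obtain ⟨b, hb⟩ := exists_dC_eq w.1 w.2 H
  exact (congrArg ψ (Subtype.ext hb.symm)).trans (ψ_boundary b)

/-- Every cohomology module of `A(d)~` on `P^n_R` is finitely generated. -/
theorem finite_HH (n : ℕ) (R : Type u) [CommRing R] (d : ℤ) (q : ℕ) :
    Module.Finite R (Coh.HH (CohB1.ProjSpace n R) (TS n R d) q) := by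
  by_cases h0 : q = 0
  · subst h0; exact finite_HH_zero
  by_cases hn : q = n
  · obtain ⟨m, rfl⟩ : ∃ m, n = m + 1 := ⟨n - 1, by omega⟩
    subst hn
    exact finite_HH_top (R := R) (d := d) (m := m)
  · haveI := subsingleton_HH_of_ne n R d h0 hn
    exact ⟨⟨∅, Subsingleton.elim _ _⟩⟩

/-- The structure sheaf is `A(0)~`. -/
def structureIso (n : ℕ) (R : Type u) [CommRing R] :
    Coh.structureModule (CohB1.ProjSpace n R) ≅ TS n R 0 :=
  ProjTilde.Basic.unitIsoTilde (𝒜 := CohB1.polyGrading n R)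

theorem subsingleton_HH_structureModule (n : ℕ) (R : Type u) [CommRing R] {q : ℕ} (h0 : q ≠ 0) :
    Subsingleton (Coh.HH (CohB1.ProjSpace n R) (Coh.structureModule (CohB1.ProjSpace n R)) q) :=
  haveI := subsingleton_HH_of_neg_le n R (d := 0) (by omega) h0
  (Curves.LES.isoK R (structureIso n R) q).injective.subsingleton

theorem finite_HH_structureModule (n : ℕ) (R : Type u) [CommRing R] (q : ℕ) :
    Module.Finite R (Coh.HH (CohB1.ProjSpace n R) (Coh.structureModule (CohB1.ProjSpace n R)) q) :=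
  haveI := finite_HH n R 0 q
  Module.Finite.equiv (Curves.LES.isoK R (structureIso n R) q).symm

end Groth.Agent.Lib.ProjCoh.Twist
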