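import Groth.Agent.Lib.ProjCoh.Duality
import Groth.Agent.Lib.ExtHH.Basic
import Mathlib.LinearAlgebra.Dual.Lemmas

/-!
# Serre duality on `P^n_k`

`SerreDual.nonempty_equiv`: for a coherent `M` on `P^n_k` and `i + j = n`,
`Ext^i(M, A(-n-1)~) ≅ H^j(M)^∨`; `SerreDual.subsingleton_ext`: `Ext^i(M, A(-n-1)~) = 0` for `i > n`.
-/

universe u

open CategoryTheory CategoryTheory.Limits AlgebraicGeometry

noncomputable section

namespace Groth.Agent.Lib.ProjCoh.SerreDual

open CategoryTheory.Abelian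
open Groth.Agent.Lib Groth.Agent.Lib.ProjCoh.Sections Groth.Agent.Lib.ProjCoh.Coherent
open Groth.Agent.Lib.TensorMod.Basic

/-! ### Linear algebra -/

section Algebra

variable {k : Type u} [Field k]

theorem exact_dualMap {A B C : Type u} [AddCommGroup A] [Module k A] [AddCommGroup B] [Module k B]
    [AddCommGroup C] [Module k C] {f : A →ₗ[k] B} {g : B →ₗ[k] C} (h : Function.Exact f g) :
    Function.Exact g.dualMap f.dualMap := by
  rw [LinearMap.exact_iff, LinearMap.ker_dualMap_eq_dualAnnihilator_range,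
    LinearMap.range_dualMap_eq_dualAnnihilator_ker, (LinearMap.exact_iff.mp h)]

theorem nonempty_equiv_of_exact {A B C A' B' C' : Type*} [AddCommGroup A] [Module k A] [AddCommGroup B]
    [Module k B] [AddCommGroup C] [Module k C] [AddCommGroup A'] [Module k A'] [AddCommGroup B']
    [Module k B'] [AddCommGroup C'] [Module k C'] (f : A →ₗ[k] B) (δ : B →ₗ[k] C)
    (hδ : Function.Surjective δ) (hex : Function.Exact f δ) (f' : A' →ₗ[k] B') (δ' : B' →ₗ[k] C')
    (hδ' : Function.Surjective δ') (hex' : Function.Exact f' δ') (eA : A ≃ₗ[k] A') (eB : B ≃ₗ[k] B')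
    (hcomm : ∀ a, eB (f a) = f' (eA a)) : Nonempty (C ≃ₗ[k] C') := by
  have hker : LinearMap.ker δ = LinearMap.ker (δ'.comp eB.toLinearMap) := by
    ext b
    rw [LinearMap.mem_ker, LinearMap.mem_ker, LinearMap.comp_apply]
    refine ⟨fun h => ?_, fun h => ?_⟩
    · obtain ⟨a, rfl⟩ := (hex b).1 h
      exact (hex' _).2 ⟨eA a, (hcomm a).symm⟩
    · obtain ⟨a', ha'⟩ := (hex' _).1 h
      refine (hex b).2 ⟨eA.symm a', eB.injective ?_⟩
      rw [hcomm, eA.apply_symm_apply, ha']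
      rfl
  exact ⟨(δ.quotKerEquivOfSurjective hδ).symm ≪≫ₗ Submodule.quotEquivOfEq _ _ hker ≪≫ₗ
    (δ'.comp eB.toLinearMap).quotKerEquivOfSurjective (hδ'.comp eB.surjective)⟩

end Algebra

/-! ### Generalities on `Ext` -/

section Ext

variable {X : Scheme.{u}} [HasExt.{u} X.Modules] (k : Type u) [CommRing k]
  [X.Over (Spec (CommRingCat.of k))]

/-- Precomposition. -/
def pre {M N : X.Modules} {a : ℕ} (α : Ext.{u} M N a) (Y : X.Modules) {b c : ℕ} (h : a + b = c) :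
    Ext.{u} N Y b →ₗ[k] Ext.{u} M Y c where
  toFun x := α.comp x h
  map_add' x y := Ext.comp_add _ _ _ _
  map_smul' r x := Ext.comp_smul _ _ _ _

variable {S : ShortComplex X.Modules} (hS : S.ShortExact) (Y : X.Modules)

theorem exact_pre₁ {a b : ℕ} (h : 1 + a = b) :
    Function.Exact (pre k (Ext.mk₀ S.f) Y (zero_add a)) (pre k hS.extClass Y h) :=
  (ShortComplex.ab_exact_iff_function_exact _).mp (Ext.contravariant_sequence_exact₁' hS Y a b h)

theorem exact_pre₃ {a b : ℕ} (h : 1 + a = b) :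
    Function.Exact (pre k hS.extClass Y h) (pre k (Ext.mk₀ S.g) Y (zero_add b)) :=
  (ShortComplex.ab_exact_iff_function_exact _).mp (Ext.contravariant_sequence_exact₃' hS Y a b h)

theorem surjective_pre {a b : ℕ} (h : 1 + a = b) (h₂ : Subsingleton (Ext.{u} S.X₂ Y b)) :
    Function.Surjective (pre k hS.extClass Y h) := fun x =>
  ((exact_pre₃ k hS Y h) x).1 (Subsingleton.elim _ _)

theorem injective_pre {a b : ℕ} (h : 1 + a = b) (h₂ : Subsingleton (Ext.{u} S.X₂ Y a)) :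
    Function.Injective (pre k hS.extClass Y h) := by
  refine (injective_iff_map_eq_zero _).2 fun x hx => ?_
  obtain ⟨y, rfl⟩ := ((exact_pre₁ k hS Y h) x).1 hx
  rw [Subsingleton.elim y 0, map_zero]

theorem subsingleton_ext_sigma (T Y : X.Modules) (m q : ℕ) (h : Subsingleton (Ext.{u} T Y q)) :
    Subsingleton (Ext.{u} (∐ fun _ : Fin m => T) Y q) := by
  classical
  let ι : Fin m → (T ⟶ ∐ fun _ : Fin m => T) := fun i => Sigma.ι (fun _ : Fin m => T) i
  let π : Fin m → ((∐ fun _ : Fin m => T) ⟶ T) := fun i => Sigma.desc fun j => if j = i then 𝟙 T else 0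
  have htot : ∑ i, π i ≫ ι i = 𝟙 _ := Sigma.hom_ext _ _ fun j => by
    rw [Preadditive.comp_sum, Category.comp_id, Finset.sum_eq_single j]
    · simp [π, ι]
    · intro b _ hb; simp [π, ι, Ne.symm hb]
    · simp
  refine subsingleton_of_forall_eq 0 fun x => ?_
  have hsum : ∀ s : Finset (Fin m), (Ext.mk₀ (∑ i ∈ s, π i ≫ ι i)).comp x (zero_add q) = 0 := fun s => by
    induction s using Finset.induction_on with
    | empty => simp
    | insert a s ha ih =>
      rw [Finset.sum_insert ha, Ext.mk₀_add, Ext.add_comp, ih, add_zero, ← Ext.mk₀_comp_mk₀,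
        Ext.comp_assoc _ _ _ (zero_add 0) (zero_add q) (by omega),
        Subsingleton.elim ((Ext.mk₀ (ι a)).comp x (zero_add q)) 0, Ext.comp_zero]
  rw [← Ext.mk₀_id_comp x, ← htot]
  exact hsum _

end Ext

/-! ### The twists -/

section Twist

variable {n : ℕ} {R : Type u} [CommRing R] [HasExt.{u} (CohB1.ProjSpace n R).Modules]

/-- `A(a)~ ⊗ O(d) ≅ A(a + d)~`. -/
def tsTensor (a d : ℤ) : CohB1.tensorMod (TS n R a) (tw n R d) ≅ TS n R (a + d) :=
  ProjTilde.Tensor.tensorTwistIso (𝒜 := CohB1.polyGrading n R) (ℳ := CohB1.polyGrading n R) hcov a d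

theorem subsingleton_ext_equiv {X : Scheme.{u}} [HasExt.{u} X.Modules] (F : X.Modules ⥤ X.Modules)
    [F.Additive] [F.IsEquivalence] (M Y : X.Modules) (q : ℕ)
    (h : Subsingleton (Ext.{u} (F.obj M) (F.obj Y) q)) : Subsingleton (Ext.{u} M Y q) := by
  refine (ExtHH.Basic.comp_bijective F (𝟙 (F.obj M)) (fun Z => ?_) (fun I hI p => ?_) Y q).1.subsingleton
  · have e : (fun f : M ⟶ Z => 𝟙 (F.obj M) ≫ F.map f) = F.map := funext fun f => Category.id_comp _
    rw [e]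
    exact ⟨F.map_injective, F.map_surjective⟩
  · haveI := hI
    have := Functor.preservesInjectiveObjects_of_adjunction_of_preservesMonomorphisms
      F.asEquivalence.symm.toAdjunction
    have : Injective (F.obj I) := F.injective_obj I
    exact subsingleton_of_forall_eq 0 fun x => Ext.eq_zero_of_injective x

theorem subsingleton_ext_iso {X : Scheme.{u}} [HasExt.{u} X.Modules] {M M' Y Y' : X.Modules}
    (e : M ≅ M') (e' : Y ≅ Y') (q : ℕ) (h : Subsingleton (Ext.{u} M' Y' q)) :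
    Subsingleton (Ext.{u} M Y q) := by
  refine subsingleton_of_forall_eq 0 fun x => ?_
  have h0 : ((Ext.mk₀ e.inv).comp x (zero_add q)).comp (Ext.mk₀ e'.hom) (add_zero q) = 0 :=
    Subsingleton.elim _ _
  have h1 : (Ext.mk₀ e.hom).comp ((Ext.mk₀ e.inv).comp x (zero_add q)) (zero_add q) = x := by
    rw [← Ext.comp_assoc _ _ _ (zero_add 0) (zero_add q) (by omega), Ext.mk₀_comp_mk₀, e.hom_inv_id,
      Ext.mk₀_id_comp]
  have h2 : (((Ext.mk₀ e.inv).comp x (zero_add q)).comp (Ext.mk₀ e'.hom) (add_zero q)).comp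
      (Ext.mk₀ e'.inv) (add_zero q) = (Ext.mk₀ e.inv).comp x (zero_add q) := by
    rw [Ext.comp_assoc _ _ _ (add_zero q) (add_zero 0) (by omega), Ext.mk₀_comp_mk₀, e'.hom_inv_id,
      Ext.comp_mk₀_id]
  rw [← h1, ← h2, h0, Ext.zero_comp, Ext.comp_zero]

theorem subsingleton_ext_TS {a b : ℤ} (h : -(n : ℤ) ≤ b - a) {q : ℕ} (hq : q ≠ 0) :
    Subsingleton (Ext.{u} (TS n R a) (TS n R b) q) := by
  refine subsingleton_ext_equiv (tensorBy (tw n R (-a))) _ _ q ?_
  refine subsingleton_ext_iso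
    (tsTensor a (-a) ≪≫ eqToIso (congrArg (TS n R) (add_neg_cancel a)) ≪≫ (Twist.structureIso n R).symm)
    (tsTensor b (-a)) q ?_
  have := Twist.subsingleton_HH_of_neg_le n R (d := b + -a) (by omega) hq
  exact (ExtHH.Basic.extUnitEquiv R (TS n R (b + -a)) q).injective.subsingleton

omit [HasExt.{u} (CohB1.ProjSpace n R).Modules] in
theorem subsingleton_hom_neg (hn : 0 < n) {a b : ℤ} (h : b < a) :
    Subsingleton (TS n R a ⟶ TS n R b) := by
  refine ⟨fun φ ψ => ?_⟩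
  obtain ⟨g, hg, rfl⟩ := Mul.exists_eq_mul φ
  obtain ⟨g', hg', rfl⟩ := Mul.exists_eq_mul ψ
  have key : ∀ g₁ : Lau n R, Mul.Glob (b - a) g₁ → g₁ = 0 := fun g₁ h₁ =>
    AddMonoidAlgebra.ext (Finsupp.ext fun f => by
      by_contra hf
      have hpos : ∀ l, 0 ≤ f l := fun l => by
        by_contra hl
        obtain ⟨j, hj⟩ := Top.exists_ne_of_pos hn l
        obtain ⟨_, ha⟩ := (h₁ f hf ⟨j⟩).2 l (not_le.mp hl)
        exact hj ha
      have h2 : 0 ≤ ∑ l, f l := Finset.sum_nonneg fun l _ => hpos l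
      rw [(h₁ f hf ⟨0⟩).1] at h2
      omega)
  obtain rfl := key g hg
  obtain rfl := key g' hg'
  rfl

theorem subsingleton_HH_zero_neg (hn : 0 < n) {d : ℤ} (hd : d < 0) :
    Subsingleton (Coh.HH (CohB1.ProjSpace n R) (TS n R d) 0) := by
  have h := subsingleton_hom_neg (n := n) (R := R) hn hd
  have : Subsingleton (Coh.structureModule (CohB1.ProjSpace n R) ⟶ TS n R d) :=
    ⟨fun φ ψ => (cancel_epi (Twist.structureIso n R).inv).1 (Subsingleton.elim _ _)⟩
  have h1 : Subsingleton (Ext.{u} (Coh.structureModule (CohB1.ProjSpace n R)) (TS n R d) 0) :=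
    Ext.addEquiv₀.injective.subsingleton
  exact (ExtHH.Basic.extUnitEquiv R (TS n R d) 0).symm.injective.subsingleton

theorem subsingleton_HH_sumTS_lt {m : ℕ} (hm : 1 ≤ m) (k : ℕ) {q : ℕ} (hq : q < n) :
    Subsingleton (Coh.HH (CohB1.ProjSpace n R) (sumTS n R k (-(m : ℤ))) q) := by
  refine subsingleton_HH_sumTS k ?_
  rcases eq_or_ne q 0 with rfl | h0
  · exact subsingleton_HH_zero_neg hq (by omega)
  · exact Twist.subsingleton_HH_of_ne n R _ h0 hq.ne

omit [HasExt.{u} (CohB1.ProjSpace n R).Modules] in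
/-- A coherent module is a quotient of a sum of arbitrarily negative twists. -/
theorem exists_epi_ge (M : (CohB1.ProjSpace n R).Modules) (hM : Coh.IsCoh M) (N : ℕ) :
    ∃ (k m : ℕ) (p : sumTS n R k (-(m : ℤ)) ⟶ M), N ≤ m ∧ Epi p := by
  obtain ⟨m₀, hm⟩ := Ample.GG.eventually_genAt_twist (HProj.QuasiProj.isAmple_twist_projSpace n R) M hM
  obtain ⟨j⟩ := nonempty_tensorPow_iso (n := n) (R := R) (max m₀ N)
  let e : CohB1.tensorMod M (CohB1.tensorPow (tw n R 1) (max m₀ N)) ≅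
      CohB1.tensorMod M (tw n R ((max m₀ N : ℕ) : ℤ)) := tensorIso (Iso.refl M) j.symm
  have hc : Coh.IsCoh (CohB1.tensorMod M (tw n R ((max m₀ N : ℕ) : ℤ))) := isCoh_tensorMod hM (isCoh_tw _)
  obtain ⟨k, p, hp⟩ := Gen.exists_epi_freeMod hc fun x => (hm _ (le_max_left _ _) x).of_iso e
  obtain ⟨i⟩ := nonempty_freeMod_tensor (n := n) (R := R) k (-((max m₀ N : ℕ) : ℤ))
  obtain ⟨r, hr⟩ := @exists_epi_of_twist _ _ _ _ _ _
    (twCancel ((max m₀ N : ℕ) : ℤ) (-((max m₀ N : ℕ) : ℤ)) (by omega)) p hp i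
  exact ⟨k, max m₀ N, r, le_max_right _ _, hr⟩

omit [HasExt.{u} (CohB1.ProjSpace n R).Modules] in
theorem exists_resolution [IsNoetherianRing R] (M : (CohB1.ProjSpace n R).Modules) (hM : Coh.IsCoh M)
    (N : ℕ) : ∃ (k m : ℕ) (S : ShortComplex (CohB1.ProjSpace n R).Modules),
      N ≤ m ∧ S.ShortExact ∧ Coh.IsCoh S.X₁ ∧ S.X₂ = sumTS n R k (-(m : ℤ)) ∧ S.X₃ = M := by
  obtain ⟨k, m, p, hN, hp⟩ := exists_epi_ge M hM N
  exact ⟨k, m, ShortComplex.mk (kernel.ι p) p (kernel.condition p), hN,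
    { exact := ShortComplex.exact_of_f_is_kernel _ (kernelIsKernel p), epi_g := hp },
    CohBasics.Closure.isCoh_kernel p (isCoh_sumTS k _) hM.1, rfl, rfl⟩

theorem subsingleton_ext_sumTS {m : ℕ} (hm : 1 ≤ m) (k : ℕ) {q : ℕ} (hq : q ≠ 0) :
    Subsingleton (Ext.{u} (sumTS n R k (-(m : ℤ))) (Duality.ω n R) q) :=
  subsingleton_ext_sigma _ _ k q (subsingleton_ext_TS (by omega) hq)

end Twist

/-! ### Duality -/

section Main

variable {n : ℕ} {k : Type u} [Field k]

theorem mapK_smul {X : Scheme.{u}} (A : Type u) [CommRing A] [X.Over (Spec (CommRingCat.of A))]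
    {M N : X.Modules} (r : A) (φ : M ⟶ N) (q : ℕ) (x : Coh.HH X M q) :
    Curves.LES.mapK A (r • φ) q x = r • Curves.LES.mapK A φ q x := by
  rw [KLin.smul_def, Curves.LES.mapK_comp, LinearMap.comp_apply, ← map_smul]
  rfl

/-- `φ ↦ tr ∘ H^n(φ)`. -/
def θ₀ (M : (CohB1.ProjSpace n k).Modules) :
    (M ⟶ Duality.ω n k) →ₗ[k] Module.Dual k (Coh.HH (CohB1.ProjSpace n k) M n) where
  toFun φ := (Top.tr n k).comp (Curves.LES.mapK k φ n)
  map_add' φ ψ := LinearMap.ext fun x =>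
    (congrArg (Top.tr n k) (mapK_add k φ ψ n x)).trans (map_add _ _ _)
  map_smul' r φ := LinearMap.ext fun x =>
    (congrArg (Top.tr n k) (mapK_smul k r φ n x)).trans (map_smul _ _ _)

theorem θ₀_bijective (M : (CohB1.ProjSpace n k).Modules) (hM : Coh.IsCoh M) :
    Function.Bijective (θ₀ M) := by
  refine ⟨fun φ ψ h => ?_, fun ℓ => ?_⟩
  · obtain ⟨χ, -, hu⟩ := Duality.existsUnique_hom M hM (θ₀ M φ)
    exact (hu φ fun x => rfl).trans (hu ψ fun x => congrArg (fun f : Module.Dual k _ => f x) h).symm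
  · obtain ⟨φ, hφ, -⟩ := Duality.existsUnique_hom M hM ℓ
    exact ⟨φ, LinearMap.ext fun x => (hφ x).symm⟩

variable [HasExt.{u} (CohB1.ProjSpace n k).Modules]

/-- Duality in degree zero. -/
def θ (M : (CohB1.ProjSpace n k).Modules) (hM : Coh.IsCoh M) :
    Ext.{u} M (Duality.ω n k) 0 ≃ₗ[k] Module.Dual k (Coh.HH (CohB1.ProjSpace n k) M n) :=
  (Ext.linearEquiv₀ (R := k)).trans (LinearEquiv.ofBijective (θ₀ M) (θ₀_bijective M hM))

theorem θ_mk₀ (M : (CohB1.ProjSpace n k).Modules) (hM : Coh.IsCoh M) (φ : M ⟶ Duality.ω n k) :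
    θ M hM (Ext.mk₀ φ) = (Top.tr n k).comp (Curves.LES.mapK k φ n) := by
  have e : Ext.linearEquiv₀ (R := k) (Ext.mk₀ φ) = φ := Ext.addEquiv₀.apply_symm_apply φ
  rw [θ, LinearEquiv.trans_apply, e]
  rfl

theorem θ_natural {M N : (CohB1.ProjSpace n k).Modules} (hM : Coh.IsCoh M) (hN : Coh.IsCoh N)
    (f : M ⟶ N) (x : Ext.{u} N (Duality.ω n k) 0) :
    θ M hM (pre k (Ext.mk₀ f) _ (zero_add 0) x) = (Curves.LES.mapK k f n).dualMap (θ N hN x) := by
  obtain ⟨φ, rfl⟩ := (Ext.mk₀_bijective _ _).2 x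
  change θ M hM ((Ext.mk₀ f).comp (Ext.mk₀ φ) (zero_add 0)) = _
  rw [Ext.mk₀_comp_mk₀, θ_mk₀, θ_mk₀, Curves.LES.mapK_comp]
  rfl

theorem nonempty_step_zero {S : ShortComplex (CohB1.ProjSpace n k).Modules} (hS : S.ShortExact)
    (h1 : Coh.IsCoh S.X₁) (h2 : Coh.IsCoh S.X₂) {j : ℕ} (hj : j + 1 = n)
    (hv : Subsingleton (Ext.{u} S.X₂ (Duality.ω n k) 1))
    (hH : Subsingleton (Coh.HH (CohB1.ProjSpace n k) S.X₂ j)) :
    Nonempty (Ext.{u} S.X₃ (Duality.ω n k) 1 ≃ₗ[k] Module.Dual k (Coh.HH (CohB1.ProjSpace n k) S.X₃ j)) := by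
  have hinj : Function.Injective (Curves.LES.δK k hS j n hj) := by
    refine (injective_iff_map_eq_zero _).2 fun x hx => ?_
    obtain ⟨y, rfl⟩ := (Curves.LES.exactK₃ k hS j n hj x).1 hx
    rw [Subsingleton.elim y 0, map_zero]
  exact nonempty_equiv_of_exact (pre k (Ext.mk₀ S.f) _ (zero_add 0)) (pre k hS.extClass _ rfl)
    (surjective_pre k hS _ rfl hv) (exact_pre₁ k hS _ rfl)
    (Curves.LES.mapK k S.f n).dualMap (Curves.LES.δK k hS j n hj).dualMap
    (LinearMap.dualMap_surjective_of_injective hinj) (exact_dualMap (Curves.LES.exactK₁ k hS j n hj))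
    (θ S.X₂ h2) (θ S.X₁ h1) fun x => θ_natural h1 h2 S.f x

theorem nonempty_step_succ {S : ShortComplex (CohB1.ProjSpace n k).Modules} (hS : S.ShortExact)
    {i j : ℕ} (e : Ext.{u} S.X₁ (Duality.ω n k) i ≃ₗ[k]
      Module.Dual k (Coh.HH (CohB1.ProjSpace n k) S.X₁ (j + 1)))
    (hv : Subsingleton (Ext.{u} S.X₂ (Duality.ω n k) i))
    (hv' : Subsingleton (Ext.{u} S.X₂ (Duality.ω n k) (i + 1)))
    (hH : Subsingleton (Coh.HH (CohB1.ProjSpace n k) S.X₂ j))
    (hH' : Subsingleton (Coh.HH (CohB1.ProjSpace n k) S.X₂ (j + 1))) :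
    Nonempty (Ext.{u} S.X₃ (Duality.ω n k) (i + 1) ≃ₗ[k]
      Module.Dual k (Coh.HH (CohB1.ProjSpace n k) S.X₃ j)) := by
  have hb : Function.Bijective (Curves.LES.δK k hS j (j + 1) rfl) := by
    refine ⟨(injective_iff_map_eq_zero _).2 fun x hx => ?_, fun y => ?_⟩
    · obtain ⟨z, rfl⟩ := (Curves.LES.exactK₃ k hS j (j + 1) rfl x).1 hx
      rw [Subsingleton.elim z 0, map_zero]
    · exact (Curves.LES.exactK₁ k hS j (j + 1) rfl y).1 (Subsingleton.elim _ _)
  let δ : Ext.{u} S.X₁ (Duality.ω n k) i →ₗ[k] Ext.{u} S.X₃ (Duality.ω n k) (i + 1) :=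
    pre k hS.extClass _ (Nat.add_comm 1 i)
  exact ⟨(LinearEquiv.ofBijective δ ⟨injective_pre k hS _ _ hv, surjective_pre k hS _ _ hv'⟩).symm ≪≫ₗ
    e ≪≫ₗ (LinearEquiv.ofBijective (Curves.LES.δK k hS j (j + 1) rfl) hb).dualMap⟩

/-- Serre duality. -/
theorem nonempty_equiv (i : ℕ) : ∀ (j : ℕ), i + j = n → ∀ (M : (CohB1.ProjSpace n k).Modules),
    Coh.IsCoh M → Nonempty (Ext.{u} M (Duality.ω n k) i ≃ₗ[k]
      Module.Dual k (Coh.HH (CohB1.ProjSpace n k) M j)) := by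
  induction i with
  | zero => intro j hj M hM; rw [zero_add] at hj; subst hj; exact ⟨θ M hM⟩
  | succ i ih =>
    intro j hj M hM
    obtain ⟨c, m, S, hm, hS, h1, h2, rfl⟩ := exists_resolution M hM 1
    have hv : ∀ {q : ℕ}, q ≠ 0 → Subsingleton (Ext.{u} S.X₂ (Duality.ω n k) q) := fun hq =>
      h2 ▸ subsingleton_ext_sumTS hm c hq
    have hH : ∀ {q : ℕ}, q < n → Subsingleton (Coh.HH (CohB1.ProjSpace n k) S.X₂ q) := fun hq =>
      h2 ▸ subsingleton_HH_sumTS_lt hm c hq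
    rcases Nat.eq_zero_or_pos i with rfl | hi
    · exact nonempty_step_zero hS h1 (h2 ▸ isCoh_sumTS c _) (j := j) (by omega)
        (hv (Nat.succ_ne_zero 0)) (hH (by omega))
    · obtain ⟨e⟩ := ih (j + 1) (by omega) S.X₁ h1
      exact nonempty_step_succ hS e (hv hi.ne') (hv (Nat.succ_ne_zero i)) (hH (by omega)) (hH (by omega))

theorem subsingleton_ext_succ (M : (CohB1.ProjSpace n k).Modules) (hM : Coh.IsCoh M) :
    Subsingleton (Ext.{u} M (Duality.ω n k) (n + 1)) := by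
  obtain ⟨c, m, S, hm, hS, h1, h2, rfl⟩ := exists_resolution M hM 1
  have hv : Subsingleton (Ext.{u} S.X₂ (Duality.ω n k) (n + 1)) :=
    h2 ▸ subsingleton_ext_sumTS hm c (Nat.succ_ne_zero n)
  have hs : Function.Surjective (pre k hS.extClass (Duality.ω n k) (Nat.add_comm 1 n)) :=
    surjective_pre k hS _ _ hv
  have := hS.mono_f
  refine subsingleton_of_forall_eq 0 fun x => ?_
  obtain ⟨y, rfl⟩ := hs x
  rcases Nat.eq_zero_or_pos n with hn | hn
  · subst hn
    have hf : Function.Surjective (Curves.LES.mapK k S.f 0).dualMap :=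
      LinearMap.dualMap_surjective_of_injective (Curves.LES.mapK_injective_of_mono k S.f)
    have h2' : Coh.IsCoh S.X₂ := h2 ▸ isCoh_sumTS c _
    obtain ⟨l, hl⟩ := hf (θ S.X₁ h1 y)
    refine ((exact_pre₁ k hS _ (Nat.add_comm 1 0)) y).2 ⟨(θ S.X₂ h2').symm l, ?_⟩
    apply (θ S.X₁ h1).injective
    rw [θ_natural h1 h2', LinearEquiv.apply_symm_apply, hl]
  · obtain ⟨e⟩ := nonempty_equiv n 0 rfl S.X₁ h1
    have : Subsingleton (Coh.HH (CohB1.ProjSpace n k) S.X₂ 0) := h2 ▸ subsingleton_HH_sumTS_lt hm c hn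
    have := (Curves.LES.mapK_injective_of_mono k S.f).subsingleton
    have := e.injective.subsingleton
    rw [Subsingleton.elim y 0, map_zero]

/-- `Ext^i(M, A(-n-1)~) = 0` for `i > n`. -/
theorem subsingleton_ext {i : ℕ} (hi : n < i) (M : (CohB1.ProjSpace n k).Modules) (hM : Coh.IsCoh M) :
    Subsingleton (Ext.{u} M (Duality.ω n k) i) := by
  induction i, hi using Nat.le_induction generalizing M with
  | base => exact subsingleton_ext_succ M hM
  | succ i hi ih =>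
    obtain ⟨c, m, S, hm, hS, h1, h2, rfl⟩ := exists_resolution M hM 1
    have hv : Subsingleton (Ext.{u} S.X₂ (Duality.ω n k) (i + 1)) :=
      h2 ▸ subsingleton_ext_sumTS hm c (Nat.succ_ne_zero i)
    have := ih S.X₁ h1
    exact (surjective_pre k hS _ (Nat.add_comm 1 i) hv).subsingleton

/-- Serre duality for `O(-n-1)`. -/
theorem nonempty_equiv_tw {i j : ℕ} (h : i + j = n) (M : (CohB1.ProjSpace n k).Modules)
    (hM : Coh.IsCoh M) : Nonempty (Ext.{u} M (tw n k (-((n : ℤ) + 1))) i ≃ₗ[k]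
      Module.Dual k (Coh.HH (CohB1.ProjSpace n k) M j)) := by
  obtain ⟨e⟩ := nonempty_equiv i j h M hM
  refine ⟨LinearEquiv.ofLinearMap
    { toFun := fun x => x.comp (Ext.mk₀ (twIso (-((n : ℤ) + 1))).hom) (add_zero i)
      map_add' := fun x y => Ext.add_comp _ _ _ _
      map_smul' := fun r x => Ext.smul_comp _ _ _ _ }
    { toFun := fun x => x.comp (Ext.mk₀ (twIso (-((n : ℤ) + 1))).inv) (add_zero i)
      map_add' := fun x y => Ext.add_comp _ _ _ _
      map_smul' := fun r x => Ext.smul_comp _ _ _ _ } ?_ ?_ ≪≫ₗ e⟩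
  · refine LinearMap.ext fun x => ?_
    simp
  · refine LinearMap.ext fun x => ?_
    simp

theorem subsingleton_ext_tw {i : ℕ} (hi : n < i) (M : (CohB1.ProjSpace n k).Modules) (hM : Coh.IsCoh M) :
    Subsingleton (Ext.{u} M (tw n k (-((n : ℤ) + 1))) i) :=
  subsingleton_ext_iso (Iso.refl M) (twIso _) i (subsingleton_ext hi M hM)

end Main

end Groth.Agent.Lib.ProjCoh.SerreDual
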