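import Groth.Agent.Lib.Cech.Compare
import Groth.Agent.Lib.ZarCoh.Basic
import Mathlib.Algebra.Homology.DerivedCategory.Ext.ExtClass
import Mathlib.Algebra.Homology.HomologySequenceLemmas

/-!
# The comparison of Čech and sheaf cohomology, natural in the sheaf
-/

universe u

open CategoryTheory CategoryTheory.Limits CategoryTheory.Abelian TopologicalSpace Opposite

noncomputable section

namespace Groth.Agent.Lib.ProjCoh.CechNat

open Groth.Agent.Lib.Cech Groth.Agent.Lib.Cech.Complex Groth.Agent.Lib.Cech.Sections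
open Groth.Agent.Lib.Cech.Compare Groth.Agent.Lib.Cech.Acyclic

variable {X : TopCat.{u}} {ι : Type u} (U : ι → Opens X)

theorem interAcyclic_injective (F : CohTop.Ab X) [Injective F] : InterAcyclic U F := fun q i n =>
  haveI := Groth.Agent.Lib.ZarCoh.Basic.isFlasque_of_injective F
  Groth.Agent.Lib.ZarCoh.Basic.HU_flasque F _ n

/-! ### Sheaf cohomology as objects of `AddCommGrpCat` -/

section Aux

variable {C : Type*} [Category C] [Abelian C] [HasExt.{u} C]

theorem extClass_natural_aux {S S' : ShortComplex C} (hS : S.ShortExact) (hS' : S'.ShortExact)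
    (τ : S ⟶ S') {K : C} {p : ℕ} (x : Ext.{u} K S.X₃ p) :
    (x.comp hS.extClass rfl).comp (Ext.mk₀ τ.τ₁) (add_zero (p + 1)) =
      (x.comp (Ext.mk₀ τ.τ₃) (add_zero p)).comp hS'.extClass rfl := by
  rw [Ext.comp_assoc_of_third_deg_zero, hS.extClass_naturality hS' τ,
    ← Ext.comp_assoc_of_second_deg_zero]

theorem comp_extClass_aux {S : ShortComplex C} (hS : S.ShortExact) {K : C} {p : ℕ}
    (x : Ext.{u} K S.X₂ p) : (x.comp (Ext.mk₀ S.g) (add_zero p)).comp hS.extClass rfl = 0 := by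
  rw [Ext.comp_assoc_of_second_deg_zero, hS.comp_extClass, Ext.comp_zero]

theorem cancel_aux {A B A' B' H H' G G' : C} (δ : A ⟶ B) [Epi δ] (e : B ⟶ H) (a : A ⟶ G) (d : G ⟶ H)
    (δ' : A' ⟶ B') {e' : B' ⟶ H'} {a' : A' ⟶ G'} {d' : G' ⟶ H'} (m₁ : H ⟶ H') (m₃ : G ⟶ G')
    (c₁ : B ⟶ B') (c₃ : A ⟶ A') (h₁ : δ ≫ e = a ≫ d) (h₂ : δ' ≫ e' = a' ≫ d')
    (h₃ : d ≫ m₁ = m₃ ≫ d') (h₄ : a ≫ m₃ = c₃ ≫ a') (h₅ : δ ≫ c₁ = c₃ ≫ δ') :
    e ≫ m₁ = c₁ ≫ e' := by
  rw [← cancel_epi δ, reassoc_of% h₁, h₃, reassoc_of% h₄, ← h₂, reassoc_of% h₅]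

end Aux


/-- `H^p(X, F)` as an object of `AddCommGrpCat`. -/
def HG (F : CohTop.Ab X) (p : ℕ) : AddCommGrpCat.{u} := AddCommGrpCat.of (CohTop.H F p)

/-- `H^p` of a morphism. -/
def hMap {F G : CohTop.Ab X} (φ : F ⟶ G) (p : ℕ) : HG F p ⟶ HG G p :=
  AddCommGrpCat.ofHom (Sheaf.H.map φ p)

/-- The connecting morphism. -/
def hDelta {S : ShortComplex (CohTop.Ab X)} (hS : S.ShortExact) (p : ℕ) :
    HG S.X₃ p ⟶ HG S.X₁ (p + 1) :=
  AddCommGrpCat.ofHom (hS.extClass.postcomp _ rfl)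

/-- `H^0` is the global sections. -/
def hZero (F : CohTop.Ab X) : F.obj.obj (op ⊤) ≅ HG F 0 :=
  (Sheaf.H.equiv₀ F (T := (⊤ : Opens X)) isTerminalTop).symm.toAddCommGrpIso

theorem hZero_natural {F G : CohTop.Ab X} (φ : F ⟶ G) :
    (hZero F).hom ≫ hMap φ 0 = φ.hom.app (op ⊤) ≫ (hZero G).hom := by
  ext s
  exact Sheaf.H.equiv₀_symm_naturality (f := φ) (hT := isTerminalTop) s

theorem hDelta_natural {S S' : ShortComplex (CohTop.Ab X)} (hS : S.ShortExact) (hS' : S'.ShortExact)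
    (τ : S ⟶ S') (p : ℕ) :
    hDelta hS p ≫ hMap τ.τ₁ (p + 1) = hMap τ.τ₃ p ≫ hDelta hS' p :=
  AddCommGrpCat.hom_ext (AddMonoidHom.ext fun x => extClass_natural_aux hS hS' τ x)

theorem hMap_comp_hDelta {S : ShortComplex (CohTop.Ab X)} (hS : S.ShortExact) (p : ℕ) :
    hMap S.g p ≫ hDelta hS p = 0 :=
  AddCommGrpCat.hom_ext (AddMonoidHom.ext fun x => comp_extClass_aux hS x)

theorem exists_hMap_eq {S : ShortComplex (CohTop.Ab X)} (hS : S.ShortExact) (p : ℕ) (z : HG S.X₃ p)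
    (hz : hDelta hS p z = 0) : ∃ x : HG S.X₂ p, hMap S.g p x = z := by
  obtain ⟨x, hx⟩ := Ext.covariant_sequence_exact₃ ((constantSheaf (Opens.grothendieckTopology X)
    AddCommGrpCat.{u}).obj (AddCommGrpCat.of (ULift ℤ))) hS _ rfl hz
  exact ⟨x, hx⟩

theorem hDelta_surjective {S : ShortComplex (CohTop.Ab X)} (hS : S.ShortExact) [Injective S.X₂] (p : ℕ) :
    Function.Surjective (hDelta hS p) := fun y => by
  obtain ⟨x, hx⟩ := Ext.covariant_sequence_exact₁ ((constantSheaf (Opens.grothendieckTopology X)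
    AddCommGrpCat.{u}).obj (AddCommGrpCat.of (ULift ℤ))) hS y (Ext.eq_zero_of_injective _) (n₀ := p) rfl
  exact ⟨x, hx⟩

/-! ### The comparison -/

theorem equivOfKerEq_apply {G A B : Type u} [AddCommGroup G] [AddCommGroup A] [AddCommGroup B]
    (φ : G →+ A) (ψ : G →+ B) (hφ : Function.Surjective φ) (hψ : Function.Surjective ψ)
    (h : φ.ker = ψ.ker) (g : G) : equivOfKerEq φ ψ hφ hψ h (φ g) = ψ g := by
  have h1 : (QuotientAddGroup.quotientKerEquivOfSurjective φ hφ).symm (φ g) = QuotientAddGroup.mk g := by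
    rw [AddEquiv.symm_apply_eq]; rfl
  simp only [equivOfKerEq, AddEquiv.trans_apply, h1]
  rfl

/-- The map of Čech cohomology induced by a morphism of sheaves. -/
abbrev cMap {F G : CohTop.Ab X} (φ : F ⟶ G) (p : ℕ) :
    CohTop.cechH F.obj U p ⟶ CohTop.cechH G.obj U p :=
  HomologicalComplex.homologyMap ((cechComplexFunctor U).map φ.hom) p

/-- Čech cohomology and sheaf cohomology in degree `p`, identified naturally in acyclic sheaves. -/
structure Comparison (p : ℕ) where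
  /-- The identification. -/
  e : ∀ F : CohTop.Ab X, InterAcyclic U F → (CohTop.cechH F.obj U p ≅ HG F p)
  nat : ∀ (F G : CohTop.Ab X) (φ : F ⟶ G) (hF : InterAcyclic U F) (hG : InterAcyclic U G),
    (e F hF).hom ≫ hMap φ p = cMap U φ p ≫ (e G hG).hom

/-- The comparison map in degree `0`. -/
def zeroE (hcov : iSup U = ⊤) (F : CohTop.Ab X) : CohTop.cechH F.obj U 0 ≅ HG F 0 :=
  haveI : IsIso (toH0 U F.obj) := (ConcreteCategory.isIso_iff_bijective _).mpr (toH0_bijective U hcov F)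
  (asIso (toH0 U F.obj)).symm ≪≫ hZero F

theorem toH0_zeroE (hcov : iSup U = ⊤) (F : CohTop.Ab X) :
    toH0 U F.obj ≫ (zeroE U hcov F).hom = (hZero F).hom := by
  haveI : IsIso (toH0 U F.obj) := (ConcreteCategory.isIso_iff_bijective _).mpr (toH0_bijective U hcov F)
  exact IsIso.hom_inv_id_assoc (toH0 U F.obj) (hZero F).hom

theorem zeroE_natural (hcov : iSup U = ⊤) {F G : CohTop.Ab X} (φ : F ⟶ G) :
    (zeroE U hcov F).hom ≫ hMap φ 0 = cMap U φ 0 ≫ (zeroE U hcov G).hom := by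
  haveI : IsIso (toH0 U F.obj) := (ConcreteCategory.isIso_iff_bijective _).mpr (toH0_bijective U hcov F)
  rw [← cancel_epi (toH0 U F.obj), ← Category.assoc, toH0_zeroE, hZero_natural, ← toH0_zeroE U hcov G,
    ← Category.assoc, toH0_naturality, Category.assoc]

/-- The comparison in degree `0`. -/
def comparisonZero (hcov : iSup U = ⊤) : Comparison U 0 :=
  ⟨fun F _ => zeroE U hcov F, fun _ _ φ _ _ => zeroE_natural U hcov φ⟩

variable {U}

/-- The connecting morphism of Čech cohomology. -/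
def δc {S : ShortComplex (CohTop.Ab X)} (hC : (cxShort U S).ShortExact) (p : ℕ) :
    CohTop.cechH S.X₃.obj U p ⟶ CohTop.cechH S.X₁.obj U (p + 1) := hC.δ p (p + 1) rfl

theorem cMap_comp_δc {S : ShortComplex (CohTop.Ab X)} (hC : (cxShort U S).ShortExact) (p : ℕ) :
    cMap U S.g p ≫ δc hC p = 0 := hC.comp_δ p (p + 1) rfl

theorem exists_cMap_eq {S : ShortComplex (CohTop.Ab X)} (hC : (cxShort U S).ShortExact) (p : ℕ)
    (z : CohTop.cechH S.X₃.obj U p) (hz : δc hC p z = 0) : ∃ w, cMap U S.g p w = z :=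
  (ShortComplex.ab_exact_iff _).mp (hC.homology_exact₃ p (p + 1) rfl) z hz

theorem epi_δc {S : ShortComplex (CohTop.Ab X)} [Injective S.X₂] (hC : (cxShort U S).ShortExact)
    (p : ℕ) : Epi (δc hC p) :=
  have hI : IsZero ((cxShort U S).X₂.homology (p + 1)) :=
    (isZero_homology_succ_iff U S.X₂.obj p).mpr (exactSucc_of_injective U S.X₂ p)
  (hC.homology_exact₁ p (p + 1) rfl).epi_f (hI.eq_of_tgt _ _)

theorem map_square {A B A' B' : CohTop.Ab X} {a : A ⟶ A'} {b : B ⟶ B'} {f : A ⟶ B} {f' : A' ⟶ B'}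
    (h : a ≫ f' = f ≫ b) :
    (cechComplexFunctor U).map a.hom ≫ (cechComplexFunctor U).map f'.hom =
      (cechComplexFunctor U).map f.hom ≫ (cechComplexFunctor U).map b.hom := by
  have h' := congrArg (sheafToPresheaf _ _).map h
  rw [Functor.map_comp, Functor.map_comp] at h'
  rw [← Functor.map_comp, ← Functor.map_comp]
  exact congrArg (cechComplexFunctor U).map h'

theorem δc_natural {S S' : ShortComplex (CohTop.Ab X)} (τ : S ⟶ S')
    (hC : (cxShort U S).ShortExact) (hC' : (cxShort U S').ShortExact) (p : ℕ) :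
    δc hC p ≫ cMap U τ.τ₁ (p + 1) = cMap U τ.τ₃ p ≫ δc hC' p := by
  let τc : cxShort U S ⟶ cxShort U S' :=
    ShortComplex.homMk
      ((cechComplexFunctor U).map τ.τ₁.hom) ((cechComplexFunctor U).map τ.τ₂.hom)
      ((cechComplexFunctor U).map τ.τ₃.hom)
      (map_square τ.comm₁₂) (map_square τ.comm₂₃)
  exact HomologicalComplex.HomologySequence.δ_naturality τc hC hC' p (p + 1) rfl

theorem iso_of_ker_aux {A B H : AddCommGrpCat.{u}} (δ : A ⟶ B) (ψ : A ⟶ H)
    (hδ : Function.Surjective δ) (hψ : Function.Surjective ψ) (h : ∀ z, δ z = 0 ↔ ψ z = 0) :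
    ∃ e : B ≅ H, δ ≫ e.hom = ψ := by
  have hker : δ.hom.ker = ψ.hom.ker := AddSubgroup.ext fun z => h z
  exact ⟨(equivOfKerEq δ.hom ψ.hom hδ hψ hker).toAddCommGrpIso,
    AddCommGrpCat.hom_ext (AddMonoidHom.ext fun z => equivOfKerEq_apply _ _ hδ hψ hker z)⟩

theorem succ_iso_aux {A₂ A B H H₂ G : AddCommGrpCat.{u}} (g : A₂ ⟶ A) (δ : A ⟶ B) [Epi δ]
    (gh : H₂ ⟶ H) (d : H ⟶ G) (e : A ≅ H) (e₂ : A₂ ≅ H₂) (hnat : e₂.hom ≫ gh = g ≫ e.hom)
    (hδ : g ≫ δ = 0) (hδ' : ∀ z, δ z = 0 → ∃ w, g w = z) (hd : gh ≫ d = 0)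
    (hd' : ∀ z, d z = 0 → ∃ w, gh w = z) (hds : Function.Surjective d) :
    ∃ f : B ≅ G, δ ≫ f.hom = e.hom ≫ d := by
  refine iso_of_ker_aux δ (e.hom ≫ d) ((AddCommGrpCat.epi_iff_surjective δ).mp inferInstance)
    (hds.comp (ConcreteCategory.bijective_of_isIso e.hom).2) fun z => ⟨fun hz => ?_, fun hz => ?_⟩
  · obtain ⟨w, rfl⟩ := hδ' z hz
    show (g ≫ e.hom ≫ d) w = 0
    rw [← reassoc_of% hnat, hd, comp_zero]
    rfl
  · obtain ⟨x, hx⟩ := hd' _ hz
    obtain ⟨w, rfl⟩ := (ConcreteCategory.bijective_of_isIso e₂.hom).2 x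
    obtain rfl : g w = z := (ConcreteCategory.bijective_of_isIso e.hom).1
      ((ConcreteCategory.congr_hom hnat w).symm.trans hx)
    exact ConcreteCategory.congr_hom hδ w

/-- The data for one dimension shift. -/
theorem exists_succ_gen {p : ℕ} (C : Comparison U p) {S : ShortComplex (CohTop.Ab X)} (hS : S.ShortExact)
    [Injective S.X₂] (hC : (cxShort U S).ShortExact) (h3 : InterAcyclic U S.X₃) :
    ∃ e : CohTop.cechH S.X₁.obj U (p + 1) ≅ HG S.X₁ (p + 1),
      δc hC p ≫ e.hom = (C.e S.X₃ h3).hom ≫ hDelta hS p :=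
  haveI := epi_δc hC p
  succ_iso_aux (cMap U S.g p) (δc hC p) (hMap S.g p) (hDelta hS p) (C.e S.X₃ h3)
    (C.e S.X₂ (interAcyclic_injective U S.X₂)) (C.nat S.X₂ S.X₃ S.g (interAcyclic_injective U S.X₂) h3)
    (cMap_comp_δc hC p) (exists_cMap_eq hC p) (hMap_comp_hDelta hS p) (exists_hMap_eq hS p)
    (hDelta_surjective hS p)

/-- The morphism of dimension shifting sequences induced by a morphism of sheaves. -/
theorem exists_cokerSeq_hom {F G : CohTop.Ab X} (φ : F ⟶ G) :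
    ∃ τ : cokerSeq (Injective.ι F) ⟶ cokerSeq (Injective.ι G), τ.τ₁ = φ := by
  let ψ : Injective.under F ⟶ Injective.under G := Injective.factorThru (φ ≫ Injective.ι G) (Injective.ι F)
  have hψ : Injective.ι F ≫ ψ = φ ≫ Injective.ι G := Injective.comp_factorThru _ _
  refine ⟨ShortComplex.homMk φ ψ (cokernel.map _ _ φ ψ hψ) hψ.symm ?_, rfl⟩
  simp [cokerSeq]

instance injective_cokerSeq (F : CohTop.Ab X) : Injective (cokerSeq (Injective.ι F)).X₂ :=
  inferInstanceAs (Injective (Injective.under F))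

theorem shortExact_next (F : CohTop.Ab X) (hF : InterAcyclic U F) :
    (cxShort U (cokerSeq (Injective.ι F))).ShortExact :=
  shortExact_cxShort (cokerSeq_shortExact (Injective.ι F)) hF

theorem interAcyclic_next (F : CohTop.Ab X) (hF : InterAcyclic U F) :
    InterAcyclic U (cokerSeq (Injective.ι F)).X₃ :=
  interAcyclic_X₃ (cokerSeq_shortExact (Injective.ι F)) hF

/-- The comparison one degree up. -/
def eSucc {p : ℕ} (C : Comparison U p) (F : CohTop.Ab X) (hF : InterAcyclic U F) :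
    CohTop.cechH F.obj U (p + 1) ≅ HG F (p + 1) :=
  (exists_succ_gen C (cokerSeq_shortExact (Injective.ι F)) (shortExact_next F hF)
    (interAcyclic_next F hF)).choose

theorem eSucc_δ {p : ℕ} (C : Comparison U p) (F : CohTop.Ab X) (hF : InterAcyclic U F) :
    δc (shortExact_next F hF) p ≫ (eSucc C F hF).hom =
      (C.e (cokerSeq (Injective.ι F)).X₃ (interAcyclic_next F hF)).hom ≫
        hDelta (cokerSeq_shortExact (Injective.ι F)) p :=
  (exists_succ_gen C (cokerSeq_shortExact (Injective.ι F)) (shortExact_next F hF)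
    (interAcyclic_next F hF)).choose_spec

theorem succ_natural_of {S S' : ShortComplex (CohTop.Ab X)} (hS : S.ShortExact) (hS' : S'.ShortExact)
    [Injective S.X₂] (τ : S ⟶ S') {p : ℕ} (hC : (cxShort U S).ShortExact)
    (hC' : (cxShort U S').ShortExact)
    (e : CohTop.cechH S.X₁.obj U (p + 1) ⟶ HG S.X₁ (p + 1))
    (e' : CohTop.cechH S'.X₁.obj U (p + 1) ⟶ HG S'.X₁ (p + 1))
    (a : CohTop.cechH S.X₃.obj U p ⟶ HG S.X₃ p) (a' : CohTop.cechH S'.X₃.obj U p ⟶ HG S'.X₃ p)
    (h₁ : δc hC p ≫ e = a ≫ hDelta hS p)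
    (h₂ : δc hC' p ≫ e' = a' ≫ hDelta hS' p)
    (h₄ : a ≫ hMap τ.τ₃ p = cMap U τ.τ₃ p ≫ a') :
    e ≫ hMap τ.τ₁ (p + 1) = cMap U τ.τ₁ (p + 1) ≫ e' :=
  haveI := epi_δc hC p
  cancel_aux (δc hC p) e a (hDelta hS p) (δc hC' p)
    (hMap τ.τ₁ (p + 1)) (hMap τ.τ₃ p) (cMap U τ.τ₁ (p + 1)) (cMap U τ.τ₃ p) h₁ h₂
    (hDelta_natural hS hS' τ p) h₄ (δc_natural τ hC hC' p)

theorem eSucc_natural {p : ℕ} (C : Comparison U p) (F G : CohTop.Ab X) (φ : F ⟶ G)
    (hF : InterAcyclic U F) (hG : InterAcyclic U G) :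
    (eSucc C F hF).hom ≫ hMap φ (p + 1) = cMap U φ (p + 1) ≫ (eSucc C G hG).hom := by
  obtain ⟨τ, hτ⟩ := exists_cokerSeq_hom φ
  subst hτ
  exact succ_natural_of (S := cokerSeq (Injective.ι F)) (S' := cokerSeq (Injective.ι G))
    (cokerSeq_shortExact (Injective.ι F)) (cokerSeq_shortExact (Injective.ι G)) τ
    (shortExact_next F hF) (shortExact_next G hG)
    (eSucc C F hF).hom (eSucc C G hG).hom
    (C.e _ (interAcyclic_next F hF)).hom (C.e _ (interAcyclic_next G hG)).hom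
    (eSucc_δ C F hF) (eSucc_δ C G hG)
    (C.nat _ _ τ.τ₃ (interAcyclic_next F hF) (interAcyclic_next G hG))

/-- The comparison one degree up, as a comparison. -/
def comparisonSucc {p : ℕ} (C : Comparison U p) : Comparison U (p + 1) :=
  ⟨eSucc C, eSucc_natural C⟩

variable (U)

/-- A comparison in every degree, for a covering. -/
theorem nonempty_comparison (hcov : iSup U = ⊤) (p : ℕ) : Nonempty (Comparison U p) := by
  induction p with
  | zero => exact ⟨comparisonZero U hcov⟩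
  | succ p ih => exact ih.map comparisonSucc

/-! ### Classes of cocycles -/

variable {U} (P : (Opens X)ᵒᵖ ⥤ AddCommGrpCat.{u})

theorem exists_cycle {p : ℕ} (x : (cx U P).X p) (hx : (cx U P).d p (p + 1) x = 0) :
    ∃ w, (cx U P).iCycles p w = x :=
  (ShortComplex.ab_exact_iff _).mp (ShortComplex.exact_of_f_is_kernel
    (ShortComplex.mk _ _ ((cx U P).iCycles_d p (p + 1)))
    ((cx U P).cyclesIsKernel p (p + 1) (by simp))) x hx

/-- The class of a Čech cocycle. -/
def cls {p : ℕ} (c : Cochain U P p) (hc : dC U P p c = 0) : CohTop.cechH P U p :=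
  (cx U P).homologyπ p (exists_cycle P ((equiv U P p).symm c) ((equiv U P (p + 1)).injective (by
      refine (equiv_d U P p _).trans ?_
      rw [AddEquiv.apply_symm_apply, hc, map_zero]))).choose

theorem cls_eq {p : ℕ} (c : Cochain U P p) (hc : dC U P p c = 0) (w : (cx U P).cycles p)
    (hw : equiv U P p ((cx U P).iCycles p w) = c) : cls P c hc = (cx U P).homologyπ p w := by
  refine congrArg _ ((AddCommGrpCat.mono_iff_injective ((cx U P).iCycles p)).mp inferInstance ?_)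
  apply (equiv U P p).injective
  exact (congrArg (equiv U P p) (Exists.choose_spec (exists_cycle P ((equiv U P p).symm c)
    ((equiv U P (p + 1)).injective (by
      refine (equiv_d U P p _).trans ?_
      rw [AddEquiv.apply_symm_apply, hc, map_zero]))))).trans
    ((AddEquiv.apply_symm_apply _ _).trans hw.symm)

theorem exists_rep {p : ℕ} (c : Cochain U P p) (hc : dC U P p c = 0) :
    ∃ w, equiv U P p ((cx U P).iCycles p w) = c ∧ cls P c hc = (cx U P).homologyπ p w := by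
  obtain ⟨w, hw⟩ := exists_cycle P ((equiv U P p).symm c) ((equiv U P (p + 1)).injective (by
      refine (equiv_d U P p _).trans ?_
      rw [AddEquiv.apply_symm_apply, hc, map_zero]))
  have h : equiv U P p ((cx U P).iCycles p w) = c := by rw [hw, AddEquiv.apply_symm_apply]
  exact ⟨w, h, cls_eq P c hc w h⟩

theorem cls_surjective {p : ℕ} (z : CohTop.cechH P U p) : ∃ c hc, cls P (U := U) c hc = z := by
  obtain ⟨w, rfl⟩ := (AddCommGrpCat.epi_iff_surjective ((cx U P).homologyπ p)).mp inferInstance z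
  refine ⟨equiv U P p ((cx U P).iCycles p w), ?_, cls_eq P _ _ w rfl⟩
  refine (equiv_d U P p _).symm.trans ?_
  rw [← ConcreteCategory.comp_apply, HomologicalComplex.iCycles_d]
  simp

theorem cls_eq_zero_of {p : ℕ} (b : Cochain U P p) :
    cls P (dC U P p b) (dC_dC U P p b) = 0 := by
  obtain ⟨y, rfl⟩ := (equiv U P p).surjective b
  rw [cls_eq P _ _ ((cx U P).toCycles p (p + 1) y) (by
    rw [← ConcreteCategory.comp_apply, HomologicalComplex.toCycles_i, equiv_d]),
    ← ConcreteCategory.comp_apply, HomologicalComplex.toCycles_comp_homologyπ]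
  rfl

theorem exists_of_cls_eq_zero {p : ℕ} (c : Cochain U P (p + 1)) (hc : dC U P (p + 1) c = 0)
    (h : cls P c hc = 0) : ∃ b, dC U P p b = c := by
  obtain ⟨w, hw, hw'⟩ := exists_rep P c hc
  have hex := ShortComplex.exact_of_g_is_cokernel
    (ShortComplex.mk _ _ ((cx U P).toCycles_comp_homologyπ p (p + 1)))
    ((cx U P).homologyIsCokernel p (p + 1) (by simp))
  obtain ⟨y, hy⟩ := (ShortComplex.ab_exact_iff _).mp hex w (hw'.symm.trans h)
  refine ⟨equiv U P p y, ?_⟩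
  rw [← equiv_d, ← hw, ← hy]
  change _ = equiv U P (p + 1) (((cx U P).toCycles p (p + 1) ≫ (cx U P).iCycles (p + 1)) y)
  rw [HomologicalComplex.toCycles_i]

theorem cls_map {Q : (Opens X)ᵒᵖ ⥤ AddCommGrpCat.{u}} (φ : P ⟶ Q) {p : ℕ} (c : Cochain U P p)
    (hc : dC U P p c = 0) :
    HomologicalComplex.homologyMap ((cechComplexFunctor U).map φ) p (cls P c hc) =
      cls Q (Complex.map φ p c) (by rw [← map_dC, hc, map_zero]) := by
  obtain ⟨w, hw, hw'⟩ := exists_rep P c hc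
  rw [hw', cls_eq Q _ _ (HomologicalComplex.cyclesMap ((cechComplexFunctor U).map φ) p w) (by
    rw [← ConcreteCategory.comp_apply, HomologicalComplex.cyclesMap_i, ConcreteCategory.comp_apply,
      equiv_naturality, hw]),
    ← ConcreteCategory.comp_apply, HomologicalComplex.homologyπ_naturality, ConcreteCategory.comp_apply]

theorem cls_add {p : ℕ} (c c' : Cochain U P p) (hc : dC U P p c = 0) (hc' : dC U P p c' = 0) :
    cls P (c + c') (by rw [map_add, hc, hc', add_zero]) = cls P c hc + cls P c' hc' := by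
  obtain ⟨w, hw, hw'⟩ := exists_rep P c hc
  obtain ⟨v, hv, hv'⟩ := exists_rep P c' hc'
  refine (cls_eq P _ _ (w + v) (by rw [map_add, map_add, hw, hv])).trans ?_
  rw [map_add, hw', hv']

end Groth.Agent.Lib.ProjCoh.CechNat
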