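import Groth.Agent.Lib.ProjCoh.TwistVanish
import Groth.Agent.Lib.WeilExt.Basic
import Groth.Agent.Lib.ProjSpace.Basic
import Groth.Agent.Lib.LCFin.Duality
import Groth.Agent.Lib.Dim.Local
import Groth.Agent.Lib.Dim.Basic

/-!
# Twist vanishing on `P^n_k` and local cohomology of the stalks at closed points
-/

universe u

noncomputable section

open CategoryTheory AlgebraicGeometry TopologicalSpace

namespace Groth.Agent.Lib.ProjCoh.StalkLC

open Groth.Agent.Lib Groth.Agent.Lib.ProjCoh.Coherent Groth.Agent.Lib.ProjSpace.Basic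

section Algebra

variable {R : Type u} [CommRing R] [LocCoh.IsGorensteinLocalRing R]

/-- Local duality as an equivalence of vanishings. -/
theorem subsingleton_H_iff_ext (d : ℕ) (hd : ringKrullDim R = d) (M : Type u) [AddCommGroup M]
    [Module R M] [Module.Finite R M] {i j : ℕ} (hij : i + j = d) :
    Subsingleton (LocCoh.H (IsLocalRing.maximalIdeal R) i M) ↔
      Subsingleton (Abelian.Ext (ModuleCat.of R M) (ModuleCat.of R R) j) := by
  obtain ⟨e⟩ := LCFin.Duality.exists_duality d hd M hij
  obtain ⟨g, hg⟩ := LCFin.Gorenstein.exists_isInjectiveHull R d hd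
  refine e.toEquiv.subsingleton_congr.trans ⟨fun h => ?_, fun h =>
    ⟨fun φ ψ => LinearMap.ext fun z => by rw [Subsingleton.elim z 0, map_zero, map_zero]⟩⟩
  exact subsingleton_of_forall_eq 0 fun z => InjHull.Matlis.eq_zero_of_forall_dual hg fun φ => by
    rw [Subsingleton.elim φ 0, LinearMap.zero_apply]

end Algebra

variable {n : ℕ} {k : Type u} [Field k]

local notation "ℙ" => CohB1.ProjSpace n k

theorem isGorenstein_stalk (x : ℙ) : LocCoh.IsGorensteinLocalRing ((CohB1.ProjSpace n k).presheaf.stalk x) :=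
  haveI := WeilExt.Basic.isRegularLocalRing_stalk (CohB1.ProjSpace.toSpec n k) x
  Goren.Basic.isGorensteinLocalRing_of_isRegular _

theorem ringKrullDim_stalk_spec (A : CommRingCat.{u}) (y : Spec A) :
    ringKrullDim ((Spec A).presheaf.stalk y) = y.asIdeal.height := by
  haveI : y.asIdeal.IsPrime := y.2
  letI : Algebra A ((Spec A).presheaf.stalk y) := StructureSheaf.stalkAlgebra A y
  haveI : IsLocalization.AtPrime ((Spec A).presheaf.stalk y) y.asIdeal :=
    StructureSheaf.IsLocalization.to_stalk A y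
  exact IsLocalization.AtPrime.ringKrullDim_eq_height y.asIdeal _

theorem ringKrullDim_stalk_of_isClosed (x : ℙ) (hx : IsClosed ({x} : Set ℙ)) :
    ringKrullDim ((CohB1.ProjSpace n k).presheaf.stalk x) = (n : WithBot ℕ∞) := by
  obtain ⟨i, y, rfl⟩ := exists_mem_opensRange_chartι n k x
  have hy : IsClosed ({y} : Set (Spec (CommRingCat.of (MvPolynomial (Fin n) k)))) := by
    have := hx.preimage (chartι k i).continuous
    rwa [← Set.image_singleton, Set.preimage_image_eq _ (chartι k i).isOpenEmbedding.injective] at this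
  haveI : y.asIdeal.IsMaximal := (PrimeSpectrum.isClosed_singleton_iff_isMaximal y).1 hy
  rw [ringKrullDim_eq_of_ringEquiv (asIso ((chartι k i).stalkMap y)).commRingCatIsoToRingEquiv]
  refine Eq.trans (ringKrullDim_stalk_spec _ y) ?_
  rw [Dim.Local.height_maximal k y.asIdeal]
  have h := Dim.Basic.ringKrullDim_eq_trdegNat k (MvPolynomial (Fin n) k)
  rw [Dim.Basic.ringKrullDim_mvPolynomial, Nat.card_fin] at h
  exact h.symm

theorem iff_localCohomology (F : (CohB1.ProjSpace n k).Modules) (hF : Coh.IsCoh F) (i : ℕ) :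
    (∃ m₀ : ℤ, ∀ m : ℤ, m₀ ≤ m →
        Subsingleton (Coh.HH ℙ (CohB1.tensorMod F (tw n k (-m))) i)) ↔
      ∀ x : ℙ, IsClosed ({x} : Set ℙ) → Subsingleton
        (LocCoh.H (IsLocalRing.maximalIdeal ((CohB1.ProjSpace n k).presheaf.stalk x)) i
          (F.presheaf.stalk x)) := by
  rcases Nat.lt_or_ge n i with hi | hi
  · refine ⟨fun _ x hx => ?_, fun _ => ⟨0, fun m _ => ?_⟩⟩
    · exact LCFin.Cd.cdLE_of_ringKrullDim _ n (ringKrullDim_stalk_of_isClosed x hx).le _ i hi
    · have : Coh.IsQCoh (CohB1.tensorMod F (tw n k (-m))) := (isCoh_tensorMod hF (isCoh_tw _)).1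
      exact Twist.subsingleton_HH_of_lt _ hi
  · haveI := CategoryTheory.hasExt_of_enoughInjectives.{u} (CohB1.ProjSpace n k).Modules
    have hij : i + (n - i) = n := by omega
    refine (TwistVanish.twist_iff hij F hF).trans ?_
    have key : ∀ x : ℙ, IsClosed ({x} : Set ℙ) → (Subsingleton
        (LocCoh.H (IsLocalRing.maximalIdeal ((CohB1.ProjSpace n k).presheaf.stalk x)) i
          (F.presheaf.stalk x)) ↔ HomSheaf.Ext.StalkExtVanish x (n - i) F) := fun x hx => by
      haveI := isGorenstein_stalk x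
      haveI := RefHull.Reflexive.finite_stalk hF x
      exact subsingleton_H_iff_ext n (ringKrullDim_stalk_of_isClosed x hx) _ hij
    obtain ⟨h₁, h₂⟩ := TwistVanish.main (n - i) F hF
    exact ⟨fun h x hx => (key x hx).2 (h₁ h x), fun h => h₂ fun x hx => (key x hx).1 (h x hx)⟩

end Groth.Agent.Lib.ProjCoh.StalkLC
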