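import Groth.Agent.Lib.ProjCoh.StalkLC
import Groth.Agent.Lib.Depth.LocalCoh
import Groth.Agent.Lib.Depth.CM
import Groth.Agent.Lib.ZarCoh.Morph
import Groth.Agent.Lib.PushClosed.Unit
import Groth.Agent.Lib.Cyc.Dev.SchemeEquiv
import Groth.Agent.Lib.Cyc.FP.Stalk
import Groth.Agent.Lib.Cyc.TorPD
import Groth.Agent.Lib.Modules.ProjFormula

/-!
# Closed subschemes of `P^N_k`: twists, and vanishing of `H^i(F(-m))` below the depth
-/

universe u

noncomputable section

open CategoryTheory CategoryTheory.Limits AlgebraicGeometry TopologicalSpace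

namespace Groth.Agent.Lib.ProjCoh.ClosedSub

open Groth.Agent.Lib Groth.Agent.Lib.ProjCoh.Coherent
open Groth.Agent.Lib.TensorMod.Basic (comm tensorIso)

variable {N : ℕ} {k : Type u} [Field k] {X : Scheme.{u}} (ι : X ⟶ CohB1.ProjSpace N k) [IsClosedImmersion ι]

local notation "ℙ" => CohB1.ProjSpace N k

/-- `ι^* O(q)`. -/
abbrev tX (q : ℤ) : X.Modules := (Scheme.Modules.pullback ι).obj (tw N k q)

omit [IsClosedImmersion ι] in
theorem isCoh_tX [IsLocallyNoetherian X] (q : ℤ) : Coh.IsCoh (tX ι q) :=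
  Cyc.FP.Stalk.isCoh_pullback ι (isCoh_tw q)

theorem isLocallyNoetherian (ι : X ⟶ CohB1.ProjSpace N k) [IsClosedImmersion ι] : IsLocallyNoetherian X :=
  LocallyOfFiniteType.isLocallyNoetherian ι

omit [IsClosedImmersion ι] in
/-- `ι_*(F(q)) ≅ (ι_* F)(q)`. -/
theorem nonempty_projection (F : X.Modules) (q : ℤ) :
    Nonempty ((Scheme.Modules.pushforward ι).obj (CohB1.tensorMod F (tX ι q)) ≅
      CohB1.tensorMod ((Scheme.Modules.pushforward ι).obj F) (tw N k q)) :=
  ⟨(Scheme.Modules.pushforward ι).mapIso (comm F _) ≪≫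
    ((Modules.ProjFormula.projIso ι (Modules.DualBasis.hasDBases_of_isFinLocFree
      (TensorMod.LocFree.of_rank <| TensorMod.LocFree.of_isInvertible (isInvertible_tw q)))).app F).symm ≪≫ comm _ _⟩

theorem subsingleton_twist_iff (F : X.Modules) (hF : Coh.IsCoh F) (q : ℤ) (p : ℕ) :
    Subsingleton (Coh.HH X (CohB1.tensorMod F (tX ι q)) p) ↔
      Subsingleton (Coh.HH ℙ (CohB1.tensorMod ((Scheme.Modules.pushforward ι).obj F) (tw N k q)) p) := by
  haveI := isLocallyNoetherian ι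
  haveI : (CohB1.tensorMod F (tX ι q)).IsQuasicoherent := (isCoh_tensorMod hF (isCoh_tX ι q)).1
  obtain ⟨e⟩ := nonempty_projection ι F q
  exact (ZarCoh.Morph.affineEquiv ι (CohB1.tensorMod F (tX ι q)) p).toEquiv.subsingleton_congr.symm.trans
    (Curves.LES.isoK k e p).toEquiv.subsingleton_congr

theorem depth_push_eq (F : X.Modules) (x : X) :
    LocCoh.depth ((CohB1.ProjSpace N k).presheaf.stalk (ι.base x))
        (((Scheme.Modules.pushforward ι).obj F).presheaf.stalk (ι.base x)) =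
      LocCoh.depth (X.presheaf.stalk x) (F.presheaf.stalk x) := by
  letI : Algebra ((CohB1.ProjSpace N k).presheaf.stalk (ι.base x)) (X.presheaf.stalk x) :=
    (ι.stalkMap x).hom.toAlgebra
  letI : Module ((CohB1.ProjSpace N k).presheaf.stalk (ι.base x)) (F.presheaf.stalk x) :=
    Module.compHom _ (ι.stalkMap x).hom
  haveI : IsScalarTower ((CohB1.ProjSpace N k).presheaf.stalk (ι.base x)) (X.presheaf.stalk x)
      (F.presheaf.stalk x) := ⟨fun a b c => mul_smul ((ι.stalkMap x).hom a) b c⟩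
  let e : ((Scheme.Modules.pushforward ι).obj F).presheaf.stalk (ι.base x) ≃ₗ[(CohB1.ProjSpace N k).presheaf.stalk (ι.base x)]
      F.presheaf.stalk x :=
    LinearEquiv.ofBijective
      ({ toFun := fun a => DerivedOX.PullbackStalk.pushStalkMap ι x F a
         map_add' := fun a b => map_add (DerivedOX.PullbackStalk.pushStalkMap ι x F).hom a b
         map_smul' := fun c a => DerivedOX.PullbackStalk.pushStalkMap_smul ι x F c a } :
        ((Scheme.Modules.pushforward ι).obj F).presheaf.stalk (ι.base x) →ₗ[(CohB1.ProjSpace N k).presheaf.stalk (ι.base x)]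
          F.presheaf.stalk x)
      (PushClosed.Unit.bijective_pushStalkMap ι F x)
  rw [Depth.Basic.depth_congr e]
  exact Depth.Basic.depth_eq_of_surjective (ι.stalkMap_surjective x)

theorem depth_push_off (F : X.Modules) {y : ℙ} (hy : y ∉ Set.range ι.base) :
    LocCoh.depth ((CohB1.ProjSpace N k).presheaf.stalk y)
        (((Scheme.Modules.pushforward ι).obj F).presheaf.stalk y) = ⊤ := by
  haveI := PushClosed.Unit.subsingleton_stalk_push ι F hy
  exact Depth.Basic.idealDepth_of_smul_top_eq (Subsingleton.elim _ _)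

theorem isClosed_base_iff (x : X) : IsClosed ({ι.base x} : Set ℙ) ↔ IsClosed ({x} : Set X) := by
  rw [← Set.image_singleton]
  exact (ι.isClosedEmbedding.isClosed_iff_image_isClosed).symm

/-- `H^i(P^N, F(-m)) = 0` for `i < n`, `m ≫ 0` iff `depth F_x ≥ n` at closed points. -/
theorem iff_depth_proj (F : (CohB1.ProjSpace N k).Modules) (hF : Coh.IsCoh F) (n : ℕ) :
    (∃ m₀ : ℤ, ∀ m : ℤ, m₀ ≤ m → ∀ i : ℕ, i < n →
        Subsingleton (Coh.HH ℙ (CohB1.tensorMod F (tw N k (-m))) i)) ↔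
      ∀ x : ℙ, IsClosed ({x} : Set ℙ) →
        (n : ℕ∞) ≤ LocCoh.depth ((CohB1.ProjSpace N k).presheaf.stalk x) (F.presheaf.stalk x) := by
  have key := fun i => StalkLC.iff_localCohomology F hF i
  have hfin := fun x => RefHull.Reflexive.finite_stalk hF x
  constructor
  · rintro ⟨m₀, h⟩ x hx
    haveI := hfin x
    exact (Depth.LocalCoh.le_idealDepth_iff_H _ _ _).2 fun i hi =>
      (key i).1 ⟨m₀, fun m hm => h m hm i hi⟩ x hx
  · intro h
    have hi : ∀ i, i < n → ∃ m₀ : ℤ, ∀ m : ℤ, m₀ ≤ m →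
        Subsingleton (Coh.HH ℙ (CohB1.tensorMod F (tw N k (-m))) i) := fun i hi =>
      (key i).2 fun x hx => by
        haveI := hfin x
        exact (Depth.LocalCoh.le_idealDepth_iff_H _ _ n).1 (h x hx) i hi
    choose f hf using hi
    obtain ⟨B, hB⟩ := (Set.finite_range fun i : Fin n => f i i.2).bddAbove
    exact ⟨B, fun m hm i hi => hf i hi m ((hB ⟨⟨i, hi⟩, rfl⟩).trans hm)⟩

/-- `H^i(X, F(-m)) = 0` for `i < n`, `m ≫ 0` iff `depth F_x ≥ n` at closed points. -/
theorem iff_depth (F : X.Modules) (hF : Coh.IsCoh F) (n : ℕ) :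
    (∃ m₀ : ℤ, ∀ m : ℤ, m₀ ≤ m → ∀ i : ℕ, i < n →
        Subsingleton (Coh.HH X (CohB1.tensorMod F (tX ι (-m))) i)) ↔
      ∀ x : X, IsClosed ({x} : Set X) →
        (n : ℕ∞) ≤ LocCoh.depth (X.presheaf.stalk x) (F.presheaf.stalk x) := by
  have hc : Coh.IsCoh ((Scheme.Modules.pushforward ι).obj F) := Cyc.Dev.SchemeEquiv.isCoh_push ι hF
  have e : (∃ m₀ : ℤ, ∀ m : ℤ, m₀ ≤ m → ∀ i : ℕ, i < n →
      Subsingleton (Coh.HH X (CohB1.tensorMod F (tX ι (-m))) i)) ↔ _ :=
    exists_congr fun m₀ => forall_congr' fun m => imp_congr_right fun _ =>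
      forall_congr' fun i => imp_congr_right fun _ => subsingleton_twist_iff ι F hF (-m) i
  refine e.trans ((iff_depth_proj _ hc n).trans ⟨fun h x hx => ?_, fun h y hy => ?_⟩)
  · rw [← depth_push_eq ι F x]
    exact h _ ((isClosed_base_iff ι x).2 hx)
  · by_cases hyr : y ∈ Set.range ι.base
    · obtain ⟨x, rfl⟩ := hyr
      rw [depth_push_eq ι F x]
      exact h x ((isClosed_base_iff ι x).1 hy)
    · rw [depth_push_off ι F hyr]
      exact le_top

end Groth.Agent.Lib.ProjCoh.ClosedSub
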