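import Groth.Agent.Lib.ProjCoh.ClosedSub
import Groth.Agent.Lib.ProjCoh.SerreDual
import Groth.Agent.Lib.Cyc.Dev.Scheme
import Groth.Agent.Lib.Cyc.FieldDim

/-!
# Serre duality from effaceability, and for Cohen–Macaulay closed subschemes of `P^N_k`

If `(ω, t)` represents the dual of `H^n` on coherent modules and every coherent module is a quotient of a
coherent `E` with `Ext^q(E, ω) = 0` for `q > 0` and `H^q(E) = 0` for `q < n`, then
`Ext^i(F, ω) ≅ H^{n-i}(F)^∨`.
-/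

universe u

noncomputable section

open CategoryTheory CategoryTheory.Limits AlgebraicGeometry

namespace Groth.Agent.Lib.ProjCoh.DualityCM

open CategoryTheory.Abelian
open Groth.Agent.Lib Groth.Agent.Lib.ProjCoh.Coherent
open Groth.Agent.Lib.TensorMod.Basic

section Abstract

variable {k : Type u} [Field k] {X : Scheme.{u}} [X.Over (Spec (CommRingCat.of k))] {n : ℕ}
  (ω : X.Modules) (t : Coh.HH X ω n →ₗ[k] k)

/-- `φ ↦ t ∘ H^n(φ)`. -/
def θ₀ (M : X.Modules) : (M ⟶ ω) →ₗ[k] Module.Dual k (Coh.HH X M n) where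
  toFun φ := t.comp (Curves.LES.mapK k φ n)
  map_add' φ ψ := LinearMap.ext fun x =>
    (congrArg t (Coherent.mapK_add k φ ψ n x)).trans (map_add _ _ _)
  map_smul' r φ := LinearMap.ext fun x =>
    (congrArg t (SerreDual.mapK_smul k r φ n x)).trans (map_smul _ _ _)

/-- `(ω, t)` is dualizing. -/
def IsDualizing : Prop :=
  ∀ F : X.Modules, Coh.IsCoh F → ∀ ψ : Coh.HH X F n →ₗ[k] k,
    ∃! φ : F ⟶ ω, ∀ x : Coh.HH X F n,
      ψ x = t (Sheaf.H.map ((SheafOfModules.toSheaf X.ringCatSheaf).map φ) n x)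

variable {ω t}

theorem θ₀_bijective (hd : IsDualizing ω t) (M : X.Modules) (hM : Coh.IsCoh M) :
    Function.Bijective (θ₀ ω t M) := by
  refine ⟨fun φ ψ h => ?_, fun ℓ => ?_⟩
  · obtain ⟨χ, -, hu⟩ := hd M hM (θ₀ ω t M φ)
    exact (hu φ fun x => rfl).trans (hu ψ fun x => LinearMap.congr_fun h x).symm
  · obtain ⟨φ, hφ, -⟩ := hd M hM ℓ
    exact ⟨φ, LinearMap.ext fun x => (hφ x).symm⟩

variable (ω) [HasExt.{u} X.Modules]

/-- Effaceability. -/
def HasEff (n : ℕ) : Prop :=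
  ∀ F : X.Modules, Coh.IsCoh F → ∃ S : ShortComplex X.Modules, S.ShortExact ∧ Coh.IsCoh S.X₁ ∧
    Coh.IsCoh S.X₂ ∧ S.X₃ = F ∧ (∀ q, q ≠ 0 → Subsingleton (Ext.{u} S.X₂ ω q)) ∧
    ∀ q, q < n → Subsingleton (Coh.HH X S.X₂ q)

variable {ω}

/-- Duality in degree zero. -/
def θ (hd : IsDualizing ω t) (M : X.Modules) (hM : Coh.IsCoh M) :
    Ext.{u} M ω 0 ≃ₗ[k] Module.Dual k (Coh.HH X M n) :=
  (Ext.linearEquiv₀ (R := k)).trans (LinearEquiv.ofBijective (θ₀ ω t M) (θ₀_bijective hd M hM))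

theorem θ_mk₀ (hd : IsDualizing ω t) (M : X.Modules) (hM : Coh.IsCoh M) (φ : M ⟶ ω) :
    θ hd M hM (Ext.mk₀ φ) = t.comp (Curves.LES.mapK k φ n) := by
  have e : Ext.linearEquiv₀ (R := k) (Ext.mk₀ φ) = φ := Ext.addEquiv₀.apply_symm_apply φ
  rw [θ, LinearEquiv.trans_apply, e]
  rfl

theorem θ_natural (hd : IsDualizing ω t) {M N : X.Modules} (hM : Coh.IsCoh M) (hN : Coh.IsCoh N)
    (f : M ⟶ N) (x : Ext.{u} N ω 0) :
    θ hd M hM (SerreDual.pre k (Ext.mk₀ f) _ (zero_add 0) x) =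
      (Curves.LES.mapK k f n).dualMap (θ hd N hN x) := by
  obtain ⟨φ, rfl⟩ := (Ext.mk₀_bijective _ _).2 x
  change θ hd M hM ((Ext.mk₀ f).comp (Ext.mk₀ φ) (zero_add 0)) = _
  rw [Ext.mk₀_comp_mk₀, θ_mk₀, θ_mk₀, Curves.LES.mapK_comp]
  rfl

theorem nonempty_step_zero (hd : IsDualizing ω t) {S : ShortComplex X.Modules} (hS : S.ShortExact)
    (h1 : Coh.IsCoh S.X₁) (h2 : Coh.IsCoh S.X₂) {j : ℕ} (hj : j + 1 = n)
    (hv : Subsingleton (Ext.{u} S.X₂ ω 1)) (hH : Subsingleton (Coh.HH X S.X₂ j)) :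
    Nonempty (Ext.{u} S.X₃ ω 1 ≃ₗ[k] Module.Dual k (Coh.HH X S.X₃ j)) := by
  have hinj : Function.Injective (Curves.LES.δK k hS j n hj) := by
    refine (injective_iff_map_eq_zero _).2 fun x hx => ?_
    obtain ⟨y, rfl⟩ := (Curves.LES.exactK₃ k hS j n hj x).1 hx
    rw [Subsingleton.elim y 0, map_zero]
  exact SerreDual.nonempty_equiv_of_exact (SerreDual.pre k (Ext.mk₀ S.f) _ (zero_add 0))
    (SerreDual.pre k hS.extClass _ rfl)
    (SerreDual.surjective_pre k hS _ rfl hv) (SerreDual.exact_pre₁ k hS _ rfl)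
    (Curves.LES.mapK k S.f n).dualMap (Curves.LES.δK k hS j n hj).dualMap
    (LinearMap.dualMap_surjective_of_injective hinj)
    (SerreDual.exact_dualMap (Curves.LES.exactK₁ k hS j n hj))
    (θ hd S.X₂ h2) (θ hd S.X₁ h1) fun x => θ_natural hd h1 h2 S.f x

theorem nonempty_step_succ {S : ShortComplex X.Modules} (hS : S.ShortExact)
    {i j : ℕ} (e : Ext.{u} S.X₁ ω i ≃ₗ[k] Module.Dual k (Coh.HH X S.X₁ (j + 1)))
    (hv : Subsingleton (Ext.{u} S.X₂ ω i)) (hv' : Subsingleton (Ext.{u} S.X₂ ω (i + 1)))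
    (hH : Subsingleton (Coh.HH X S.X₂ j)) (hH' : Subsingleton (Coh.HH X S.X₂ (j + 1))) :
    Nonempty (Ext.{u} S.X₃ ω (i + 1) ≃ₗ[k] Module.Dual k (Coh.HH X S.X₃ j)) := by
  have hb : Function.Bijective (Curves.LES.δK k hS j (j + 1) rfl) := by
    refine ⟨(injective_iff_map_eq_zero _).2 fun x hx => ?_, fun y => ?_⟩
    · obtain ⟨z, rfl⟩ := (Curves.LES.exactK₃ k hS j (j + 1) rfl x).1 hx
      rw [Subsingleton.elim z 0, map_zero]
    · exact (Curves.LES.exactK₁ k hS j (j + 1) rfl y).1 (Subsingleton.elim _ _)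
  let δ : Ext.{u} S.X₁ ω i →ₗ[k] Ext.{u} S.X₃ ω (i + 1) :=
    SerreDual.pre k hS.extClass _ (Nat.add_comm 1 i)
  exact ⟨(LinearEquiv.ofBijective δ ⟨SerreDual.injective_pre k hS _ _ hv,
    SerreDual.surjective_pre k hS _ _ hv'⟩).symm ≪≫ₗ
    e ≪≫ₗ (LinearEquiv.ofBijective (Curves.LES.δK k hS j (j + 1) rfl) hb).dualMap⟩

/-- Serre duality. -/
theorem nonempty_equiv (hd : IsDualizing ω t) (he : HasEff ω n) (i : ℕ) :
    ∀ (j : ℕ), i + j = n → ∀ (M : X.Modules), Coh.IsCoh M →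
      Nonempty (Ext.{u} M ω i ≃ₗ[k] Module.Dual k (Coh.HH X M j)) := by
  induction i with
  | zero => intro j hj M hM; rw [zero_add] at hj; subst hj; exact ⟨θ hd M hM⟩
  | succ i ih =>
    intro j hj M hM
    obtain ⟨S, hS, h1, h2, rfl, hv, hH⟩ := he M hM
    rcases Nat.eq_zero_or_pos i with rfl | hi
    · exact nonempty_step_zero hd hS h1 h2 (j := j) (by omega) (hv 1 one_ne_zero) (hH j (by omega))
    · obtain ⟨e⟩ := ih (j + 1) (by omega) S.X₁ h1
      exact nonempty_step_succ hS e (hv i hi.ne') (hv _ (Nat.succ_ne_zero i)) (hH j (by omega))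
        (hH _ (by omega))

theorem subsingleton_ext_succ (hd : IsDualizing ω t) (he : HasEff ω n) (M : X.Modules) (hM : Coh.IsCoh M) :
    Subsingleton (Ext.{u} M ω (n + 1)) := by
  obtain ⟨S, hS, h1, h2, rfl, hv, hH⟩ := he M hM
  have hs : Function.Surjective (SerreDual.pre k hS.extClass ω (Nat.add_comm 1 n)) :=
    SerreDual.surjective_pre k hS _ _ (hv _ (Nat.succ_ne_zero n))
  have := hS.mono_f
  refine subsingleton_of_forall_eq 0 fun x => ?_
  obtain ⟨y, rfl⟩ := hs x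
  rcases Nat.eq_zero_or_pos n with hn | hn
  · subst hn
    have hf : Function.Surjective (Curves.LES.mapK k S.f 0).dualMap :=
      LinearMap.dualMap_surjective_of_injective (Curves.LES.mapK_injective_of_mono k S.f)
    obtain ⟨l, hl⟩ := hf (θ hd S.X₁ h1 y)
    refine ((SerreDual.exact_pre₁ k hS _ (Nat.add_comm 1 0)) y).2 ⟨(θ hd S.X₂ h2).symm l, ?_⟩
    apply (θ hd S.X₁ h1).injective
    rw [θ_natural hd h1 h2, LinearEquiv.apply_symm_apply, hl]
  · obtain ⟨e⟩ := nonempty_equiv hd he n 0 rfl S.X₁ h1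
    have := hH 0 hn
    have := (Curves.LES.mapK_injective_of_mono k S.f).subsingleton
    have := e.injective.subsingleton
    rw [Subsingleton.elim y 0, map_zero]

theorem subsingleton_ext (hd : IsDualizing ω t) (he : HasEff ω n) {i : ℕ} (hi : n < i) (M : X.Modules)
    (hM : Coh.IsCoh M) : Subsingleton (Ext.{u} M ω i) := by
  induction i, hi using Nat.le_induction generalizing M with
  | base => exact subsingleton_ext_succ hd he M hM
  | succ i hi ih =>
    obtain ⟨S, hS, h1, h2, rfl, hv, hH⟩ := he M hM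
    have := ih S.X₁ h1
    exact (SerreDual.surjective_pre k hS _ (Nat.add_comm 1 i) (hv _ (Nat.succ_ne_zero i))).subsingleton

theorem subsingleton_ext_iff (hd : IsDualizing ω t) (he : HasEff ω n) {i : ℕ} (hi : i ≤ n) (M : X.Modules)
    (hM : Coh.IsCoh M) : Subsingleton (Ext.{u} M ω i) ↔ Subsingleton (Coh.HH X M (n - i)) := by
  obtain ⟨e⟩ := nonempty_equiv hd he i (n - i) (by omega) M hM
  exact e.toEquiv.subsingleton_congr.trans (Module.subsingleton_dual_iff k)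

end Abstract

/-! ### Cohen–Macaulay and equidimensionality -/

section CM

variable {X : Scheme.{u}} [IsLocallyNoetherian X] {n : ℕ}

theorem cm_of_depth (hn : topologicalKrullDim X = n) (x : X)
    (hd : (n : ℕ∞) ≤ LocCoh.depth (X.presheaf.stalk x) (X.presheaf.stalk x)) :
    LocCoh.IsCohenMacaulayLocalRing (X.presheaf.stalk x) ∧ ringKrullDim (X.presheaf.stalk x) = n := by
  have hle : ringKrullDim (X.presheaf.stalk x) ≤ (n : WithBot ℕ∞) :=
    hn ▸ Cyc.TorPD.ringKrullDim_stalk_le x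
  have hge : ((n : ℕ∞) : WithBot ℕ∞) ≤
      ((LocCoh.depth (X.presheaf.stalk x) (X.presheaf.stalk x) : ℕ∞) : WithBot ℕ∞) := WithBot.coe_le_coe.2 hd
  exact ⟨Depth.CM.isCohenMacaulayLocalRing_iff.2 (hle.trans hge),
    le_antisymm hle (hge.trans (Depth.Assoc.depth_le_ringKrullDim _))⟩

theorem depth_of_cm {x : X} (hCM : LocCoh.IsCohenMacaulayLocalRing (X.presheaf.stalk x))
    (hdim : ringKrullDim (X.presheaf.stalk x) = n) :
    (n : ℕ∞) ≤ LocCoh.depth (X.presheaf.stalk x) (X.presheaf.stalk x) := by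
  haveI := hCM
  have e := (Depth.CM.ringKrullDim_eq_depth (R := X.presheaf.stalk x)).symm.trans hdim
  exact_mod_cast e.ge

theorem ringKrullDim_stalk_of_equidim {k : Type u} [Field k] (f : X ⟶ Spec (CommRingCat.of k))
    [LocallyOfFiniteType f] (hn : topologicalKrullDim X = n)
    (heq : ∀ Z : Set X, Z ∈ irreducibleComponents X → topologicalKrullDim Z = (n : WithBot ℕ∞))
    (x : X) (hx : IsClosed ({x} : Set X)) : ringKrullDim (X.presheaf.stalk x) = n := by
  refine le_antisymm (hn ▸ Cyc.TorPD.ringKrullDim_stalk_le x) ?_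
  obtain ⟨ξ, hξ, hmax⟩ := Cyc.DimFun.exists_isMaxPt_specializes x
  have h1 := heq _ (Cyc.FieldDim.closure_mem_irreducibleComponents ξ hmax)
  rw [Cyc.FieldDim.topologicalKrullDim_closure f ξ] at h1
  have h2 := Cyc.DimFun.ringKrullDim_locQuot (Cyc.FieldDim.isDimFun_fdelta f) x ξ hξ
  rw [Cyc.FieldDim.fdelta_of_isClosed f x hx, sub_zero, h1] at h2
  exact h2 ▸ ringKrullDim_quotient_le _

end CM

/-! ### Closed subschemes of `P^N_k` -/

section Closed

variable {N : ℕ} {k : Type u} [Field k] {X : Scheme.{u}} (ι : X ⟶ CohB1.ProjSpace N k)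

open ClosedSub (tX)

/-- `ι^* O ≅ O`. -/
def pullStructure : (Scheme.Modules.pullback ι).obj (Coh.structureModule (CohB1.ProjSpace N k)) ≅
    Coh.structureModule X :=
  (Scheme.Modules.pullback ι).mapIso (TensorMod.LocFree.freeModOneIso _).symm ≪≫
    TensorMod.LocFree.pullbackFreeModIso ι 1 ≪≫ TensorMod.LocFree.freeModOneIso _

/-- `ι^*O(a) ⊗ ι^*O(b) ≅ O` for `a + b = 0`. -/
def txCancel (a b : ℤ) (h : a + b = 0) :
    CohB1.tensorMod (tX ι a) (tX ι b) ≅ Coh.structureModule X :=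
  (TensorMod.Pullback.pullbackTensorIso ι _ _).symm ≪≫
    (Scheme.Modules.pullback ι).mapIso (twCancel a b h) ≪≫ pullStructure ι

theorem isEquivalence_tX (m : ℤ) : (tensorBy (tX ι m)).IsEquivalence :=
  (CategoryTheory.Equivalence.mk (tensorBy (tX ι m)) (tensorBy (tX ι (-m)))
    (cancelNat (txCancel ι m (-m) (by omega))).symm
    (cancelNat (txCancel ι (-m) m (by omega)))).isEquivalence_functor

variable [X.Over (Spec (CommRingCat.of k))] [IsClosedImmersion ι] [HasExt.{u} X.Modules]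

theorem exists_ext_tX_vanish (ω : X.Modules) (hω : Coh.IsCoh ω) : ∃ m₀ : ℕ, ∀ m : ℕ, m₀ ≤ m →
    ∀ q, q ≠ 0 → Subsingleton (Ext.{u} (tX ι (-(m : ℤ))) ω q) := by
  haveI := ClosedSub.isLocallyNoetherian ι
  obtain ⟨d₀, hd⟩ := Coherent.exists_forall_subsingleton _ (Cyc.Dev.SchemeEquiv.isCoh_push ι hω)
  refine ⟨d₀, fun m hm q hq => ?_⟩
  obtain ⟨q, rfl⟩ := Nat.exists_eq_succ_of_ne_zero hq
  have h : Subsingleton (Coh.HH X (CohB1.tensorMod ω (tX ι (m : ℤ))) (q + 1)) :=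
    (ClosedSub.subsingleton_twist_iff ι ω hω m (q + 1)).2 (hd m (by omega) q)
  haveI := isEquivalence_tX ι (m : ℤ)
  haveI : (tensorBy (tX ι (m : ℤ))).Additive := Functor.additive_of_preserves_binary_products _
  refine SerreDual.subsingleton_ext_equiv (tensorBy (tX ι (m : ℤ))) _ _ _ ?_
  exact SerreDual.subsingleton_ext_iso (txCancel ι (-(m : ℤ)) m (neg_add_cancel _)) (Iso.refl _) _
    (ExtHH.Basic.extUnitEquiv k (CohB1.tensorMod ω (tX ι (m : ℤ))) (q + 1)).injective.subsingleton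

omit [HasExt.{u} X.Modules] in
theorem exists_hh_tX_vanish {n : ℕ}
    (hdepth : ∀ x : X, IsClosed ({x} : Set X) →
      (n : ℕ∞) ≤ LocCoh.depth (X.presheaf.stalk x) (X.presheaf.stalk x)) :
    ∃ m₀ : ℕ, ∀ m : ℕ, m₀ ≤ m → ∀ q, q < n → Subsingleton (Coh.HH X (tX ι (-(m : ℤ))) q) := by
  obtain ⟨m₀, hm⟩ := (ClosedSub.iff_depth ι (Coh.structureModule X) RefHull.Reflexive.isCoh_structure n).2
    fun x hx => by
      rw [Depth.Basic.depth_congr (RefHull.Reflexive.oEquiv x)]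
      exact hdepth x hx
  refine ⟨m₀.toNat, fun m h q hq => ?_⟩
  have := hm m (by omega) q hq
  exact (Curves.LES.isoK k (leftUnit (tX ι (-(m : ℤ)))).symm q).injective.subsingleton

include ι in
theorem hasEff {n : ℕ} (ω : X.Modules) (hω : Coh.IsCoh ω)
    (hdepth : ∀ x : X, IsClosed ({x} : Set X) →
      (n : ℕ∞) ≤ LocCoh.depth (X.presheaf.stalk x) (X.presheaf.stalk x)) : HasEff ω n := by
  haveI := ClosedSub.isLocallyNoetherian ι
  intro F hF
  obtain ⟨a, ha⟩ := exists_ext_tX_vanish ι ω hω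
  obtain ⟨b, hb⟩ := exists_hh_tX_vanish ι hdepth
  obtain ⟨c, m, p, hm, hp⟩ := SerreDual.exists_epi_ge _ (Cyc.Dev.SchemeEquiv.isCoh_push ι hF) (max a b)
  let q : (Scheme.Modules.pullback ι).obj (sumTS N k c (-(m : ℤ))) ⟶ F :=
    (Scheme.Modules.pullback ι).map p ≫ (Scheme.Modules.pullbackPushforwardAdjunction ι).counit.app F
  haveI : (Scheme.Modules.pullback ι).PreservesEpimorphisms :=
    Functor.preservesEpimorphisms_of_adjunction (Scheme.Modules.pullbackPushforwardAdjunction ι)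
  haveI := hp
  haveI := Cyc.Dev.SchemeCase.isIso_counit ι F
  haveI : Epi q := epi_comp _ _
  have hE : Coh.IsCoh ((Scheme.Modules.pullback ι).obj (sumTS N k c (-(m : ℤ)))) :=
    Cyc.FP.Stalk.isCoh_pullback ι (isCoh_sumTS c _)
  haveI : PreservesColimitsOfSize.{0, 0} (Scheme.Modules.pullback ι) :=
    (Scheme.Modules.pullbackPushforwardAdjunction ι).leftAdjoint_preservesColimits
  let e : (Scheme.Modules.pullback ι).obj (sumTS N k c (-(m : ℤ))) ≅
      ∐ fun _ : Fin c => tX ι (-(m : ℤ)) :=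
    PreservesCoproduct.iso (Scheme.Modules.pullback ι) _ ≪≫
      Sigma.mapIso fun _ => (Scheme.Modules.pullback ι).mapIso (twIso _).symm
  refine ⟨ShortComplex.mk (kernel.ι q) q (kernel.condition q),
    { exact := ShortComplex.exact_of_f_is_kernel _ (kernelIsKernel q), epi_g := ‹_› },
    CohBasics.Closure.isCoh_kernel q hE hF.1, hE, rfl, fun i hi => ?_, fun i hi => ?_⟩
  · exact SerreDual.subsingleton_ext_iso e (Iso.refl ω) i
      (SerreDual.subsingleton_ext_sigma _ _ c i (ha m (by omega) i hi))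
  · have := Horrocks.subsingleton_HH_sigma k (fun _ : Fin c => tX ι (-(m : ℤ))) i
      fun _ => hb m (by omega) i hi
    exact (Curves.LES.isoK k e i).injective.subsingleton

end Closed

end Groth.Agent.Lib.ProjCoh.DualityCM
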