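import Groth.Agent.Lib.ProjCoh.Horrocks
import Groth.Agent.Lib.HomSheaf.Ext

/-!
# Vanishing of `H^i(F(-m))` for `m ≫ 0` and stalk `Ext`

For a coherent `F` on `P^n_k` and `i + j = n`: `H^i(F(-m)) = 0` for `m ≫ 0` iff `Ext^j(F_x, O_x) = 0` for all
`x`, and it is enough to look at closed `x`.
-/

universe u

noncomputable section

open CategoryTheory CategoryTheory.Limits AlgebraicGeometry TopologicalSpace

namespace Groth.Agent.Lib.ProjCoh.TwistVanish

open CategoryTheory.Abelian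
open Groth.Agent.Lib Groth.Agent.Lib.ProjCoh.Coherent Groth.Agent.Lib.ProjCoh.Sections
open Groth.Agent.Lib.TensorMod.Basic Groth.Agent.Lib.HomSheaf

variable {n : ℕ} {k : Type u} [Field k]

local notation "ℙ" => CohB1.ProjSpace n k

variable [HasExt.{u} (CohB1.ProjSpace n k).Modules]

/-- `Ext^j(F, O(m)) = 0` for `m ≫ 0`. -/
def ExtVanish (j : ℕ) (F : (CohB1.ProjSpace n k).Modules) : Prop :=
  ∃ m₀ : ℤ, ∀ m : ℤ, m₀ ≤ m → Subsingleton (Ext.{u} F (TS n k m) j)

/-- `F(-m) ⊗ O(m) ≅ F`. -/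
def untwist (F : (CohB1.ProjSpace n k).Modules) (a b : ℤ) (h : a + b = 0) :
    CohB1.tensorMod (CohB1.tensorMod F (tw n k a)) (tw n k b) ≅ F :=
  (cancelNat (twCancel a b h)).app F

theorem subsingleton_HH_iff {i j : ℕ} (h : i + j = n) (F : (CohB1.ProjSpace n k).Modules) (hF : Coh.IsCoh F)
    (m : ℤ) : Subsingleton (Coh.HH ℙ (CohB1.tensorMod F (tw n k (-m))) i) ↔
      Subsingleton (Ext.{u} F (TS n k (-((n : ℤ) + 1) + m)) j) := by
  let c : ℤ := -((n : ℤ) + 1)
  obtain ⟨e⟩ := SerreDual.nonempty_equiv_tw (i := j) (j := i) (by omega)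
    (CohB1.tensorMod F (tw n k (-m))) (isCoh_tensorMod hF (isCoh_tw _))
  have key : Subsingleton (Coh.HH ℙ (CohB1.tensorMod F (tw n k (-m))) i) ↔
      Subsingleton (Ext.{u} (CohB1.tensorMod F (tw n k (-m))) (tw n k c) j) :=
    (Module.subsingleton_dual_iff k).symm.trans e.toEquiv.subsingleton_congr.symm
  refine key.trans ⟨fun h => ?_, fun h => ?_⟩
  · refine SerreDual.subsingleton_ext_equiv (tensorBy (tw n k (-m))) _ _ j ?_
    exact SerreDual.subsingleton_ext_iso (Iso.refl _)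
      (SerreDual.tsTensor (c + m) (-m) ≪≫ eqToIso (congrArg (TS n k) (add_neg_cancel_right c m)) ≪≫
        (twIso c).symm) j h
  · refine SerreDual.subsingleton_ext_equiv (tensorBy (tw n k m)) _ _ j ?_
    exact SerreDual.subsingleton_ext_iso (untwist F (-m) m (neg_add_cancel m))
      (tensorIso (twIso c) (Iso.refl _) ≪≫ SerreDual.tsTensor c m) j h

omit [HasExt.{u} (CohB1.ProjSpace n k).Modules] in
theorem exists_forall_gg (M : (CohB1.ProjSpace n k).Modules) (hM : Coh.IsCoh M) :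
    ∃ m₀ : ℤ, ∀ m : ℤ, m₀ ≤ m → Curv2.IsGloballyGenerated (CohB1.tensorMod M (tw n k m)) := by
  obtain ⟨m₀, hm⟩ := Ample.GG.eventually_genAt_twist (HProj.QuasiProj.isAmple_twist_projSpace n k) M hM
  refine ⟨m₀, fun m h => Ample.GG.isGloballyGenerated_of_genAt fun x => ?_⟩
  lift m to ℕ using (by omega)
  obtain ⟨j⟩ := nonempty_tensorPow_iso (n := n) (R := k) m
  exact (hm m (by omega) x).of_iso (tensorIso (Iso.refl M) j.symm)

omit [HasExt.{u} (CohB1.ProjSpace n k).Modules] in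
/-- A map receiving all sections of a globally generated module is an epimorphism. -/
theorem epi_of_lifts {X : Scheme.{u}} {A B : X.Modules} (r : A ⟶ B) (hg : Curv2.IsGloballyGenerated B)
    (h : ∀ φ : Coh.structureModule X ⟶ B, ∃ ψ, ψ ≫ r = φ) : Epi r := by
  obtain ⟨ι, p, hp⟩ := Horrocks.exists_sigma_epi hg
  choose ψ hψ using fun i => h (Sigma.ι (fun _ : ι => Coh.structureModule X) i ≫ p)
  have e : Sigma.desc ψ ≫ r = p := Sigma.hom_ext _ _ fun i => by
    rw [← Category.assoc, Sigma.ι_desc, hψ]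
  exact epi_of_epi_fac e

theorem subsingleton_ext_sumTS_large (c : ℕ) (a : ℤ) {q : ℕ} (hq : q ≠ 0) {m : ℤ} (h : a ≤ m) :
    Subsingleton (Ext.{u} (sumTS n k c a) (TS n k m) q) :=
  SerreDual.subsingleton_ext_sigma _ _ c q (SerreDual.subsingleton_ext_TS (by omega) hq)

omit [HasExt.{u} (CohB1.ProjSpace n k).Modules] in
theorem subsingleton_ext_unit {X : Scheme.{u}} [HasExt.{u} X.Modules]
    [X.Over (Spec (CommRingCat.of k))] (M : X.Modules) (q : ℕ) (h : Subsingleton (Coh.HH X M q)) :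
    Subsingleton (Ext.{u} (Coh.structureModule X) M q) :=
  (ExtHH.Basic.extUnitEquiv k M q).injective.subsingleton

omit [HasExt.{u} (CohB1.ProjSpace n k).Modules] in
theorem isZero_of_gg {X : Scheme.{u}} {B : X.Modules} (hg : Curv2.IsGloballyGenerated B)
    (h : Subsingleton (Coh.structureModule X ⟶ B)) : IsZero B := by
  obtain ⟨ι, p, hp⟩ := Horrocks.exists_sigma_epi hg
  haveI := hp
  have hp0 : p = 0 := Sigma.hom_ext _ _ fun i => Subsingleton.elim _ _
  subst hp0
  exact IsZero.of_epi_zero (∐ fun _ : ι => Coh.structureModule X) B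

omit [HasExt.{u} (CohB1.ProjSpace n k).Modules] in
theorem subsingleton_dualHom_iff {X : Scheme.{u}} [IsLocallyNoetherian X] {F L L' : X.Modules}
    (hF : Coh.IsCoh F) (hL : PicF.IsInvertible L) (e : L ≅ L') :
    Subsingleton (Coh.structureModule X ⟶ CohB1.tensorMod (_root_.RefHull.dual F) L) ↔
      Subsingleton (F ⟶ L') :=
  ((Ext.homEquiv hF hL).trans (Iso.homToEquiv e)).subsingleton_congr

variable {S : ShortComplex (CohB1.ProjSpace n k).Modules} (hS : S.ShortExact) (c : ℕ) (a : ℤ)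
  (h2 : S.X₂ = sumTS n k c a)
include hS h2

theorem extVanish_succ_iff {q : ℕ} (hq : q ≠ 0) : ExtVanish (q + 1) S.X₃ ↔ ExtVanish q S.X₁ := by
  have hv : ∀ {q' : ℕ} (_ : q' ≠ 0) {m : ℤ} (_ : a ≤ m), Subsingleton (Ext.{u} S.X₂ (TS n k m) q') :=
    fun hq' _ hm => h2 ▸ subsingleton_ext_sumTS_large c a hq' hm
  constructor
  · rintro ⟨m₀, hm₀⟩
    refine ⟨max m₀ a, fun m hm => ?_⟩
    have := hm₀ m (le_of_max_le_left hm)
    exact (SerreDual.injective_pre k hS (TS n k m) (Nat.add_comm 1 q)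
      (hv hq (le_of_max_le_right hm))).subsingleton
  · rintro ⟨m₀, hm₀⟩
    refine ⟨max m₀ a, fun m hm => ?_⟩
    have := hm₀ m (le_of_max_le_left hm)
    exact (SerreDual.surjective_pre k hS (TS n k m) (Nat.add_comm 1 q)
      (hv (Nat.succ_ne_zero q) (le_of_max_le_right hm))).subsingleton

theorem subsingleton_ext_one_iff {m : ℤ} (hm : a ≤ m) :
    Subsingleton (Ext.{u} S.X₃ (TS n k m) 1) ↔
      Function.Surjective fun φ : S.X₂ ⟶ tw n k m => S.f ≫ φ := by
  have hv : Subsingleton (Ext.{u} S.X₂ (TS n k m) 1) :=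
    h2 ▸ subsingleton_ext_sumTS_large c a one_ne_zero hm
  constructor
  · intro h ψ
    obtain ⟨z, hz⟩ := Ext.contravariant_sequence_exact₁ hS (TS n k m) (Ext.mk₀ (ψ ≫ (twIso m).hom))
      (add_zero 1) (Subsingleton.elim _ _)
    obtain ⟨φ, rfl⟩ := (Ext.mk₀_bijective _ _).2 z
    have e : S.f ≫ φ = ψ ≫ (twIso m).hom :=
      (Ext.mk₀_bijective _ _).1 ((Ext.mk₀_comp_mk₀ _ _).symm.trans hz)
    exact ⟨φ ≫ (twIso m).inv, by simp [reassoc_of% e]⟩
  · intro h
    refine subsingleton_of_forall_eq 0 fun y => ?_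
    obtain ⟨z, hz⟩ := Ext.contravariant_sequence_exact₃ hS (TS n k m) y (Subsingleton.elim _ _) (add_zero 1)
    obtain ⟨ψ, rfl⟩ := (Ext.mk₀_bijective _ _).2 z
    obtain ⟨φ, hφ⟩ := h (ψ ≫ (twIso m).inv)
    have e : S.f ≫ φ ≫ (twIso m).hom = ψ := by
      change S.f ≫ φ = ψ ≫ (twIso m).inv at hφ
      simp [reassoc_of% hφ]
    rw [← hz, ← e, ← Ext.mk₀_comp_mk₀, ← Ext.comp_assoc _ _ _ (add_zero 1) (zero_add 0) (by omega),
      hS.extClass_comp, Ext.zero_comp]

theorem extVanish_one_iff_epi (h1 : Coh.IsCoh S.X₁) :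
    ExtVanish 1 S.X₃ ↔ Epi (Basic.pre S.f (Coh.structureModule ℙ)) := by
  let r := Basic.pre S.f (Coh.structureModule ℙ)
  have hc2 : Coh.IsCoh S.X₂ := h2 ▸ isCoh_sumTS c a
  have hO : Coh.IsCoh (Coh.structureModule ℙ) := RefHull.Reflexive.isCoh_structure
  have hD1 := RefHull.HomSh.isCoh_homSh (G := Coh.structureModule ℙ) h1 hO
  have hD2 := RefHull.HomSh.isCoh_homSh (G := Coh.structureModule ℙ) hc2 hO
  constructor
  · rintro ⟨m₀, hm₀⟩
    obtain ⟨m₁, hm₁⟩ := exists_forall_gg _ hD1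
    let m := max (max m₀ m₁) a
    have hs := (subsingleton_ext_one_iff hS c a h2 (le_max_right _ _)).1
      (hm₀ m ((le_max_left _ _).trans (le_max_left _ _)))
    haveI : Epi ((tensorBy (tw n k m)).map r) := by
      refine epi_of_lifts _ (hm₁ m ((le_max_right _ _).trans (le_max_left _ _))) fun φ => ?_
      obtain ⟨χ, hχ⟩ := hs (Ext.homEquiv h1 (isInvertible_tw m) φ)
      refine ⟨(Ext.homEquiv hc2 (isInvertible_tw m)).symm χ,
        (Ext.homEquiv h1 (isInvertible_tw m)).injective ?_⟩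
      refine (Ext.homEquiv_natural h1 hc2 (isInvertible_tw m) S.f _).trans ?_
      rw [Equiv.apply_symm_apply]
      exact hχ
    exact (tensorBy (tw n k m)).epi_of_epi_map inferInstance
  · intro hr
    have hK : Coh.IsCoh (kernel r) := CohBasics.Closure.isCoh_kernel r hD2 hD1.1
    obtain ⟨d₀, hd₀⟩ := Coherent.exists_forall_subsingleton _ hK
    refine ⟨max (d₀ : ℤ) a, fun m hm => ?_⟩
    refine (subsingleton_ext_one_iff hS c a h2 (le_of_max_le_right hm)).2 fun ψ => ?_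
    let T := ShortComplex.mk (kernel.ι r) r (kernel.condition r)
    have hT : T.ShortExact :=
      { exact := ShortComplex.exact_of_f_is_kernel _ (kernelIsKernel r), epi_g := hr }
    have hTm := shortExact_tw hT m
    haveI : Subsingleton (Ext.{u} (Coh.structureModule ℙ) (T.map (tensorBy (tw n k m))).X₁ 1) :=
      (subsingleton_ext_unit (k := k) (CohB1.tensorMod (kernel r) (tw n k m)) 1
        (hd₀ m (le_of_max_le_left hm) 0) :)
    obtain ⟨z, hz⟩ := Ext.covariant_sequence_exact₃ (Coh.structureModule ℙ) hTm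
      (Ext.mk₀ ((Ext.homEquiv h1 (isInvertible_tw m)).symm ψ)) (zero_add 1) (Subsingleton.elim _ _)
    obtain ⟨φ, rfl⟩ := (Ext.mk₀_bijective _ _).2 z
    refine ⟨Ext.homEquiv hc2 (isInvertible_tw m) φ, ?_⟩
    refine (Ext.homEquiv_natural h1 hc2 (isInvertible_tw m) S.f φ).symm.trans ?_
    refine (congrArg (Ext.homEquiv h1 (isInvertible_tw m))
      ((Ext.mk₀_bijective _ _).1 ((Ext.mk₀_comp_mk₀ _ _).symm.trans hz))).trans ?_
    exact Equiv.apply_symm_apply _ ψ

omit hS h2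

theorem extVanish_zero_iff (F : (CohB1.ProjSpace n k).Modules) (hF : Coh.IsCoh F) :
    ExtVanish 0 F ↔ IsZero (_root_.RefHull.dual F) := by
  constructor
  · rintro ⟨m₀, hm₀⟩
    obtain ⟨m₁, hm₁⟩ := exists_forall_gg _ (RefHull.Reflexive.isCoh_dual hF)
    have hg := hm₁ (max m₀ m₁) (le_max_right _ _)
    exact Horrocks.isZero_of_tw _ (isZero_of_gg hg
      ((subsingleton_dualHom_iff hF (isInvertible_tw _) (twIso _)).2
        (Ext.addEquiv₀.toEquiv.subsingleton_congr.1 (hm₀ _ (le_max_left _ _)))))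
  · intro h
    refine ⟨0, fun m _ => ?_⟩
    have hz : IsZero ((tensorBy (tw n k m)).obj (_root_.RefHull.dual F)) :=
      (tensorBy (tw n k m)).map_isZero h
    have := (subsingleton_dualHom_iff hF (isInvertible_tw m) (twIso m)).1
      ⟨fun φ ψ => hz.eq_of_tgt φ ψ⟩
    exact Ext.addEquiv₀.injective.subsingleton

theorem main (j : ℕ) : ∀ (F : (CohB1.ProjSpace n k).Modules), Coh.IsCoh F →
    (ExtVanish j F → ∀ x : ℙ, Ext.StalkExtVanish x j F) ∧
    ((∀ x : ℙ, IsClosed ({x} : Set ℙ) → Ext.StalkExtVanish x j F) → ExtVanish j F) := by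
  induction j with
  | zero =>
    refine fun F hF => ⟨fun h x => (Ext.stalkExtVanish_zero_iff x hF).2
      (Modules.Stalk.isZero_iff_stalk_subsingleton.1 ((extVanish_zero_iff F hF).1 h) x), fun h => ?_⟩
    exact (extVanish_zero_iff F hF).2 (Ext.isZero_of_subsingleton_stalk (RefHull.Reflexive.isCoh_dual hF)
      fun x hx => (Ext.stalkExtVanish_zero_iff x hF).1 (h x hx))
  | succ j ih =>
    intro F hF
    obtain ⟨c, m, S, -, hS, h1, h2, rfl⟩ := SerreDual.exists_resolution F hF 1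
    have hc2 : Coh.IsCoh S.X₂ := h2 ▸ isCoh_sumTS c _
    have hP : ∀ x : ℙ, Projective ((Modules.StalkModule.stalkModFunctor ℙ x).obj S.X₂) := fun x => by
      rw [h2]
      exact Ext.projective_stalk_sigma x (ι := Fin c) (Horrocks.isInvertible_TS _)
    rcases eq_or_ne j 0 with rfl | hj
    · refine ⟨fun h x => (Ext.stalkExtVanish_one_iff x hS (hP x) h1 hc2).2 ?_, fun h => ?_⟩
      · haveI := (extVanish_one_iff_epi hS c _ h2 h1).1 h
        exact (Modules.StalkModule.epi_iff_stalkMapₗ_surjective _).1 inferInstance x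
      · refine (extVanish_one_iff_epi hS c _ h2 h1).2 (Ext.epi_of_surjective_stalk _
          (RefHull.HomSh.isCoh_homSh hc2 RefHull.Reflexive.isCoh_structure).1
          (RefHull.HomSh.isCoh_homSh h1 RefHull.Reflexive.isCoh_structure) fun x hx => ?_)
        exact (Ext.stalkExtVanish_one_iff x hS (hP x) h1 hc2).1 (h x hx)
    · refine ⟨fun h x => (Ext.stalkExtVanish_succ_iff x hS (hP x) hj).2
          ((ih _ h1).1 ((extVanish_succ_iff hS c _ h2 hj).1 h) x), fun h => ?_⟩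
      exact (extVanish_succ_iff hS c _ h2 hj).2
        ((ih _ h1).2 fun x hx => (Ext.stalkExtVanish_succ_iff x hS (hP x) hj).1 (h x hx))

/-- The criterion in cohomological terms. -/
theorem twist_iff {i j : ℕ} (h : i + j = n) (F : (CohB1.ProjSpace n k).Modules) (hF : Coh.IsCoh F) :
    (∃ m₀ : ℤ, ∀ m : ℤ, m₀ ≤ m → Subsingleton (Coh.HH ℙ (CohB1.tensorMod F (tw n k (-m))) i)) ↔
      ExtVanish j F := by
  constructor
  · rintro ⟨m₀, hm⟩
    refine ⟨m₀ - (n + 1), fun m hm' => ?_⟩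
    have := (subsingleton_HH_iff h F hF (m + (n + 1))).1 (hm _ (by omega))
    rwa [show -((n : ℤ) + 1) + (m + (n + 1)) = m by ring] at this
  · rintro ⟨m₀, hm⟩
    exact ⟨m₀ + (n + 1), fun m hm' => (subsingleton_HH_iff h F hF m).2 (hm _ (by omega))⟩

end Groth.Agent.Lib.ProjCoh.TwistVanish
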