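import Groth.Agent.Lib.ProjCoh.SerreDual
import Groth.Agent.Lib.ProjCoh.GlobalFun
import Groth.Agent.Lib.ProjKoszul.Regularity
import Groth.Agent.Lib.TensorMod.Integral
import Groth.Agent.Lib.TensorMod.TensorInv
import Groth.Agent.Lib.TensorMod.FPConv
import Groth.Agent.Lib.DerivedOX.FlatTensor
import Groth.Agent.Lib.DerivedOX.PullTensor
import Groth.Agent.Lib.ExtHH.SheafHom
import Groth.Agent.Lib.ProjSpace.Basic
import Groth.Agent.Lib.ProjSpace.Dim

/-!
# Horrocks' splitting criterion on `P^n_k`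

* `Horrocks.exists_iso_sum`: a coherent module on `P^d_k` (`d ≥ 1`) without intermediate cohomology
  and with `H^0(F(n)) = 0` for `n ≪ 0` is a finite sum of twists.
* `Horrocks.exists_h0_vanish`: `H^0(E(n)) = 0` for `n ≪ 0` and `E` finite locally free.
-/

universe u

open CategoryTheory CategoryTheory.Limits AlgebraicGeometry Opposite TopologicalSpace

noncomputable section

namespace Groth.Agent.Lib.ProjCoh.Horrocks

open CategoryTheory.Abelian
open Groth.Agent.Lib Groth.Agent.Lib.ProjCoh.Sections Groth.Agent.Lib.ProjCoh.Coherent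
open Groth.Agent.Lib.TensorMod.Basic

/-! ### Generalities -/

section General

variable {X : Scheme.{u}} (A : Type u) [CommRing A] [X.Over (Spec (CommRingCat.of A))]

theorem mapK_comp_apply {M N Q : X.Modules} (φ : M ⟶ N) (χ : N ⟶ Q) (q : ℕ) (x : Coh.HH X M q) :
    Curves.LES.mapK A (φ ≫ χ) q x = Curves.LES.mapK A χ q (Curves.LES.mapK A φ q x) := by
  rw [Curves.LES.mapK_comp]; rfl

include A in
theorem subsingleton_of_retract {M N : X.Modules} (i : M ⟶ N) (p : N ⟶ M) (h : i ≫ p = 𝟙 M) (q : ℕ)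
    (hN : Subsingleton (Coh.HH X N q)) : Subsingleton (Coh.HH X M q) := by
  refine subsingleton_of_forall_eq 0 fun x => ?_
  have : Curves.LES.mapK A p q (Curves.LES.mapK A i q x) = x := by
    rw [← LinearMap.comp_apply, ← Curves.LES.mapK_comp, h, Curves.LES.mapK_id]
    rfl
  rw [← this, Subsingleton.elim (Curves.LES.mapK A i q x) 0, map_zero]

include A in
theorem subsingleton_HH_sigma {r : ℕ} (f : Fin r → X.Modules) (q : ℕ)
    (h : ∀ j, Subsingleton (Coh.HH X (f j) q)) : Subsingleton (Coh.HH X (∐ f) q) := by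
  classical
  let π : ∀ i, (∐ f) ⟶ f i := fun i => Sigma.desc fun j => if hj : j = i then eqToHom (congrArg f hj) else 0
  have htot : ∑ i, π i ≫ Sigma.ι f i = 𝟙 (∐ f) := Sigma.hom_ext _ _ fun j => by
    rw [Preadditive.comp_sum, Category.comp_id, Finset.sum_eq_single j]
    · simp [π]
    · intro b _ hb; simp [π, Ne.symm hb]
    · simp
  have hs : ∀ (s : Finset (Fin r)) (x : Coh.HH X (∐ f) q),
      Curves.LES.mapK A (∑ i ∈ s, π i ≫ Sigma.ι f i) q x = 0 := fun s x => by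
    induction s using Finset.induction_on with
    | empty => rw [Finset.sum_empty]; exact Duality.mapK_zero_apply A q x
    | insert a s ha ih =>
      rw [Finset.sum_insert ha, mapK_add, ih, add_zero, Curves.LES.mapK_comp, LinearMap.comp_apply,
        Subsingleton.elim (Curves.LES.mapK A (π a) q x) 0, map_zero]
  refine subsingleton_of_forall_eq 0 fun x => ?_
  have := hs Finset.univ x
  rwa [htot, Curves.LES.mapK_id] at this

omit [X.Over (Spec (CommRingCat.of A))] in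
theorem mono_of_app_injective {M N : X.Modules} (φ : M ⟶ N)
    (h : ∀ U : X.Opens, Function.Injective (φ.app U)) : Mono φ := by
  have : Mono ((Scheme.Modules.toPresheafOfModules X).map φ) :=
    PresheafOfModules.mono_of_injective fun {U} => h U.unop
  exact (Scheme.Modules.toPresheafOfModules X).mono_of_mono_map this

end General

section Integral

variable {X : Scheme.{u}} [IsIntegral X]

open Groth.Agent.Lib.TensorMod.Dual Groth.Agent.Lib.TensorMod.Gen Groth.Agent.Lib.TensorMod.HomGlue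

/-- A nonzero morphism of invertible modules on an integral scheme is a monomorphism. -/
theorem mono_of_ne_zero {L M : X.Modules} (hL : PicF.IsInvertible L) (hM : PicF.IsInvertible M)
    {f : L ⟶ M} (hf : f ≠ 0) : Mono f := by
  refine mono_of_app_injective f fun V => (injective_iff_map_eq_zero _).2 fun m hm => ?_
  choose U e hxU he using isInvertible_iff.1 hL
  choose U' e' hxU' he' using isInvertible_iff.1 hM
  refine sections_ext_cover (fun x => U x ⊓ U' x) L (V := V)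
    (fun x _ => Opens.mem_iSup.2 ⟨x, hxU x, hxU' x⟩) fun x => ?_
  rw [show rs L (inf_le_left : V ⊓ (U x ⊓ U' x) ≤ V) (0 : Γ(L, V)) = 0 from map_zero _]
  obtain ⟨a, ha⟩ := (he x (V ⊓ (U x ⊓ U' x)) (inf_le_right.trans inf_le_left)).2
    (rs L inf_le_left m)
  simp only at ha
  rcases isEmpty_or_nonempty ↥(V ⊓ (U x ⊓ U' x) : X.Opens) with hem | hne
  · refine sections_ext_cover (fun _ : Empty => (⊥ : X.Opens)) L ?_ (fun i => i.elim)
    exact fun p hp => (hem.false ⟨p, hp⟩).elim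
  have : Nonempty (V ⊓ (U x ⊓ U' x) : X.Opens) := hne
  have hW : Nonempty (U x ⊓ U' x : X.Opens) := hne.map fun p => ⟨p.1, p.2.2⟩
  obtain ⟨c, hc⟩ := (he' x (U x ⊓ U' x) inf_le_right).2 (f.app (U x ⊓ U' x) (rs L inf_le_left (e x)))
  simp only at hc
  have hc0 : c ≠ 0 := fun h0 => TensorMod.Integral.app_gen_ne_zero hL hM hf ((he x).res inf_le_left) hW
    (by rw [← hc, h0, zero_smul])
  have h1 : f.app _ (rs L (inf_le_left : V ⊓ (U x ⊓ U' x) ≤ V) m) = 0 := by
    rw [← rs_app, hm]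
    exact map_zero _
  rw [← ha, Scheme.Modules.Hom.app_smul,
    ← rs_rs L (inf_le_left : U x ⊓ U' x ≤ U x) (inf_le_right : V ⊓ (U x ⊓ U' x) ≤ U x ⊓ U' x) (e x),
    ← rs_app, ← hc, rs_smul, rs_rs, ← mul_smul] at h1
  have h2 : a * rf (inf_le_right : V ⊓ (U x ⊓ U' x) ≤ U x ⊓ U' x) c = 0 :=
    (he' x _ (inf_le_right.trans inf_le_right)).1 (h1.trans (zero_smul _ _).symm)
  rcases mul_eq_zero.1 h2 with ha0 | h0
  · rw [← ha, ha0, zero_smul]
  · exact absurd (map_injective_of_isIntegral X (homOfLE inf_le_right)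
      (h0.trans (map_zero (X.presheaf.map _).hom).symm)) hc0

end Integral

/-! ### Projective space -/

variable {d : ℕ} {k : Type u} [Field k]

local notation "ℙ" => CohB1.ProjSpace d k

theorem isInvertible_TS (a : ℤ) : PicF.IsInvertible (TS d k a) :=
  TensorMod.Invertible.isInvertible_of_iso (twIso a) (isInvertible_tw a)

/-- `F(a)(b) ≅ F(a + b)`. -/
def twTwIso (F : (CohB1.ProjSpace d k).Modules) (a b c : ℤ) (h : a + b = c) :
    CohB1.tensorMod (CohB1.tensorMod F (tw d k a)) (tw d k b) ≅ CohB1.tensorMod F (tw d k c) :=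
  assoc _ _ _ ≪≫ tensorIso (Iso.refl F) (twTensor a b ≪≫ eqToIso (by rw [h]))

/-- The exponents `(-1 - i, -1 - (j - i), -1, …)`. -/
def expN (hd : 0 < d) (j : ℕ) (i : Fin (j + 1)) : Fin (d + 1) →₀ ℤ :=
  Top.negOne d - Finsupp.single 0 (i : ℤ) - Finsupp.single (Fin.last d) ((j : ℤ) - i)

theorem neg_expN (hd : 0 < d) (j : ℕ) (i : Fin (j + 1)) :
    Top.Neg.{u} (-((d : ℤ) + 1) - j) (expN hd j i) := by
  refine Top.neg_of ?_ fun _ l => ?_
  · simp [expN, Finset.sum_sub_distrib]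
  · have := i.isLt
    simp only [expN, Finsupp.sub_apply, Top.negOne_apply, Finsupp.single_apply]
    split_ifs <;> omega

theorem expN_injective (hd : 0 < d) (j : ℕ) : Function.Injective (expN hd j) := fun i i' h => by
  have h0 := DFunLike.congr_fun h 0
  have : Fin.last d ≠ 0 := fun e => by simp [Fin.ext_iff] at e; omega
  simp [expN, this] at h0
  exact Fin.ext (by omega)

/-- There are at least `j + 1` independent morphisms `O(-d-1-j) → ω`. -/
theorem exists_linearIndependent_hom (hd : 0 < d) (j : ℕ) :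
    ∃ φ : Fin (j + 1) → (TS d k (-((d : ℤ) + 1) - j) ⟶ Duality.ω d k), LinearIndependent k φ := by
  classical
  choose φ hφ hu using fun i : Fin (j + 1) =>
    Top.existsUnique_hom (-((d : ℤ) + 1) - j) (Top.res (R := k) (expN hd j i) (neg_expN hd j i))
  refine ⟨φ, LinearIndependent.of_comp (SerreDual.θ₀ _) ?_⟩
  have e : SerreDual.θ₀ (TS d k (-((d : ℤ) + 1) - j)) ∘ φ = fun i => Top.res (expN hd j i) (neg_expN hd j i) :=
    funext fun i => LinearMap.ext fun x => (hφ i x).symm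
  rw [e, Fintype.linearIndependent_iff]
  intro g hg i
  have := LinearMap.congr_fun hg (Top.cl (expN hd j i) (neg_expN hd j i))
  simpa [Top.res_cl, (expN_injective hd j).eq_iff, Finset.sum_ite_eq'] using this

/-- `Hom(O, M)` is `H^0(M)`. -/
theorem nonempty_homEquiv (M : (CohB1.ProjSpace d k).Modules) :
    Nonempty ((Coh.structureModule ℙ ⟶ M) ≃ₗ[k] Coh.HH ℙ M 0) :=
  haveI := hasExt_of_enoughInjectives.{u} (CohB1.ProjSpace d k).Modules
  ⟨(Ext.linearEquiv₀ (R := k)).symm ≪≫ₗ ExtHH.Basic.extUnitEquiv k M 0⟩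

theorem subsingleton_hom_iff (M : (CohB1.ProjSpace d k).Modules) :
    Subsingleton (Coh.structureModule ℙ ⟶ M) ↔ Subsingleton (Coh.HH ℙ M 0) := by
  obtain ⟨e⟩ := nonempty_homEquiv M
  exact e.toEquiv.subsingleton_congr

theorem tmap_add (M : (CohB1.ProjSpace d k).Modules) {A B : (CohB1.ProjSpace d k).Modules} (φ ψ : A ⟶ B) :
    tmap (𝟙 M) (φ + ψ) = tmap (𝟙 M) φ + tmap (𝟙 M) ψ :=
  ((DerivedOX.PullTensor.tensorBi_obj_map M (φ + ψ)).symm.trans (Functor.map_add _)).trans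
    (congrArg₂ (· + ·) (DerivedOX.PullTensor.tensorBi_obj_map M φ) (DerivedOX.PullTensor.tensorBi_obj_map M ψ))

theorem exists_sigma_epi {X : Scheme.{u}} {M : X.Modules} (h : Curv2.IsGloballyGenerated M) :
    ∃ (ι : Type u) (p : (∐ fun _ : ι => Coh.structureModule X) ⟶ M), Epi p := h

/-- `φ ↦ s ≫ (M ⊗ φ)`. -/
def mulBy (M : (CohB1.ProjSpace d k).Modules) {a b : ℤ}
    (s : Coh.structureModule ℙ ⟶ CohB1.tensorMod M (TS d k a)) :
    (TS d k a ⟶ TS d k b) →ₗ[k] (Coh.structureModule ℙ ⟶ CohB1.tensorMod M (TS d k b)) where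
  toFun φ := s ≫ tmap (𝟙 M) φ
  map_add' φ ψ := by rw [tmap_add, Preadditive.comp_add]
  map_smul' r φ := by
    have : tmap (𝟙 M) (r • φ) = r • tmap (𝟙 M) φ := by
      have e1 : r • φ = φ ≫ (r • 𝟙 (TS d k b)) := by rw [Linear.comp_smul, Category.comp_id]
      have e2 : tmap (𝟙 M) (φ ≫ (r • 𝟙 (TS d k b))) =
          tmap (𝟙 M) φ ≫ tmap (𝟙 M) (r • 𝟙 (TS d k b)) := by rw [← tmap_comp, Category.id_comp]
      rw [e1, e2, ExtHH.SheafHom.tensor_map_smul, Linear.comp_smul, Category.comp_id]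
    rw [RingHom.id_apply, this, Linear.comp_smul]

theorem mulBy_injective (M : (CohB1.ProjSpace d k).Modules) (hM : FlatMod.IsFlat M) {a b : ℤ}
    {s : Coh.structureModule ℙ ⟶ CohB1.tensorMod M (TS d k a)} (hs : s ≠ 0) :
    Function.Injective (mulBy M (b := b) s) := by
  refine (injective_iff_map_eq_zero _).2 fun φ hφ => ?_
  by_contra hne
  have := mono_of_ne_zero (isInvertible_TS a) (isInvertible_TS b) hne
  have hmono : Mono (tmap (𝟙 M) φ) := by
    rw [← DerivedOX.PullTensor.tensorBi_obj_map]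
    exact DerivedOX.FlatTensor.mono_tensor_map_of_isFlat hM φ
  exact hs ((cancel_mono (tmap (𝟙 M) φ)).1 ((show s ≫ tmap (𝟙 M) φ = 0 from hφ).trans zero_comp.symm))

/-- `H^0(E(n)) = 0` for `n ≪ 0`. -/
theorem exists_h0_vanish (hd : 0 < d) (E : (CohB1.ProjSpace d k).Modules) (hE : FlatMod.IsFinLocFree E) :
    ∃ n₀ : ℤ, ∀ n : ℤ, n ≤ n₀ → Subsingleton (Coh.HH ℙ (CohB1.tensorMod E (tw d k n)) 0) := by
  obtain ⟨e⟩ := nonempty_homEquiv (CohB1.tensorMod E (TS d k (-((d : ℤ) + 1))))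
  have hfin : Module.Finite k (Coh.HH ℙ (CohB1.tensorMod E (TS d k (-((d : ℤ) + 1)))) 0) :=
    finite_HH _ (isCoh_tensorMod (Perfect.Coherent.isCoh_of_isFinLocFree hE)
      (CohBasics.Closure.isCoh_of_iso (twIso _) (isCoh_tw _))) 0
  have := Module.Finite.equiv e.symm
  let D := Module.finrank k (Coh.structureModule ℙ ⟶ CohB1.tensorMod E (TS d k (-((d : ℤ) + 1))))
  refine ⟨-((d : ℤ) + 1) - D, fun n hn => ?_⟩
  obtain ⟨j, rfl⟩ : ∃ j : ℕ, n = -((d : ℤ) + 1) - j := ⟨(-((d : ℤ) + 1) - n).toNat, by omega⟩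
  obtain ⟨φ, hφ⟩ := exists_linearIndependent_hom (k := k) hd j
  have hzero : ∀ s : Coh.structureModule ℙ ⟶ CohB1.tensorMod E (TS d k (-((d : ℤ) + 1) - j)), s = 0 :=
    fun s => by
      by_contra hs
      have hinj := mulBy_injective E (TensorMod.FPConv.isFlat_of_isFinLocFree hE) (b := -((d : ℤ) + 1)) hs
      have := (hφ.map' _ (LinearMap.ker_eq_bot.mpr hinj)).fintype_card_le_finrank
      simp only [Fintype.card_fin] at this
      omega
  have hsub := (subsingleton_hom_iff _).1 (subsingleton_of_forall_eq 0 hzero)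
  exact ProjKoszul.Chase.subsingleton_of_iso k (tensorIso (Iso.refl E) (twIso _)) hsub

/-- Nonvanishing of sections of `O(a)`, `a ≥ 0`. -/
theorem not_subsingleton_h0_tw (hd : 0 < d) {a : ℤ} (ha : 0 ≤ a) :
    ¬ Subsingleton (Coh.HH ℙ (tw d k a) 0) := by
  intro h
  obtain ⟨j, rfl⟩ := Int.eq_ofNat_of_zero_le ha
  have h0 : Subsingleton (Coh.structureModule ℙ ⟶ tw d k (j : ℤ)) := (subsingleton_hom_iff _).2 h
  obtain ⟨φ, hφ⟩ := exists_linearIndependent_hom (k := k) hd j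
  refine hφ.ne_zero 0 ?_
  let T := tensorBy (tw d k (((d : ℤ) + 1) + j))
  let e1 : T.obj (TS d k (-((d : ℤ) + 1) - j)) ≅ Coh.structureModule ℙ :=
    SerreDual.tsTensor _ _ ≪≫ eqToIso (congrArg (TS d k) (by ring)) ≪≫ (Twist.structureIso d k).symm
  let e2 : T.obj (Duality.ω d k) ≅ tw d k (j : ℤ) :=
    SerreDual.tsTensor _ _ ≪≫ eqToIso (congrArg (TS d k) (by ring)) ≪≫ (twIso _).symm
  apply T.map_injective
  rw [Functor.map_zero, ← cancel_epi e1.inv, ← cancel_mono e2.hom, comp_zero, zero_comp]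
  exact Subsingleton.elim _ _

/-- An endomorphism of `O` is a scalar. -/
theorem isIso_of_ne_zero {φ : Coh.structureModule ℙ ⟶ Coh.structureModule ℙ} (h : φ ≠ 0) : IsIso φ := by
  obtain ⟨r, hr⟩ := (GlobalFun.toGlobal_bijective d k).2
    (show Γ(ℙ, ⊤) from φ.app ⊤ (TensorMod.Gen.one ℙ ⊤))
  have e : φ = r • 𝟙 (Coh.structureModule ℙ) := by
    refine Scheme.Modules.hom_ext _ _ fun W => ?_
    ext a
    rw [TensorMod.Gen.app_eq_smul φ a, TensorMod.Gen.app_eq_smul (r • 𝟙 (Coh.structureModule ℙ)) a]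
    refine congrArg ((show Γ(ℙ, W) from a) • ·) ?_
    rw [← TensorMod.Gen.rs_app_one φ (le_top : W ≤ ⊤),
      ← TensorMod.Gen.rs_app_one (r • 𝟙 (Coh.structureModule ℙ)) (le_top : W ≤ ⊤)]
    refine congrArg (TensorMod.Dual.rs _ _) ?_
    rw [KLin.smul_app_apply]
    refine hr.symm.trans ?_
    exact (mul_one _).symm.trans (congrArg (· * _)
      (CategoryTheory.Functor.map_id_apply (CohB1.ProjSpace d k).presheaf _ _).symm)
  have hr0 : r ≠ 0 := fun h0 => h (by rw [e, h0, zero_smul])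
  refine ⟨r⁻¹ • 𝟙 _, ?_, ?_⟩ <;>
    simp [e, Linear.smul_comp, Linear.comp_smul, smul_smul, hr0]

/-! ### The criterion -/

variable (d) in
/-- The hypotheses of Horrocks' criterion. -/
structure Hyp (F : (CohB1.ProjSpace d k).Modules) : Prop where
  coh : Coh.IsCoh F
  mid : ∀ (n : ℤ) (i : ℕ), 1 ≤ i → i < d → Subsingleton (Coh.HH ℙ (CohB1.tensorMod F (tw d k n)) i)
  low : ∃ n₀ : ℤ, ∀ n : ℤ, n ≤ n₀ → Subsingleton (Coh.HH ℙ (CohB1.tensorMod F (tw d k n)) 0)

theorem Hyp.retract {F G : (CohB1.ProjSpace d k).Modules} (h : Hyp d F) (hG : Coh.IsCoh G) (i : G ⟶ F)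
    (p : F ⟶ G) (hip : i ≫ p = 𝟙 G) : Hyp d G := by
  have hT : ∀ n, (tensorBy (tw d k n)).map i ≫ (tensorBy (tw d k n)).map p = 𝟙 _ := fun n => by
    rw [← Functor.map_comp, hip, CategoryTheory.Functor.map_id]
  obtain ⟨n₀, h₀⟩ := h.low
  exact ⟨hG, fun n q h1 h2 => subsingleton_of_retract k _ _ (hT n) q (h.mid n q h1 h2),
    n₀, fun n hn => subsingleton_of_retract k _ _ (hT n) 0 (h₀ n hn)⟩

theorem Hyp.reg_iff {F : (CohB1.ProjSpace d k).Modules} (h : Hyp d F) (hd : 1 ≤ d) (m : ℤ) :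
    ProjKoszul.Regularity.Reg F m ↔ Subsingleton (Coh.HH ℙ (CohB1.tensorMod F (tw d k (m - d))) d) := by
  refine ⟨fun hr => hr d hd, fun hs i hi => ?_⟩
  rcases lt_trichotomy i d with hlt | rfl | hgt
  · exact h.mid _ i hi hlt
  · exact hs
  · have : Coh.IsQCoh (CohB1.tensorMod F (tw d k (m - i))) := (isCoh_tensorMod h.coh (isCoh_tw _)).1
    exact Twist.subsingleton_HH_of_lt _ hgt

theorem Hyp.exists_reg {F : (CohB1.ProjSpace d k).Modules} (h : Hyp d F) (hd : 1 ≤ d) :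
    ∃ m, ProjKoszul.Regularity.Reg F m := by
  obtain ⟨d₀, hd₀⟩ := exists_forall_subsingleton F h.coh
  refine ⟨(d₀ : ℤ) + d, (h.reg_iff hd _).2 ?_⟩
  obtain ⟨q, rfl⟩ := Nat.exists_eq_succ_of_ne_zero (by omega : d ≠ 0)
  exact hd₀ _ (by omega) q

theorem isZero_of_tw {F : (CohB1.ProjSpace d k).Modules} (n : ℤ) (h : IsZero (CohB1.tensorMod F (tw d k n))) :
    IsZero F := by
  rw [IsZero.iff_id_eq_zero]
  apply (tensorBy (tw d k n)).map_injective
  exact h.eq_of_src _ _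

theorem isZero_of_glob {M : (CohB1.ProjSpace d k).Modules} (hg : Curv2.IsGloballyGenerated M)
    (h : Subsingleton (Coh.HH ℙ M 0)) : IsZero M := by
  obtain ⟨ι, p, hp⟩ := exists_sigma_epi hg
  have := (subsingleton_hom_iff M).2 h
  have hp0 : p = 0 := Sigma.hom_ext _ _ fun i => Subsingleton.elim _ _
  subst hp0
  exact IsZero.of_epi_zero (∐ fun _ : ι => Coh.structureModule ℙ) M

theorem Hyp.not_reg {F : (CohB1.ProjSpace d k).Modules} (h : Hyp d F) (hF : ¬ IsZero F) :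
    ∃ m, ¬ ProjKoszul.Regularity.Reg F m := by
  obtain ⟨n₀, h₀⟩ := h.low
  refine ⟨n₀, fun hr => hF (isZero_of_tw n₀ (isZero_of_glob
    (ProjKoszul.Regularity.isGloballyGenerated_of_le h.coh hr le_rfl) (h₀ n₀ le_rfl)))⟩

theorem exists_hom_ne_zero {M : (CohB1.ProjSpace d k).Modules} (hM : Coh.IsCoh M)
    (h : ¬ Subsingleton (Coh.HH ℙ M d)) : ∃ φ : M ⟶ Duality.ω d k, φ ≠ 0 := by
  by_contra hall
  simp only [ne_eq, not_exists, not_not] at hall
  refine h ((Module.subsingleton_dual_iff k).1 ⟨fun ℓ ℓ' => ?_⟩)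
  obtain ⟨φ, rfl⟩ := (SerreDual.θ₀_bijective M hM).2 ℓ
  obtain ⟨φ', rfl⟩ := (SerreDual.θ₀_bijective M hM).2 ℓ'
  rw [hall φ, hall φ']

/-- Splitting off `O` from `F(m)`, `m` the regularity. -/
theorem exists_retraction {F : (CohB1.ProjSpace d k).Modules} (h : Hyp d F) (hd : 1 ≤ d) (m : ℤ)
    (hm : ProjKoszul.Regularity.Reg F m) (hm' : ¬ ProjKoszul.Regularity.Reg F (m - 1)) :
    ∃ (s : Coh.structureModule ℙ ⟶ CohB1.tensorMod F (tw d k m))
      (ρ : CohB1.tensorMod F (tw d k m) ⟶ Coh.structureModule ℙ), s ≫ ρ = 𝟙 _ := by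
  rw [h.reg_iff hd] at hm'
  obtain ⟨φ, hφ⟩ := exists_hom_ne_zero (isCoh_tensorMod h.coh (isCoh_tw _)) hm'
  let T := tensorBy (tw d k ((d : ℤ) + 1))
  let e1 : T.obj (CohB1.tensorMod F (tw d k (m - 1 - d))) ≅ CohB1.tensorMod F (tw d k m) :=
    twTwIso F _ _ m (by ring)
  let e2 : T.obj (Duality.ω d k) ≅ Coh.structureModule ℙ :=
    SerreDual.tsTensor _ _ ≪≫ eqToIso (congrArg (TS d k) (by ring)) ≪≫ (Twist.structureIso d k).symm
  let ψ : CohB1.tensorMod F (tw d k m) ⟶ Coh.structureModule ℙ := e1.inv ≫ T.map φ ≫ e2.hom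
  have hψ : ψ ≠ 0 := fun h0 => hφ (T.map_injective (by
    rw [Functor.map_zero, ← cancel_epi e1.inv, ← cancel_mono e2.hom, Category.assoc,
      show e1.inv ≫ T.map φ ≫ e2.hom = 0 from h0, comp_zero, zero_comp]))
  obtain ⟨ι, p, hp⟩ := exists_sigma_epi (ProjKoszul.Regularity.isGloballyGenerated_of_le h.coh hm le_rfl)
  obtain ⟨i, hi⟩ : ∃ i, Sigma.ι (fun _ : ι => Coh.structureModule ℙ) i ≫ p ≫ ψ ≠ 0 := by
    by_contra hall
    simp only [ne_eq, not_exists, not_not] at hall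
    exact hψ ((cancel_epi p).1 ((Sigma.hom_ext _ _ fun i =>
      (hall i).trans comp_zero.symm).trans comp_zero.symm))
  have := isIso_of_ne_zero hi
  refine ⟨Sigma.ι (fun _ : ι => Coh.structureModule ℙ) i ≫ p,
    ψ ≫ inv (Sigma.ι (fun _ : ι => Coh.structureModule ℙ) i ≫ p ≫ ψ), ?_⟩
  rw [← Category.assoc, Category.assoc (Sigma.ι _ i) p ψ]
  exact IsIso.hom_inv_id _

/-- A nonzero module satisfying the hypotheses has a twist as a direct summand, the complement having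
fewer sections at any level `N` beyond the regularity. -/
theorem exists_split {F : (CohB1.ProjSpace d k).Modules} (h : Hyp d F) (hd : 1 ≤ d) (hF : ¬ IsZero F)
    (N : ℤ) (hN : ProjKoszul.Regularity.Reg F N) :
    ∃ (a : ℤ) (G : (CohB1.ProjSpace d k).Modules), Nonempty (F ≅ tw d k a ⊞ G) ∧ Hyp d G ∧
      ProjKoszul.Regularity.Reg G N ∧
      Module.finrank k (Coh.HH ℙ (CohB1.tensorMod G (tw d k N)) 0) <
        Module.finrank k (Coh.HH ℙ (CohB1.tensorMod F (tw d k N)) 0) := by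
  obtain ⟨b, hb⟩ := h.not_reg hF
  have hbN : b < N := by
    by_contra hle
    exact hb (ProjKoszul.Regularity.reg_of_le hN (not_lt.1 hle))
  obtain ⟨m, ⟨hm, hmN⟩, hleast⟩ := Int.exists_least_of_bdd
    (P := fun m => ProjKoszul.Regularity.Reg F m ∧ m ≤ N)
    ⟨b, fun z hz => by
      by_contra hlt
      exact hb (ProjKoszul.Regularity.reg_of_le hz.1 (le_of_lt (not_le.1 hlt)))⟩ ⟨N, hN, le_rfl⟩
  have hm' : ¬ ProjKoszul.Regularity.Reg F (m - 1) := fun hr => by
    have := hleast (m - 1) ⟨hr, by omega⟩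
    omega
  obtain ⟨s, ρ, hsρ⟩ := exists_retraction h hd m hm hm'
  let S := ShortComplex.mk s (cokernel.π s) (cokernel.condition s)
  let sp : S.Splitting := ShortComplex.Splitting.ofExactOfRetraction S
    (ShortComplex.exact_cokernel s) ρ hsρ (coequalizer.π_epi)
  let T := tensorBy (tw d k (-m))
  let e0 : T.obj (Coh.structureModule ℙ) ≅ tw d k (-m) := leftUnit _
  let e : F ≅ tw d k (-m) ⊞ T.obj (cokernel s) :=
    ((cancelNat (twCancel m (-m) (by omega))).app F).symm ≪≫ (sp.map T).isoBinaryBiproduct ≪≫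
      biprod.mapIso e0 (Iso.refl _)
  refine ⟨-m, T.obj (cokernel s), ⟨e⟩, ?_⟩
  have hG : Coh.IsCoh (T.obj (cokernel s)) :=
    isCoh_tensorMod (CohBasics.Closure.isCoh_cokernel s
      (Perfect.Coherent.isCoh_freeMod _ 1 |> fun hc => (CohBasics.Closure.isCoh_of_iso
        (TensorMod.LocFree.freeModOneIso _) hc).1) (isCoh_tensorMod h.coh (isCoh_tw _))) (isCoh_tw _)
  let i : T.obj (cokernel s) ⟶ F := biprod.inr ≫ e.inv
  let p : F ⟶ T.obj (cokernel s) := e.hom ≫ biprod.snd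
  have hip : i ≫ p = 𝟙 _ := by simp [i, p]
  have hT' : (tensorBy (tw d k N)).map i ≫ (tensorBy (tw d k N)).map p = 𝟙 _ := by
    rw [← Functor.map_comp, hip, CategoryTheory.Functor.map_id]
  refine ⟨h.retract hG i p hip, fun q hq => ?_, ?_⟩
  · refine subsingleton_of_retract k ((tensorBy (tw d k (N - q))).map i)
      ((tensorBy (tw d k (N - q))).map p) ?_ q (hN q hq)
    rw [← Functor.map_comp, hip, CategoryTheory.Functor.map_id]
  have : Module.Finite k (Coh.HH ℙ ((tensorBy (tw d k N)).obj F) 0) :=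
    finite_HH _ (isCoh_tensorMod h.coh (isCoh_tw N)) 0
  let I := Curves.LES.mapK k ((tensorBy (tw d k N)).map i) 0
  have hI : Function.Injective I := by
    refine Function.LeftInverse.injective
      (g := Curves.LES.mapK k ((tensorBy (tw d k N)).map p) 0) fun x => ?_
    rw [← LinearMap.comp_apply, ← Curves.LES.mapK_comp, hT', Curves.LES.mapK_id]
    rfl
  have hlt : LinearMap.range I < ⊤ := by
    refine lt_top_iff_ne_top.2 fun htop => ?_
    have hzero : biprod.inl ≫ e.inv ≫ p = 0 := by simp [p]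
    let j : tw d k (-m) ⟶ F := biprod.inl ≫ e.inv
    let r : F ⟶ tw d k (-m) := e.hom ≫ biprod.fst
    have hjr : (tensorBy (tw d k N)).map j ≫ (tensorBy (tw d k N)).map r = 𝟙 _ := by
      rw [← Functor.map_comp, show j ≫ r = 𝟙 _ by simp [j, r], CategoryTheory.Functor.map_id]
    refine not_subsingleton_h0_tw (k := k) (d := d) hd (a := -m + N) (by omega) ?_
    refine ProjKoszul.Chase.subsingleton_of_iso k (twTensor (n := d) (R := k) (-m) N) ?_
    refine subsingleton_of_forall_eq 0 fun x => ?_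
    obtain ⟨y, hy⟩ : ∃ y, I y = Curves.LES.mapK k ((tensorBy (tw d k N)).map j) 0 x :=
      LinearMap.range_eq_top.1 htop _
    have h1 := congrArg (Curves.LES.mapK k ((tensorBy (tw d k N)).map r) 0) hy
    refine ((Eq.trans ?_ h1).trans ?_).symm
    · refine Eq.symm ((mapK_comp_apply k _ _ 0 y).symm.trans ?_)
      rw [← Functor.map_comp, show i ≫ r = 0 by simp [i, r], Functor.map_zero]
      exact Duality.mapK_zero_apply k 0 y
    · refine (mapK_comp_apply k _ _ 0 x).symm.trans ?_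
      exact (congrArg (fun f => Curves.LES.mapK k f 0 x) hjr).trans
        (LinearMap.congr_fun (Curves.LES.mapK_id k _ 0) x)
  calc _ = Module.finrank k (LinearMap.range I) := (LinearMap.finrank_range_of_inj hI).symm
    _ < _ := Submodule.finrank_lt hlt.ne

/-- Prepending a summand. -/
theorem nonempty_cons {C : Type*} [Category C] [HasZeroMorphisms C] [HasBinaryBiproducts C] [HasFiniteCoproducts C]
    {r : ℕ} (f : Fin (r + 1) → C) :
    Nonempty (f 0 ⊞ (∐ fun i : Fin r => f i.succ) ≅ ∐ f) :=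
  ⟨{ hom := biprod.desc (Sigma.ι f 0) (Sigma.desc fun i => Sigma.ι f i.succ)
     inv := Sigma.desc fun j => Fin.cases (motive := fun j => f j ⟶ f 0 ⊞ ∐ fun i : Fin r => f i.succ)
       biprod.inl (fun i => Sigma.ι (fun i : Fin r => f i.succ) i ≫ biprod.inr) j
     hom_inv_id := by
       apply biprod.hom_ext'
       · simp
       · rw [biprod.inr_desc_assoc, Category.comp_id]
         refine Sigma.hom_ext _ _ fun i => ?_
         simp
     inv_hom_id := Sigma.hom_ext _ _ fun j => by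
       cases j using Fin.cases <;> simp }⟩

theorem exists_iso_sum_aux (hd : 1 ≤ d) (N : ℤ) : ∀ (b : ℕ) (F : (CohB1.ProjSpace d k).Modules),
    Hyp d F → ProjKoszul.Regularity.Reg F N →
    Module.finrank k (Coh.HH ℙ (CohB1.tensorMod F (tw d k N)) 0) ≤ b →
    ∃ (r : ℕ) (a : Fin r → ℤ), Nonempty (F ≅ ∐ fun j => tw d k (a j)) := by
  intro b
  induction b with
  | zero =>
    intro F h hN hb
    have := finite_HH _ (isCoh_tensorMod h.coh (isCoh_tw N)) 0
    have hz : IsZero F := isZero_of_tw N (isZero_of_glob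
      (ProjKoszul.Regularity.isGloballyGenerated_of_le h.coh hN le_rfl)
      (Module.finrank_zero_iff.1 (Nat.le_zero.1 hb)))
    refine ⟨0, Fin.elim0, ⟨hz.iso ?_⟩⟩
    rw [IsZero.iff_id_eq_zero]
    exact Sigma.hom_ext _ _ fun j => j.elim0
  | succ b ih =>
    intro F h hN hb
    by_cases hF : IsZero F
    · refine ⟨0, Fin.elim0, ⟨hF.iso ?_⟩⟩
      rw [IsZero.iff_id_eq_zero]
      exact Sigma.hom_ext _ _ fun j => j.elim0
    obtain ⟨a₀, G, ⟨e⟩, hG, hGN, hlt⟩ := exists_split h hd hF N hN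
    obtain ⟨r, a, ⟨g⟩⟩ := ih G hG hGN (by omega)
    obtain ⟨c⟩ := nonempty_cons (fun j => tw d k (Fin.cons (α := fun _ => ℤ) a₀ a j))
    exact ⟨r + 1, Fin.cons a₀ a, ⟨e ≪≫ biprod.mapIso (Iso.refl _) g ≪≫ c⟩⟩

/-- Horrocks' criterion. -/
theorem exists_iso_sum (hd : 1 ≤ d) (F : (CohB1.ProjSpace d k).Modules) (h : Hyp d F) :
    ∃ (r : ℕ) (a : Fin r → ℤ), Nonempty (F ≅ ∐ fun j => tw d k (a j)) := by
  obtain ⟨N, hN⟩ := h.exists_reg hd
  exact exists_iso_sum_aux hd N _ F h hN le_rfl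

/-- Sums of twists satisfy the hypotheses. -/
theorem nonempty_sumTwIso {r : ℕ} (a : Fin r → ℤ) (n : ℤ) :
    Nonempty ((tensorBy (tw d k n)).obj (∐ fun j => tw d k (a j)) ≅ ∐ fun j => TS d k (a j + n)) :=
  ⟨PreservesCoproduct.iso (tensorBy (tw d k n)) (fun j => tw d k (a j)) ≪≫
      Sigma.mapIso fun j => twTensor (a j) n ≪≫ twIso _⟩

theorem subsingleton_sum {r : ℕ} (a : Fin r → ℤ) {F : (CohB1.ProjSpace d k).Modules}
    (e : F ≅ ∐ fun j => tw d k (a j)) (n : ℤ) (q : ℕ)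
    (h : ∀ j, Subsingleton (Coh.HH ℙ (TS d k (a j + n)) q)) :
    Subsingleton (Coh.HH ℙ (CohB1.tensorMod F (tw d k n)) q) := by
  obtain ⟨i⟩ := nonempty_sumTwIso (d := d) (k := k) a n
  have h1 := subsingleton_HH_sigma k (fun j => TS d k (a j + n)) q h
  have h2 := ProjKoszul.Chase.subsingleton_of_iso k i.symm h1
  exact ProjKoszul.Chase.subsingleton_of_iso k ((tensorBy (tw d k n)).mapIso e).symm h2

theorem mid_of_sum {r : ℕ} (a : Fin r → ℤ) {F : (CohB1.ProjSpace d k).Modules}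
    (e : F ≅ ∐ fun j => tw d k (a j)) (n : ℤ) (q : ℕ) (h1 : 1 ≤ q) (h2 : q < d) :
    Subsingleton (Coh.HH ℙ (CohB1.tensorMod F (tw d k n)) q) :=
  subsingleton_sum a e n q fun _ => Twist.subsingleton_HH_of_ne d k _ (by omega) h2.ne

theorem low_of_sum (hd : 1 ≤ d) {r : ℕ} (a : Fin r → ℤ) {F : (CohB1.ProjSpace d k).Modules}
    (e : F ≅ ∐ fun j => tw d k (a j)) :
    ∃ n₀ : ℤ, ∀ n : ℤ, n ≤ n₀ → Subsingleton (Coh.HH ℙ (CohB1.tensorMod F (tw d k n)) 0) := by
  haveI := hasExt_of_enoughInjectives.{u} (CohB1.ProjSpace d k).Modules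
  exact ⟨-(∑ j, |a j|) - 1, fun n hn => subsingleton_sum a e n 0 fun j =>
    SerreDual.subsingleton_HH_zero_neg (by omega) (by
      have h1 := Finset.single_le_sum (f := fun i => |a i|) (fun i _ => abs_nonneg _) (Finset.mem_univ j)
      have h2 := le_abs_self (a j)
      omega)⟩

/-! ### Ranks -/

theorem rank_eq {r r' : ℕ} {E : (CohB1.ProjSpace d k).Modules} (hE : FlatMod.IsFinLocFreeOfRank r E)
    (a : Fin r' → ℤ) (e : E ≅ ∐ fun j => tw d k (a j)) : r' = r := by
  obtain ⟨x⟩ : Nonempty ℙ := inferInstance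
  choose U hxU hU using fun j : Fin r' => (isInvertible_tw (n := d) (R := k) (a j)) x
  obtain ⟨V, hxV, ⟨i⟩⟩ := hE x
  let W : (CohB1.ProjSpace d k).Opens := V ⊓ Finset.univ.inf U
  have hxW : x ∈ W := ⟨hxV, Finset.inf_induction (p := fun V : (CohB1.ProjSpace d k).Opens => x ∈ V)
    trivial (fun _ h₁ _ h₂ => ⟨h₁, h₂⟩) fun j _ => hxU j⟩
  obtain ⟨i'⟩ := TensorMod.LocFree.exists_restrict_iso_freeMod (inf_le_left : W ≤ V) i
  have hj : ∀ j, Nonempty ((tw d k (a j)).restrict W.ι ≅ Coh.structureModule (↑W)) := fun j => by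
    obtain ⟨u⟩ := hU j
    obtain ⟨v⟩ := TensorMod.LocFree.exists_restrict_iso_freeMod (M := tw d k (a j)) (n := 1)
      (inf_le_right.trans (Finset.inf_le (Finset.mem_univ j)) : W ≤ U j)
      (u ≪≫ (TensorMod.LocFree.freeModOneIso _).symm)
    exact ⟨v ≪≫ TensorMod.LocFree.freeModOneIso _⟩
  have := (Scheme.Modules.restrictAdjunction W.ι).leftAdjoint_preservesColimits
  have := TensorMod.LocFree.preservesFinCoproducts (Scheme.Modules.restrictFunctor W.ι) (Fin r')
  exact TensorMod.TensorInv.freeMod_rank_eq (X := (W : Scheme.{u})) ⟨x, hxW⟩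
    ((Sigma.mapIso fun j => (hj j).some).symm ≪≫
      (PreservesCoproduct.iso (Scheme.Modules.restrictFunctor W.ι) fun j => tw d k (a j)).symm ≪≫
      (Scheme.Modules.restrictFunctor W.ι).mapIso e.symm ≪≫ i')

/-- On `ℙ^0` a locally free module is free. -/
theorem exists_iso_sum_zero {r : ℕ} {E : (CohB1.ProjSpace 0 k).Modules}
    (hE : FlatMod.IsFinLocFreeOfRank r E) : Nonempty (E ≅ ∐ fun _ : Fin r => tw 0 k 0) := by
  have := ProjSpace.Dim.isIso_toSpec_zero k
  have : Subsingleton (CohB1.ProjSpace 0 k) :=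
    (CohB1.ProjSpace.toSpec 0 k).homeomorph.subsingleton
  obtain ⟨x⟩ : Nonempty (CohB1.ProjSpace 0 k) := inferInstance
  obtain ⟨U, hxU, ⟨i⟩⟩ := hE x
  have hU : U = ⊤ := top_le_iff.1 fun y _ => Subsingleton.elim x y ▸ hxU
  subst hU
  obtain ⟨φ, hφ⟩ := TensorMod.LocIso.exists_map_isIso_restrict i
  have hiso : ∀ {A B : (CohB1.ProjSpace 0 k).Modules} (f : A ⟶ B),
      IsIso ((TensorMod.LocIso.rU (⊤ : (CohB1.ProjSpace 0 k).Opens)).map f) → IsIso f := fun f hf =>
    TensorMod.LocIso.isIso_of_locally f fun y => ⟨⊤, trivial, fun V hV =>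
      TensorMod.LocIso.isIso_app_of_isIso_restrict hf hV⟩
  have := hiso φ hφ
  have := hiso _ (TensorMod.LocIso.isIso_restrict_toStructure (U := (⊤ : (CohB1.ProjSpace 0 k).Opens)))
  exact ⟨(asIso φ).symm ≪≫ Sigma.mapIso fun _ =>
    asIso (TensorMod.LocIso.toStructure ⊤) ≪≫ twZero.symm⟩

end Groth.Agent.Lib.ProjCoh.Horrocks
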