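import Groth.Agent.Lib.ProjCoh.Top
import Groth.Agent.Lib.ProjCoh.Coherent
import Mathlib.RingTheory.MvPolynomial.Homogeneous

/-!
# `H⁰` and `Hⁿ` of `O(d)` on `P^n_R` as modules of homogeneous polynomials
-/

set_option autoImplicit false

noncomputable section

universe u

open CategoryTheory CategoryTheory.Limits AlgebraicGeometry TopologicalSpace Opposite

namespace Groth.Agent.Lib.ProjCoh.Homog

open Groth.Agent.Lib Groth.Agent.Lib.ProjCoh.Sections Groth.Agent.Lib.ProjCoh.Twist
open Groth.Agent.Lib.Cech.Complex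

variable {n : ℕ} {R : Type u} [CommRing R] {d : ℤ} {k : ℕ}

/-- Exponents of total degree `k`. -/
abbrev Expn (n k : ℕ) : Type := {s : Fin (n + 1) →₀ ℕ // s.degree = k}

instance : Finite (Expn n k) :=
  Finite.of_injective
    (fun s : Expn n k => fun j => (⟨s.1 j, Nat.lt_succ_of_le ((Finsupp.le_degree j s.1).trans s.2.le)⟩ :
      Fin (k + 1)))
    fun s t h => Subtype.ext (Finsupp.ext fun j => congrArg Fin.val (congrFun h j))

/-- Homogeneous polynomials as functions on exponents. -/
theorem nonempty_homog_equiv (n k : ℕ) (R : Type u) [CommRing R] :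
    Nonempty ((Expn n k → R) ≃ₗ[R] MvPolynomial.homogeneousSubmodule (Fin (n + 1)) R k) := by
  let f : MvPolynomial.homogeneousSubmodule (Fin (n + 1)) R k →ₗ[R] (Expn n k → R) :=
    LinearMap.pi fun s => (MvPolynomial.lcoeff R s.1).comp (Submodule.subtype _)
  refine ⟨(LinearEquiv.ofBijective f ⟨?_, ?_⟩).symm⟩
  · intro p q h
    refine Subtype.ext (MvPolynomial.ext _ _ fun s => ?_)
    by_cases hs : s.degree = k
    · exact congrFun h ⟨s, hs⟩
    · have hp := (MvPolynomial.mem_homogeneousSubmodule _ p.1).mp p.2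
      have hq := (MvPolynomial.mem_homogeneousSubmodule _ q.1).mp q.2
      rw [hp.coeff_eq_zero hs, hq.coeff_eq_zero hs]
  · intro g
    classical
    haveI := Fintype.ofFinite (Expn n k)
    refine ⟨⟨∑ s, MvPolynomial.monomial s.1 (g s), Submodule.sum_mem _ fun s _ =>
      (MvPolynomial.mem_homogeneousSubmodule _ _).mpr (MvPolynomial.isHomogeneous_monomial _ s.2)⟩,
      funext fun t => ?_⟩
    show MvPolynomial.coeff t.1 (∑ s, MvPolynomial.monomial s.1 (g s)) = g t
    rw [MvPolynomial.coeff_sum, Finset.sum_eq_single t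
      (fun b _ hb => by rw [MvPolynomial.coeff_monomial, if_neg fun h => hb (Subtype.ext h)])
      (fun h => absurd (Finset.mem_univ _) h), MvPolynomial.coeff_monomial, if_pos rfl]

/-! ### Degree zero -/

theorem ψ_injective_zero : Function.Injective (ψ (n := n) (R := R) (d := d) (q := 0)) := by
  have key : ∀ z : Z n R d 0, ψ z = 0 → z = 0 := by
    intro z hz
    have h : CechNat.cls (PS n R d) z.1 z.2 = 0 :=
      (ConcreteCategory.bijective_of_isIso ((cmp n R 0).e _ interAcyclic_TS).hom).1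
        (hz.trans (map_zero _).symm)
    obtain ⟨w, hw, hw'⟩ := CechNat.exists_rep (PS n R d) z.1 z.2
    haveI := (cx (cover n R) (PS n R d)).isIso_homologyπ 0 0 (by simp)
      ((cx (cover n R) (PS n R d)).shape 0 0 (by simp))
    have hw0 : w = 0 :=
      (ConcreteCategory.bijective_of_isIso ((cx (cover n R) (PS n R d)).homologyπ 0)).1
        ((hw'.symm.trans h).trans (map_zero _).symm)
    refine Subtype.ext (hw.symm.trans ?_)
    rw [hw0]
    simp
  intro a b h
  refine sub_eq_zero.mp (key _ ?_)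
  exact (map_sub (ψHom (n := n) (R := R) (d := d) (q := 0)) a b).trans (sub_eq_zero.mpr h)

theorem exists_castE_eq {e : Fin (n + 1) →₀ ℤ}
    (hA : ∀ i : Fin 1 → ULift.{u} (Fin (n + 1)), Adm (k : ℤ) i e) :
    ∃ s : Expn n k, castE s.1 = e := by
  have h0 : ∀ j, 0 ≤ e j := by
    intro j
    rcases Nat.eq_zero_or_pos n with rfl | hn
    · have h1 := (hA fun _ => ⟨0⟩).1
      rw [Finset.sum_eq_single j (fun b _ hb => absurd (Subsingleton.elim (α := Fin 1) b j) hb)
        (fun h => absurd (Finset.mem_univ _) h)] at h1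
      omega
    · refine not_lt.mp fun hj => ?_
      haveI : Nontrivial (Fin (n + 1)) := Fin.nontrivial_iff_two_le.mpr (by omega)
      obtain ⟨j', hj'⟩ := exists_ne j
      obtain ⟨a, ha⟩ := (hA fun _ => ⟨j'⟩).2 j hj
      exact hj' ha
  let s : Fin (n + 1) →₀ ℕ := Finsupp.equivFunOnFinite.symm fun j => (e j).toNat
  have hs : castE s = e := Finsupp.ext fun j => Int.toNat_of_nonneg (h0 j)
  refine ⟨⟨s, ?_⟩, hs⟩
  have := (sum_castE s).symm.trans ((congrArg (fun t => ∑ j, t j) hs).trans (hA fun _ => ⟨0⟩).1)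
  exact_mod_cast this

theorem adm_castE (s : Expn n k) (i : Fin 1 → ULift.{u} (Fin (n + 1))) :
    Adm (k : ℤ) i (castE s.1) :=
  ⟨(sum_castE s.1).trans (by rw [s.2]), fun j hj =>
    absurd hj (not_lt.mpr (Int.natCast_nonneg (s.1 j)))⟩

/-- `H⁰(P^n_R, A(k)~)` is the module of homogeneous polynomials of degree `k`. -/
theorem nonempty_HH_zero_equiv (n k : ℕ) (R : Type u) [CommRing R] :
    Nonempty (Coh.HH (CohB1.ProjSpace n R) (TS n R (k : ℤ)) 0 ≃ₗ[R]
      MvPolynomial.homogeneousSubmodule (Fin (n + 1)) R k) := by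
  classical
  obtain ⟨e₀⟩ := nonempty_homog_equiv n k R
  let i₀ : Fin 1 → ULift.{u} (Fin (n + 1)) := fun _ => ⟨0⟩
  let rep : Coh.HH (CohB1.ProjSpace n R) (TS n R (k : ℤ)) 0 → Z n R (k : ℤ) 0 :=
    fun x => (ψ_surjective x).choose
  have hrep : ∀ x, ψ (rep x) = x := fun x => (ψ_surjective x).choose_spec
  have hrepψ : ∀ z, rep (ψ z) = z := fun z => ψ_injective_zero (hrep _)
  let Φ : Coh.HH (CohB1.ProjSpace n R) (TS n R (k : ℤ)) 0 →ₗ[R] (Expn n k → R) :=
    { toFun := fun x s => cc (rep x).1 (castE s.1) i₀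
      map_add' := fun x y => by
        funext s
        rw [show rep (x + y) = rep x + rep y from ψ_injective_zero (by
          rw [ψ_add, hrep, hrep, hrep])]
        simp [cc]
      map_smul' := fun r x => by
        funext s
        rw [show rep (r • x) = ⟨smc r (rep x).1, dC_smc r _⟩ from ψ_injective_zero (by
          rw [← smul_ψ, hrep, hrep])]
        exact cc_smc r (rep x).1 _ i₀ }
  refine ⟨(LinearEquiv.ofBijective Φ ⟨?_, ?_⟩).trans e₀⟩
  · refine (injective_iff_map_eq_zero Φ).mpr fun x hx => ?_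
    rw [← hrep x]
    suffices h : rep x = 0 by rw [h]; exact map_zero (ψHom (n := n) (R := R) (d := (k : ℤ)))
    refine Subtype.ext (cc_ext fun e i => ?_)
    have hd : ∀ t, Monomial.D (cc (rep x).1 e) t = 0 := fun t => by
      rw [← congr_fun (cc_dC (rep x).1 e) t, show dC _ _ 0 (rep x).1 = 0 from (rep x).2]
      simp [cc]
    have hz : ∀ t, cc (rep x).1 e t = cc (rep x).1 e i := fun t =>
      Monomial.eq_of_D_eq_zero _ hd t i
    refine Eq.trans ?_ (by simp [cc] : (0 : R) = cc (0 : Z n R (k : ℤ) 0).1 e i)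
    by_contra hne
    obtain ⟨s, rfl⟩ := exists_castE_eq fun t => coefC_support t _ (show cc (rep x).1 e t ≠ 0 by
      rw [hz t]; exact hne)
    exact hne ((hz i₀).symm.trans (congrFun hx s))
  · intro g
    haveI := Fintype.ofFinite (Expn n k)
    let b : (Fin (n + 1) →₀ ℤ) → R := fun e => if h : ∃ s : Expn n k, castE s.1 = e then g h.choose else 0
    have hb : ∀ e, b e ≠ 0 → ∃ s : Expn n k, castE s.1 = e := fun e he => by
      by_contra hne
      exact he (dif_neg hne)
    obtain ⟨c, hc⟩ := exists_cochain (q := 0) (d := (k : ℤ)) (R := R)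
      (Finset.univ.image fun s : Expn n k => castE s.1) (fun e _ => b e)
      (fun e i h => by obtain ⟨s, rfl⟩ := hb e h; exact adm_castE s i)
      (fun e i h => by obtain ⟨s, rfl⟩ := hb e h; exact Finset.mem_image_of_mem _ (Finset.mem_univ s))
    have hcd : dC (cover n R) (PS n R (k : ℤ)) 0 c = 0 := cc_ext fun e i => by
      rw [cc_dC, show cc c e = fun _ => b e from funext (hc e)]
      simp [Monomial.D, Fin.sum_univ_two, cc]
    refine ⟨ψ ⟨c, hcd⟩, funext fun s => ?_⟩
    show cc (rep (ψ ⟨c, hcd⟩)).1 (castE s.1) i₀ = g s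
    rw [hrepψ, hc]
    have hex : ∃ t : Expn n k, castE t.1 = castE s.1 := ⟨s, rfl⟩
    refine (dif_pos hex).trans (congrArg g (Subtype.ext (castE_injective hex.choose_spec)))

/-- `H⁰(P^n_R, A(d)~) = 0` for `d < 0` and `n > 0`. -/
theorem subsingleton_HH_zero_of_neg (hn : 0 < n) (hd : d < 0) :
    Subsingleton (Coh.HH (CohB1.ProjSpace n R) (TS n R d) 0) := by
  refine subsingleton_of_forall_eq 0 fun x => ?_
  obtain ⟨z, rfl⟩ := ψ_surjective x
  suffices h : z = 0 by rw [h]; exact map_zero (ψHom (n := n) (R := R) (d := d))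
  refine Subtype.ext (cc_ext fun e i => ?_)
  have hD : ∀ t, Monomial.D (cc z.1 e) t = 0 := fun t => by
    rw [← congr_fun (cc_dC z.1 e) t, show dC _ _ 0 z.1 = 0 from z.2]
    simp [cc]
  refine Eq.trans ?_ (by simp [cc] : (0 : R) = cc (0 : Z n R d 0).1 e i)
  by_contra hne
  have hA : ∀ t, Adm d t e := fun t => coefC_support t _ (show cc z.1 e t ≠ 0 by
    rw [Monomial.eq_of_D_eq_zero _ hD t i]; exact hne)
  have h0 : ∀ j, 0 ≤ e j := fun j => by
    refine not_lt.mp fun hj => ?_
    haveI : Nontrivial (Fin (n + 1)) := Fin.nontrivial_iff_two_le.mpr (by omega)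
    obtain ⟨j', hj'⟩ := exists_ne j
    obtain ⟨a, ha⟩ := (hA fun _ => ⟨j'⟩).2 j hj
    exact hj' ha
  exact absurd ((Finset.sum_nonneg fun j _ => h0 j).trans_eq (hA i).1) (not_le.mpr hd)

/-! ### Top degree -/

/-- `Hⁿ(P^n_R, A(-n-1-k)~)` is isomorphic to the module of homogeneous polynomials of degree `k`. -/
theorem nonempty_HH_top_equiv (n k : ℕ) (R : Type u) [CommRing R] :
    Nonempty (Coh.HH (CohB1.ProjSpace n R) (TS n R (-((n : ℤ) + 1 + k))) n ≃ₗ[R]
      MvPolynomial.homogeneousSubmodule (Fin (n + 1)) R k) := by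
  classical
  obtain ⟨e₀⟩ := nonempty_homog_equiv n k R
  haveI := Fintype.ofFinite (Expn n k)
  let ex : Expn n k → (Fin (n + 1) →₀ ℤ) := fun s => Top.negOne n - castE s.1
  have hex : ∀ s, Top.Neg.{u} (-((n : ℤ) + 1 + k)) (ex s) := fun s => Top.neg_of
    (by simp only [ex, Finsupp.sub_apply, Finset.sum_sub_distrib, Top.sum_negOne, sum_castE, s.2]
        ring)
    fun _ j => by
      have := Int.natCast_nonneg (s.1 j)
      show -1 - (s.1 j : ℤ) < 0
      omega
  let Φ : Coh.HH (CohB1.ProjSpace n R) (TS n R (-((n : ℤ) + 1 + k))) n →ₗ[R] (Expn n k → R) :=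
    LinearMap.pi fun s => Top.res (ex s) (hex s)
  refine ⟨(LinearEquiv.ofBijective Φ ⟨?_, fun g => ?_⟩).trans e₀⟩
  · intro x y h
    refine Top.ext_res fun e he => ?_
    have hA : ∀ i : Fin 1 → ULift.{u} (Fin (n + 1)), Adm (k : ℤ) i (Top.negOne n - e) := fun i => by
      have h1 := he (i 0)
      rw [show (-((n : ℤ) + 1) - -((n : ℤ) + 1 + k)) = (k : ℤ) by ring] at h1
      rwa [show (fun _ : Fin 1 => i 0) = i from funext fun a => by rw [Subsingleton.elim a 0]] at h1
    obtain ⟨s, hs⟩ := exists_castE_eq hA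
    obtain rfl : ex s = e := by simp only [ex, hs, sub_sub_cancel]
    exact congrFun h s
  · refine ⟨∑ s, g s • Top.cl (ex s) (hex s), funext fun t => ?_⟩
    show Top.res (ex t) (hex t) (∑ s, g s • Top.cl (ex s) (hex s)) = g t
    simp only [map_sum, map_smul, Top.res_cl, smul_eq_mul, mul_ite, mul_one, mul_zero]
    rw [Finset.sum_eq_single t (fun b _ hb => if_neg fun h => hb (Subtype.ext
      (castE_injective (sub_right_injective h.symm)))) (fun h => absurd (Finset.mem_univ _) h),
      if_pos rfl]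

end Groth.Agent.Lib.ProjCoh.Homog
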