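import Groth.Agent.Lib.ProjCoh.Twist
import Groth.Agent.Lib.ProjTilde.Tensor

/-!
# Morphisms between twists are multiplications by global sections

* `Mul.globSec`: the global section of `A(d)~` with a given Laurent polynomial.
* `Mul.mul`: multiplication `A(a)~ ⟶ A(b)~`, with its effect on coefficients (`coef_mul`).
* `Mul.exists_eq_mul`: every morphism `A(a)~ ⟶ A(b)~` is a multiplication.
-/

universe u

open CategoryTheory AlgebraicGeometry TopologicalSpace Opposite MvPolynomial

noncomputable section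

namespace Groth.Agent.Lib.ProjCoh.Mul

open Groth.Agent.Lib Groth.Agent.Lib.ProjCoh.Sections Groth.Agent.Lib.Cech.Complex ProjTilde

variable {n : ℕ} {R : Type u} [CommRing R] {a b d : ℤ}

theorem rep_prod {W : (CohB1.ProjSpace n R).Opens} {σ : Sect n R a W} {τ : Sect n R d W}
    {w w' : Fin (n + 1) →₀ ℕ} {m m' : S n R} (h : Rep σ w m) (h' : Rep τ w' m') :
    Rep (Tensor.prod σ τ) (w' + w) (m' * m) := by
  have h1 : Frac.Deg (CohB1.polyGrading n R) (((w' + w).degree : ℤ) + (a + d)) (m' • m) :=
    (Tensor.deg_smul_deg h'.deg h.deg).congr (by simp only [map_add]; push_cast; ring)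
  refine ⟨h1, ?_, fun x hx => ?_⟩
  · rw [mono_add, Proj.basicOpen_mul]; exact le_inf h'.le h.le
  · refine (Tensor.val_prod σ τ x).trans ?_
    rw [h.val x (h.notMem x), h'.val x (h'.notMem x)]
    refine (LocalizedModule.mk_smul_mk _ _ _ _).trans ?_
    congr 1
    exact Subtype.ext (mono_add w' w).symm

theorem laur_mul_laur (w w' : Fin (n + 1) →₀ ℕ) (m m' : S n R) :
    laur (w' + w) (m' * m) = laur w m * laur w' m' := by
  simp only [laur, map_mul, map_add, neg_add, zmono_add]
  ring

theorem coef_prod {q : ℕ} (i : Fin (q + 1) → ULift.{u} (Fin (n + 1)))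
    (σ : Sect n R a (inter (cover n R) i)) (τ : Sect n R d (inter (cover n R) i)) :
    coef i (Tensor.prod σ τ) = coef i σ * coef i τ := by
  obtain ⟨k, m, h⟩ := exists_rep i σ
  obtain ⟨k', m', h'⟩ := exists_rep i τ
  rw [coef_eq i (rep_prod h h'), coef_eq i h, coef_eq i h', laur_mul_laur]

/-! ### Global sections -/

/-- Laurent polynomials giving global sections of `A(d)~`. -/
def Glob (d : ℤ) (g : Lau n R) : Prop :=
  ∀ e, g.coeff e ≠ 0 → ∀ j : ULift.{u} (Fin (n + 1)), Adm d (fun _ : Fin 1 => j) e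

/-- The tuple of one index. -/
abbrev one1 (j : ULift.{u} (Fin (n + 1))) : Fin 1 → ULift.{u} (Fin (n + 1)) := fun _ => j

theorem le_inter_one (j : ULift.{u} (Fin (n + 1))) : cover n R j ≤ inter (cover n R) (one1 j) :=
  le_iInf fun _ => le_rfl

theorem exists_mem_inter (x : ProjectiveSpectrum (CohB1.polyGrading n R)) :
    ∃ j : ULift.{u} (Fin (n + 1)), (x : CohB1.ProjSpace n R) ∈ inter (cover n R) (one1 j) := by
  obtain ⟨j, hj⟩ := Opens.mem_iSup.mp ((iSup_cover (n := n) (R := R)).ge (Set.mem_univ x))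
  exact ⟨j, le_inter_one j hj⟩

/-- The piece of the global section on the `j`-th chart. -/
def piece (g : Lau n R) (hg : Glob d g) (j : ULift.{u} (Fin (n + 1))) :
    Sect n R d (inter (cover n R) (one1 j)) :=
  (coef_surj (d := d) (one1 j) g fun e he => hg e he j).choose

theorem coef_piece (g : Lau n R) (hg : Glob d g) (j : ULift.{u} (Fin (n + 1))) :
    coef (one1 j) (piece g hg j) = g :=
  (coef_surj (d := d) (one1 j) g fun e he => hg e he j).choose_spec

theorem val_piece_eq (g : Lau n R) (hg : Glob d g) (j j' : ULift.{u} (Fin (n + 1)))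
    (x : ProjectiveSpectrum (CohB1.polyGrading n R)) (hx : (x : CohB1.ProjSpace n R) ∈ inter (cover n R) (one1 j))
    (hx' : (x : CohB1.ProjSpace n R) ∈ inter (cover n R) (one1 j')) :
    Frac.val (piece g hg j) ⟨x, hx⟩ = Frac.val (piece g hg j') ⟨x, hx'⟩ := by
  let p : Fin 2 → ULift.{u} (Fin (n + 1)) := ![j, j']
  have h : inter (cover n R) p ≤ inter (cover n R) (one1 j) :=
    inter_mono _ _ _ fun _ => ⟨0, rfl⟩
  have h' : inter (cover n R) p ≤ inter (cover n R) (one1 j') :=
    inter_mono _ _ _ fun _ => ⟨1, rfl⟩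
  have hxp : (x : CohB1.ProjSpace n R) ∈ inter (cover n R) p :=
    (le_iInf fun b => by
      fin_cases b
      · exact inf_le_left.trans (inter_le (cover n R) (one1 j) 0)
      · exact inf_le_right.trans (inter_le (cover n R) (one1 j') 0) :
      inter (cover n R) (one1 j) ⊓ inter (cover n R) (one1 j') ≤ inter (cover n R) p) ⟨hx, hx'⟩
  have e : (Cech.Complex.res (PS n R d) h (piece g hg j) : Sect n R d _) =
      Cech.Complex.res (PS n R d) h' (piece g hg j') :=
    coef_injective p (((coef_res p _ h _).trans (coef_piece g hg j)).trans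
      ((coef_res p _ h' _).trans (coef_piece g hg j')).symm)
  exact congrArg (fun σ => Frac.val σ (⟨x, hxp⟩ : inter (cover n R) p)) e

/-- The chart containing a point. -/
def chartOf (x : ProjectiveSpectrum (CohB1.polyGrading n R)) : ULift.{u} (Fin (n + 1)) :=
  (exists_mem_inter x).choose

theorem mem_chartOf (x : ProjectiveSpectrum (CohB1.polyGrading n R)) :
    (x : CohB1.ProjSpace n R) ∈ inter (cover n R) (one1 (chartOf x)) := (exists_mem_inter x).choose_spec

/-- The value of the global section at a point. -/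
def globVal (g : Lau n R) (hg : Glob d g) (x : ProjectiveSpectrum (CohB1.polyGrading n R)) :
    GrTilde.LocMod (CohB1.polyGrading n R) (M := S n R) x :=
  Frac.val (piece g hg (chartOf x)) ⟨x, mem_chartOf x⟩

/-- The global section with Laurent polynomial `g`. -/
def globSec (g : Lau n R) (hg : Glob d g) : Sect n R d ⊤ :=
  Basic.secOfRep (fun x => globVal g hg x.1) fun x => by
    obtain ⟨k, m, hm⟩ := exists_rep (one1 (chartOf x.1)) (piece g hg (chartOf x.1))
    let v := expo (one1 (chartOf x.1))
    have hv : mono R v ∉ x.1.asHomogeneousIdeal :=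
      (ProjectiveSpectrum.mem_basicOpen _ _ x.1).mp ((inter_eq (one1 (chartOf x.1))).le (mem_chartOf x.1))
    refine ⟨v.degree + (k • v).degree, mono R v * mono R (k • v), mono R v • m,
      SetLike.mul_mem_graded (mono_mem v) (mono_mem _),
      (Frac.Deg.smul (mono_mem v) hm.deg).congr (by push_cast; ring),
      fun h => (x.1.isPrime.mem_or_mem h).elim hv (hm.notMem ⟨x.1, mem_chartOf x.1⟩), fun y hy => ?_⟩
    have hyv : mono R v ∉ y.1.asHomogeneousIdeal := fun h => hy (Ideal.mul_mem_right _ _ h)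
    have hyk : mono R (k • v) ∉ y.1.asHomogeneousIdeal := fun h => hy (Ideal.mul_mem_left _ _ h)
    have hy' : (y.1 : CohB1.ProjSpace n R) ∈ inter (cover n R) (one1 (chartOf x.1)) :=
      (inter_eq (one1 (chartOf x.1))).ge ((ProjectiveSpectrum.mem_basicOpen _ _ y.1).mpr hyv)
    refine (val_piece_eq g hg (chartOf y.1) (chartOf x.1) y.1 (mem_chartOf y.1) hy').trans ?_
    exact (hm.val ⟨y.1, hy'⟩ hyk).trans (Frac.mk_smul_den hyk hy).symm

theorem coef_globSec (g : Lau n R) (hg : Glob d g) {q : ℕ} (i : Fin (q + 1) → ULift.{u} (Fin (n + 1))) :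
    coef i (Cech.Complex.res (PS n R d) le_top (globSec g hg)) = g := by
  have h : inter (cover n R) i ≤ inter (cover n R) (one1 (i 0)) := inter_mono _ _ _ fun _ => ⟨0, rfl⟩
  have e : (Cech.Complex.res (PS n R d) le_top (globSec g hg) : Sect n R d _) =
      Cech.Complex.res (PS n R d) h (piece g hg (i 0)) :=
    Frac.sect_ext fun x => val_piece_eq g hg _ _ x.1 (mem_chartOf x.1) (h x.2)
  rw [e]
  exact (coef_res i _ h _).trans (coef_piece g hg (i 0))

/-! ### Multiplication -/

/-- The product of sections, landing in a prescribed degree. -/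
def prodTo (h : a + d = b) {W : (CohB1.ProjSpace n R).Opens} (σ : Sect n R a W) (τ : Sect n R d W) :
    Sect n R b W :=
  Basic.secOfRep (fun x => (Frac.val τ x : Twist.Loc (CohB1.polyGrading n R) x.1) • Frac.val σ x) fun x => by
    obtain ⟨j, s, m, hs, hm, hsx, hv⟩ := Frac.exists_local_rep (Tensor.prod σ τ) x
    exact ⟨j, s, m, hs, hm.congr (by rw [h]), hsx, hv⟩

theorem coef_prodTo (h : a + d = b) {q : ℕ} (i : Fin (q + 1) → ULift.{u} (Fin (n + 1)))
    (σ : Sect n R a (inter (cover n R) i)) (τ : Sect n R d (inter (cover n R) i)) :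
    coef i (prodTo h σ τ) = coef i σ * coef i τ := by
  subst h
  exact coef_prod i σ τ

/-- Multiplication by a global section of degree `d`. -/
def mulSec (h : a + d = b) (τ : Sect n R d ⊤) : TS n R a ⟶ TS n R b :=
  ProjTilde.Hom.homMk (M := TS n R a) (N := TS n R b)
    (fun U => AddMonoidHom.mk' (fun σ => prodTo h (W := U) σ
        (GrTilde.res (CohB1.polyGrading n R) (CohB1.polyGrading n R) d (homOfLE le_top).op τ))
      fun σ σ' => Frac.sect_ext (U := U) fun x =>
        smul_add (A := GrTilde.LocMod (CohB1.polyGrading n R) (M := S n R) x.1) _ _ _)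
    (fun U r σ => Frac.sect_ext (U := U) fun x =>
      smul_comm (α := GrTilde.LocMod (CohB1.polyGrading n R) (M := S n R) x.1)
        (Frac.val (U := U) (GrTilde.res (CohB1.polyGrading n R) (CohB1.polyGrading n R) d
          (homOfLE le_top).op τ) x : Twist.Loc _ x.1) (r.1 x).val _)
    fun U V h σ => Frac.sect_ext (U := V) fun x => rfl

theorem coef_mulSec (h : a + d = b) (τ : Sect n R d ⊤) {q : ℕ} (i : Fin (q + 1) → ULift.{u} (Fin (n + 1)))
    (σ : Sect n R a (inter (cover n R) i)) :
    coef i ((mulSec h τ).app (inter (cover n R) i) σ : Sect n R b _) =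
      coef i σ * coef i (Cech.Complex.res (PS n R d) le_top τ) :=
  coef_prodTo h i σ _

/-- Multiplication by the global section with Laurent polynomial `g`. -/
def mul (a b : ℤ) (g : Lau n R) (hg : Glob (b - a) g) : TS n R a ⟶ TS n R b :=
  mulSec (add_sub_cancel a b) (globSec g hg)

theorem coef_mul (g : Lau n R) (hg : Glob (b - a) g) {q : ℕ} (i : Fin (q + 1) → ULift.{u} (Fin (n + 1)))
    (σ : Sect n R a (inter (cover n R) i)) :
    coef i ((mul a b g hg).app (inter (cover n R) i) σ : Sect n R b _) = coef i σ * g :=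
  (coef_mulSec _ _ i σ).trans (congrArg (coef i σ * ·) (coef_globSec g hg i))

/-! ### Every morphism is a multiplication -/

/-- The trivialising section `T_j^a` of `A(a)~` on the `j`-th chart. -/
def gen (a : ℤ) (j : ULift.{u} (Fin (n + 1))) : Sect n R a (inter (cover n R) (one1 j)) :=
  Frac.fracSec _ (mono_mem (Finsupp.single j.down (-a).toNat))
    (a := mono R (Finsupp.single j.down a.toNat))
    (Frac.Deg.of_mem (mono_mem _) (Or.inl (by rw [Finsupp.degree_single, Finsupp.degree_single]; omega)))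
    fun x hx h => by
      have hj : (X j.down : S n R) ∉ x.asHomogeneousIdeal := inter_le (cover n R) (one1 j) 0 hx
      refine hj (x.isPrime.mem_of_pow_mem (-a).toNat ?_)
      rwa [X_pow_eq_monomial]

theorem coef_gen (a : ℤ) (j : ULift.{u} (Fin (n + 1))) :
    coef (one1 j) (gen (R := R) a j) = zmono (Finsupp.single j.down a) := by
  refine (coef_eq (one1 j) (w := Finsupp.single j.down (-a).toNat) (m := mono R (Finsupp.single j.down a.toNat))
    ⟨Frac.Deg.of_mem (mono_mem _) (Or.inl (by rw [Finsupp.degree_single, Finsupp.degree_single]; omega)),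
      ?_, fun x hx => Frac.val_fracSec _ _ _ _ x⟩).trans ?_
  rotate_left
  · rw [laur, toL_mono, ← zmono_add]
    congr 1
    ext l
    by_cases h : j.down = l
    · subst h; simp; omega
    · simp [h]
  · intro x hx h
    have hj : (X j.down : S n R) ∉ x.asHomogeneousIdeal := inter_le (cover n R) (one1 j) 0 hx
    refine hj (x.isPrime.mem_of_pow_mem (-a).toNat ?_)
    rwa [X_pow_eq_monomial]

theorem exists_smul_gen (a : ℤ) (j : ULift.{u} (Fin (n + 1))) (V : (CohB1.ProjSpace n R).Opens)
    (hV : V ≤ inter (cover n R) (one1 j)) (σ : Sect n R a V) :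
    ∃ r : Γ(CohB1.ProjSpace n R, V),
      σ = r • ((TS n R a).presheaf.map (homOfLE hV).op (gen a j) : Γ(TS n R a, V)) := by
  let e : S n R := mono R (Finsupp.single j.down a.toNat)
  let c : S n R := mono R (Finsupp.single j.down (-a).toNat)
  have hj : ∀ x : V, (X j.down : S n R) ∉ x.1.asHomogeneousIdeal := fun x =>
    inter_le (cover n R) (one1 j) 0 (hV x.2)
  have hmono : ∀ (k : ℕ) (x : V), mono R (Finsupp.single j.down k) ∉ x.1.asHomogeneousIdeal := by
    intro k x h
    exact hj x (x.1.isPrime.mem_of_pow_mem k (by rwa [X_pow_eq_monomial]))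
  have hW : V ≤ Proj.basicOpen (CohB1.polyGrading n R) (c * e) := fun x hx =>
    fun h => (x.isPrime.mem_or_mem h).elim (hmono _ ⟨x, hx⟩) (hmono _ ⟨x, hx⟩)
  obtain ⟨r, hr⟩ := Basic.ofFun_surjective (Basic.mulSec (n := a) (n' := 0) (c := c) (e := e)
    (mono_mem _) (mono_mem _) (by rw [Finsupp.degree_single, Finsupp.degree_single]; omega) (W := V) hW σ)
  refine ⟨r, Frac.sect_ext (U := V) fun x => ?_⟩
  have hr' : (r.1 x).val = Basic.unitAt x.1 c e (hmono _ x) • Frac.val σ x :=
    congrArg (fun σ => Frac.val σ x) hr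
  change Frac.val σ x = (r.1 x).val • Basic.unitAt x.1 e c (hmono _ x)
  rw [hr']
  change (Frac.val σ x : Twist.Loc _ x.1) = Basic.unitAt x.1 c e _ * (Frac.val σ x : Twist.Loc _ x.1) *
    Basic.unitAt x.1 e c _
  rw [mul_assoc, mul_left_comm, Basic.unitAt_mul_unitAt x.1 (hmono _ x) (hmono _ x)]
  exact (mul_one (_ : Twist.Loc (CohB1.polyGrading n R) x.1)).symm

theorem rep_smul {W : (CohB1.ProjSpace n R).Opens} (r : Γ(CohB1.ProjSpace n R, W)) {σ : Γ(TS n R a, W)}
    {w w' : Fin (n + 1) →₀ ℕ} {m m' : S n R} (h : Rep (Basic.ofFun r) w m)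
    (h' : Rep (σ : Sect n R a W) w' m') :
    Rep (((r • σ) : Γ(TS n R a, W)) : Sect n R a W) (w + w') (m * m') := by
  have h1 : Frac.Deg (CohB1.polyGrading n R) (((w + w').degree : ℤ) + a) (m • m') :=
    (Tensor.deg_smul_deg h.deg h'.deg).congr (by simp only [map_add]; push_cast; ring)
  refine ⟨h1, ?_, fun x hx => ?_⟩
  · rw [mono_add, Proj.basicOpen_mul]; exact le_inf h.le h'.le
  · refine Eq.trans (b := (r.1 x).val • Frac.val σ x) rfl ?_
    refine (congrArg₂ (· • ·) (h.val x (h.notMem x)) (h'.val x (h'.notMem x))).trans ?_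
    refine (LocalizedModule.mk_smul_mk _ _ _ _).trans ?_
    congr 1
    exact Subtype.ext (mono_add w w').symm

theorem coef_smulFun {q : ℕ} (i : Fin (q + 1) → ULift.{u} (Fin (n + 1)))
    (r : Γ(CohB1.ProjSpace n R, inter (cover n R) i)) (σ : Γ(TS n R a, inter (cover n R) i)) :
    coef i (r • σ : Γ(TS n R a, inter (cover n R) i)) = coef i (Basic.ofFun r) * coef i σ := by
  obtain ⟨k, m, h⟩ := exists_rep i (Basic.ofFun r)
  obtain ⟨k', m', h'⟩ := exists_rep i σ
  rw [coef_eq i (rep_smul r h h'), coef_eq i h, coef_eq i h', laur_mul_laur]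
  ring

theorem hom_ext_gen {φ ψ : TS n R a ⟶ TS n R b}
    (h : ∀ j, φ.app (inter (cover n R) (one1 j)) (gen a j) = ψ.app (inter (cover n R) (one1 j)) (gen a j)) :
    φ = ψ := by
  ext U σ
  refine Frac.sect_ext (U := U) fun x => ?_
  obtain ⟨j, hj⟩ := exists_mem_inter x.1
  let V : (CohB1.ProjSpace n R).Opens := U ⊓ inter (cover n R) (one1 j)
  obtain ⟨r, hr⟩ := exists_smul_gen a j V inf_le_right
    ((TS n R a).presheaf.map (homOfLE (inf_le_left : V ≤ U)).op σ)
  have e : ∀ χ : TS n R a ⟶ TS n R b, (TS n R b).presheaf.map (homOfLE (inf_le_left : V ≤ U)).op (χ.app U σ) =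
      r • (TS n R b).presheaf.map (homOfLE (inf_le_right : V ≤ inter (cover n R) (one1 j))).op
        (χ.app (inter (cover n R) (one1 j)) (gen a j)) := fun χ => by
    have nat : ∀ {U V : (CohB1.ProjSpace n R).Opens} (i : op U ⟶ op V) (s : Γ(TS n R a, U)),
        χ.app V ((TS n R a).presheaf.map i s) = (TS n R b).presheaf.map i (χ.app U s) := fun i s =>
      ConcreteCategory.congr_hom (χ.mapPresheaf.naturality i) s
    refine (nat _ σ).symm.trans (Eq.trans ?_ (congrArg (fun t => r • t) (nat _ (gen a j))))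
    refine (congrArg (χ.app V) hr).trans ?_
    exact (χ.val.app (op V)).hom.map_smul r _
  have := (e φ).trans ((congrArg (fun t => r • (TS n R b).presheaf.map
    (homOfLE (inf_le_right : V ≤ inter (cover n R) (one1 j))).op t) (h j)).trans (e ψ).symm)
  exact congrArg (fun s : Sect n R b V => Frac.val s ⟨x.1, x.2, hj⟩) this

theorem zmono_cancel (e : Fin (n + 1) →₀ ℤ) (c : Lau n R) : zmono e * (c * zmono (-e)) = c := by
  rw [mul_left_comm, ← zmono_add, add_neg_cancel, zmono_zero, mul_one]

/-- The Laurent polynomial of a morphism, read on the `j`-th chart. -/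
def lauOf (φ : TS n R a ⟶ TS n R b) (j : ULift.{u} (Fin (n + 1))) : Lau n R :=
  coef (one1 j) (φ.app (inter (cover n R) (one1 j)) (gen a j) : Sect n R b _) *
    zmono (-Finsupp.single j.down a)

theorem lauOf_spec (φ : TS n R a ⟶ TS n R b) (j : ULift.{u} (Fin (n + 1))) :
    coef (one1 j) (φ.app (inter (cover n R) (one1 j)) (gen a j) : Sect n R b _) =
      zmono (Finsupp.single j.down a) * lauOf φ j :=
  (zmono_cancel (Finsupp.single j.down a) _).symm

theorem coef_map_res (φ : TS n R a ⟶ TS n R b) {q : ℕ} (i : Fin (q + 1) → ULift.{u} (Fin (n + 1)))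
    (j : ULift.{u} (Fin (n + 1))) (h : inter (cover n R) i ≤ inter (cover n R) (one1 j)) :
    coef i (φ.app (inter (cover n R) i)
      ((TS n R a).presheaf.map (homOfLE h).op (gen a j)) : Sect n R b _) =
        zmono (Finsupp.single j.down a) * lauOf φ j := by
  have nat : φ.app (inter (cover n R) i) ((TS n R a).presheaf.map (homOfLE h).op (gen a j)) =
      (TS n R b).presheaf.map (homOfLE h).op (φ.app (inter (cover n R) (one1 j)) (gen a j)) :=
    ConcreteCategory.congr_hom (φ.mapPresheaf.naturality (homOfLE h).op) (gen a j)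
  rw [nat]
  exact (coef_res i (one1 j) h _).trans (lauOf_spec φ j)

theorem lauOf_eq (φ : TS n R a ⟶ TS n R b) (j j' : ULift.{u} (Fin (n + 1))) : lauOf φ j = lauOf φ j' := by
  let p : Fin 2 → ULift.{u} (Fin (n + 1)) := ![j, j']
  have h : inter (cover n R) p ≤ inter (cover n R) (one1 j) :=
    inter_mono _ _ _ fun _ => ⟨0, rfl⟩
  have h' : inter (cover n R) p ≤ inter (cover n R) (one1 j') :=
    inter_mono _ _ _ fun _ => ⟨1, rfl⟩
  obtain ⟨r, hr⟩ := exists_smul_gen a j' (inter (cover n R) p) h'
    ((TS n R a).presheaf.map (homOfLE h).op (gen a j))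
  have h0 : coef p (Basic.ofFun r) * zmono (Finsupp.single j'.down a) = zmono (Finsupp.single j.down a) := by
    have e := congrArg (coef p) hr
    rw [coef_smulFun] at e
    refine Eq.trans ?_ (e.symm.trans ((coef_res p (one1 j) h _).trans (coef_gen a j)))
    exact congrArg (coef p (Basic.ofFun r) * ·) ((coef_res p (one1 j') h' _).trans (coef_gen a j')).symm
  have e1 : coef p (φ.app (inter (cover n R) p)
      ((TS n R a).presheaf.map (homOfLE h).op (gen a j)) : Sect n R b _) =
      coef p (Basic.ofFun r) * (zmono (Finsupp.single j'.down a) * lauOf φ j') := by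
    refine (congrArg (fun s => coef p (φ.app (inter (cover n R) p) s : Sect n R b _)) hr).trans ?_
    refine (congrArg (coef p) ((φ.val.app (op (inter (cover n R) p))).hom.map_smul r _)).trans ?_
    refine (coef_smulFun p r _).trans ?_
    exact congrArg (coef p (Basic.ofFun r) * ·) (coef_map_res φ p j' h')
  rw [coef_map_res φ p j h, ← mul_assoc, h0] at e1
  have := congrArg (fun x => zmono (-Finsupp.single j.down a) * x) e1
  simpa only [← mul_assoc, ← zmono_add, neg_add_cancel, zmono_zero, one_mul] using this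

theorem glob_lauOf (φ : TS n R a ⟶ TS n R b) (j₀ : ULift.{u} (Fin (n + 1))) : Glob (b - a) (lauOf φ j₀) := by
  intro e he j
  rw [lauOf_eq φ j₀ j] at he
  have he' : (coef (one1 j) (φ.app (inter (cover n R) (one1 j)) (gen a j) : Sect n R b _)).coeff
      (Finsupp.single j.down a + e) ≠ 0 := by
    rw [lauOf_spec]
    simpa [zmono, AddMonoidAlgebra.coeff_single_mul_apply] using he
  obtain ⟨h1, h2⟩ := coef_support (one1 j) _ he'
  refine ⟨?_, fun l hl => ?_⟩
  · simp only [Finsupp.add_apply, Finset.sum_add_distrib, Finsupp.single_apply, Finset.sum_ite_eq,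
      Finset.mem_univ, if_true] at h1
    omega
  · by_cases hlj : j.down = l
    · exact ⟨0, hlj⟩
    · exact h2 l (by simpa [Finsupp.single_apply, hlj] using hl)

/-- Every morphism between twists is a multiplication. -/
theorem exists_eq_mul (φ : TS n R a ⟶ TS n R b) :
    ∃ (g : Lau n R) (hg : Glob (b - a) g), φ = mul a b g hg := by
  refine ⟨lauOf φ ⟨0⟩, glob_lauOf φ ⟨0⟩, hom_ext_gen fun j => coef_injective (one1 j) ?_⟩
  rw [coef_mul, lauOf_spec, coef_gen, lauOf_eq φ ⟨0⟩ j]

end Groth.Agent.Lib.ProjCoh.Mul
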