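import Groth.Agent.Lib.ProjCoh.Top
import Groth.Agent.Lib.ProjCoh.Coherent

/-!
# Duality in the top degree on `P^n_R`

* `Duality.existsUnique_hom`: for coherent `F` on `P^n_R` (`R` Noetherian) and a linear form `ℓ` on
  `H^n(F)` there is exactly one `φ : F ⟶ A(-n-1)~` with `ℓ = tr ∘ H^n(φ)`.
* `Duality.existsUnique_hom_tw`: the same for `Twist.twistProjSpace n R (-n-1)`.
-/

universe u

open CategoryTheory CategoryTheory.Limits AlgebraicGeometry

noncomputable section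

namespace Groth.Agent.Lib.ProjCoh.Duality

open Groth.Agent.Lib Groth.Agent.Lib.ProjCoh.Sections Groth.Agent.Lib.ProjCoh.Coherent

variable {n : ℕ} {R : Type u} [CommRing R]

/-- The dualizing sheaf. -/
abbrev ω (n : ℕ) (R : Type u) [CommRing R] : (CohB1.ProjSpace n R).Modules := TS n R (-((n : ℤ) + 1))

/-- Perfectness of the pairing at `E`. -/
def Perf (E : (CohB1.ProjSpace n R).Modules) : Prop :=
  ∀ ℓ : Coh.HH (CohB1.ProjSpace n R) E n →ₗ[R] R, ∃! φ : E ⟶ ω n R,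
    ∀ x, ℓ x = Top.tr n R (Curves.LES.mapK R φ n x)

theorem mapK_comp_apply {M N P : (CohB1.ProjSpace n R).Modules} (φ : M ⟶ N) (χ : N ⟶ P) (q : ℕ)
    (x : Coh.HH (CohB1.ProjSpace n R) M q) :
    Curves.LES.mapK R (φ ≫ χ) q x = Curves.LES.mapK R χ q (Curves.LES.mapK R φ q x) := by
  rw [Curves.LES.mapK_comp]; rfl

theorem mapK_zero_apply {X : Scheme.{u}} (A : Type u) [CommRing A] [X.Over (Spec (CommRingCat.of A))]
    {M N : X.Modules} (q : ℕ) (x : Coh.HH X M q) : Curves.LES.mapK A (0 : M ⟶ N) q x = 0 := by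
  change Sheaf.H.map ((Curves.LES.F X).map (0 : M ⟶ N)) q x = 0
  rw [Functor.map_zero]
  change ((Sheaf.functorH _ q).map (0 : _ ⟶ _)).hom x = 0
  rw [Functor.map_zero]
  rfl

theorem eq_zero_of_comp {X : Scheme.{u}} (A : Type u) [CommRing A] [X.Over (Spec (CommRingCat.of A))]
    {S : ShortComplex X.Modules} (hS : S.ShortExact) {P W : X.Modules} (q : ℕ) (p' : P ⟶ S.X₁)
    (φ : S.X₂ ⟶ W) (ℓ : Coh.HH X S.X₃ q →ₗ[A] A) (t : Coh.HH X W q →ₗ[A] A)
    (hφ : ∀ x, ℓ (Curves.LES.mapK A S.g q x) = t (Curves.LES.mapK A φ q x))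
    (huniq : ∀ χ : P ⟶ W, (∀ x, (0 : Coh.HH X P q →ₗ[A] A) x = t (Curves.LES.mapK A χ q x)) →
      χ = 0) :
    p' ≫ S.f ≫ φ = 0 := by
  refine huniq _ fun x => ?_
  have e : Curves.LES.mapK A (p' ≫ S.f ≫ φ) q x =
      Curves.LES.mapK A φ q (Curves.LES.mapK A S.f q (Curves.LES.mapK A p' q x)) := by
    rw [Curves.LES.mapK_comp, Curves.LES.mapK_comp]; rfl
  rw [e, ← hφ, (Curves.LES.exactK₂ A hS q).apply_apply_eq_zero, map_zero]
  rfl

theorem perf_sumTS (k : ℕ) (a : ℤ) : Perf (sumTS n R k a) := by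
  intro ℓ
  choose φ hφ huniq using fun i : Fin k => Top.existsUnique_hom a
    (ℓ.comp (Curves.LES.mapK R (Sigma.ι (fun _ : Fin k => TS n R a) i) n))
  refine ⟨Sigma.desc φ, fun x => ?_, fun χ hχ => Sigma.hom_ext _ _ fun i => ?_⟩
  · obtain ⟨y, rfl⟩ := sigma_decomp R (TS n R a) k n x
    simp only [map_sum]
    refine Finset.sum_congr rfl fun i _ => ?_
    rw [← mapK_comp_apply, Sigma.ι_desc]
    exact hφ i (y i)
  · rw [Sigma.ι_desc]
    refine huniq i _ fun y => ?_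
    rw [mapK_comp_apply]
    exact hχ _

theorem existsUnique_hom [IsNoetherianRing R] (F : (CohB1.ProjSpace n R).Modules) (hF : Coh.IsCoh F) :
    Perf F := by
  intro ℓ
  obtain ⟨k, m, S, hS, h1, h2, rfl⟩ := exists_shortExact F hF
  have hsum : Perf S.X₂ := h2 ▸ perf_sumTS k _
  obtain ⟨k', m', p', hp'⟩ := exists_epi S.X₁ h1
  have hmk := hS.epi_g
  have hmono := hS.mono_f
  -- surjectivity of the top cohomology of `g`
  have hsurj : Function.Surjective (Curves.LES.mapK R S.g n) := fun z => by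
    have : Coh.IsQCoh S.X₁ := h1.1
    have := Twist.subsingleton_HH_of_lt S.X₁ (i := n + 1) n.lt_succ_self
    exact (Curves.LES.exactK₃ R hS n (n + 1) rfl z).1 (Subsingleton.elim _ _)
  obtain ⟨φ₀, hφ₀, huniq⟩ := hsum (ℓ.comp (Curves.LES.mapK R S.g n))
  have hzero : p' ≫ S.f ≫ φ₀ = 0 :=
    eq_zero_of_comp R hS n p' φ₀ ℓ (Top.tr n R) hφ₀ fun χ hχ =>
      (perf_sumTS k' (-(m' : ℤ)) 0).unique hχ fun x => by
        rw [mapK_zero_apply, map_zero, LinearMap.zero_apply]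
  have hzero' : S.f ≫ φ₀ = 0 := (cancel_epi p').1 (hzero.trans comp_zero.symm)
  obtain ⟨φ, hφ⟩ : ∃ φ, S.g ≫ φ = φ₀ := ⟨hS.exact.desc φ₀ hzero', hS.exact.g_desc _ _⟩
  refine ⟨φ, fun z => ?_, fun φ' hφ' => ?_⟩
  · obtain ⟨x, rfl⟩ := hsurj z
    rw [← mapK_comp_apply, hφ]
    exact hφ₀ x
  · rw [← cancel_epi S.g, hφ]
    exact huniq _ fun x => by rw [mapK_comp_apply]; exact hφ' _

/-- Duality for the twisting sheaf `O(-n-1)` itself. -/
theorem existsUnique_hom_tw [IsNoetherianRing R] (F : (CohB1.ProjSpace n R).Modules) (hF : Coh.IsCoh F)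
    (ℓ : Coh.HH (CohB1.ProjSpace n R) F n →ₗ[R] R) :
    ∃! φ : F ⟶ tw n R (-((n : ℤ) + 1)), ∀ x, ℓ x =
      Top.tr n R (Curves.LES.mapK R (twIso (-((n : ℤ) + 1))).hom n (Curves.LES.mapK R φ n x)) := by
  obtain ⟨φ, hφ, huniq⟩ := existsUnique_hom F hF ℓ
  refine ⟨φ ≫ (twIso _).inv, fun x => ?_, fun χ hχ => ?_⟩
  · rw [← mapK_comp_apply, Category.assoc, Iso.inv_hom_id, Category.comp_id]
    exact hφ x
  · rw [← huniq (χ ≫ (twIso _).hom) fun x => by rw [mapK_comp_apply]; exact hχ x,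
      Category.assoc, Iso.hom_inv_id, Category.comp_id]

/-- The trace on the twisting sheaf. -/
def trTw (n : ℕ) (R : Type u) [CommRing R] :
    Coh.HH (CohB1.ProjSpace n R) (tw n R (-((n : ℤ) + 1))) n →ₗ[R] R :=
  (Top.tr n R).comp (Curves.LES.mapK R (twIso (-((n : ℤ) + 1))).hom n)

end Groth.Agent.Lib.ProjCoh.Duality
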