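import Groth.Agent.Lib.ProjCoh.Mul

/-!
# Top cohomology of `A(d)~` on `P^n_R`

`H^n(P^n_R, A(d)~)` is free on the exponents `e` such that `-1 - e` is the exponent of a global
section of `A(-n-1-d)~` (for `n > 0`: all entries negative, of sum `d`).

* `Top.res e : H^n → R`, the coordinates; `Top.cl e`, the basis; `Top.sum_res_smul_cl`.
* `Top.tr`: the trace `H^n(A(-n-1)~) → R`; `Top.existsUnique_hom`: the pairing is perfect.
-/

universe u

open CategoryTheory AlgebraicGeometry TopologicalSpace Opposite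

noncomputable section

namespace Groth.Agent.Lib.ProjCoh.Top

open Groth.Agent.Lib Groth.Agent.Lib.ProjCoh.Sections Groth.Agent.Lib.ProjCoh.Twist
open Groth.Agent.Lib.ProjCoh.Mul Groth.Agent.Lib.Cech.Complex

variable {n : ℕ} {R : Type u} [CommRing R] {d a b : ℤ}

/-- The exponent `(-1, …, -1)`. -/
def negOne (n : ℕ) : Fin (n + 1) →₀ ℤ := Finsupp.equivFunOnFinite.symm fun _ => -1

@[simp] theorem negOne_apply (j : Fin (n + 1)) : negOne n j = -1 := rfl

theorem sum_negOne : ∑ j, negOne n j = -((n : ℤ) + 1) := by simp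

/-- The exponents of top cohomology. -/
def Neg (d : ℤ) (e : Fin (n + 1) →₀ ℤ) : Prop :=
  ∀ j : ULift.{u} (Fin (n + 1)), Adm (-((n : ℤ) + 1) - d) (fun _ : Fin 1 => j) (negOne n - e)

theorem Neg.sum {e : Fin (n + 1) →₀ ℤ} (h : Neg.{u} d e) : ∑ j, e j = d := by
  have h1 := (h ⟨0⟩).1
  simp only [Finsupp.sub_apply, negOne_apply, Finset.sum_sub_distrib, Finset.sum_const, Finset.card_univ,
    Fintype.card_fin, nsmul_eq_mul] at h1
  push_cast at h1
  linarith

theorem exists_ne_of_pos (hn : 0 < n) (j : Fin (n + 1)) : ∃ j', j' ≠ j := by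
  have : Nontrivial (Fin (n + 1)) := Fin.nontrivial_iff_two_le.mpr (by omega)
  exact exists_ne j

theorem Neg.neg {e : Fin (n + 1) →₀ ℤ} (h : Neg.{u} d e) (hn : 0 < n) (j : Fin (n + 1)) : e j < 0 := by
  by_contra hj
  obtain ⟨j', hj'⟩ := exists_ne_of_pos hn j
  obtain ⟨_, ha⟩ := (h ⟨j'⟩).2 j (by simp; omega)
  exact hj' ha

theorem neg_of {e : Fin (n + 1) →₀ ℤ} (hs : ∑ j, e j = d) (h : 0 < n → ∀ j, e j < 0) : Neg.{u} d e := by
  intro j
  refine ⟨?_, fun l hl => ?_⟩
  · simp only [Finsupp.sub_apply, negOne_apply, Finset.sum_sub_distrib, hs]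
    simp
  · rcases Nat.eq_zero_or_pos n with rfl | hn
    · exact ⟨0, Subsingleton.elim (α := Fin 1) _ _⟩
    · have := h hn l
      simp at hl
      omega

theorem Neg.negSet_eq {e : Fin (n + 1) →₀ ℤ} (h : Neg.{u} d e) (hn : 0 < n) : negSet.{u} e = Finset.univ :=
  Finset.filter_true_of_mem fun j _ => h.neg hn j.down

/-- The standard ordering of the vertices. -/
def σ₀ (n : ℕ) : Fin (n + 1) ≃ ULift.{u} (Fin (n + 1)) := Equiv.ulift.symm

theorem surjective_of_injective (i : Fin (n + 1) → ULift.{u} (Fin (n + 1))) (hi : Function.Injective i) :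
    Function.Surjective i :=
  ((Fintype.bijective_iff_injective_and_card i).mpr ⟨hi, by simp⟩).2

theorem eq_σ₀_of_zero (hn : n = 0) (i : Fin (n + 1) → ULift.{u} (Fin (n + 1))) : i = σ₀ n := by
  subst hn; funext a; exact ULift.ext _ _ (Subsingleton.elim (α := Fin 1) _ _)

/-- A cocycle whose class vanishes has vanishing top coefficients. -/
theorem cc_eq_zero_of_ψ_eq_zero (z : Z n R d n) (hz : ψ z = 0) {e : Fin (n + 1) →₀ ℤ}
    (he : Neg.{u} d e) : cc z.1 e (σ₀ n) = 0 := by
  have h0 : CechNat.cls (PS n R d) z.1 z.2 = 0 :=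
    (ConcreteCategory.bijective_of_isIso ((cmp n R n).e _ interAcyclic_TS).hom).1
      (hz.trans (map_zero _).symm)
  rcases n with _ | m
  · have : z.1 = 0 := by
      obtain ⟨w, hw, hw'⟩ := CechNat.exists_rep (PS 0 R d) z.1 z.2
      have hw0 : w = 0 := (ConcreteCategory.bijective_of_isIso
        ((cx (cover 0 R) (PS 0 R d)).homologyπ 0)).1 (hw'.symm.trans (h0.trans (map_zero _).symm))
      rw [← hw, hw0, map_zero, map_zero]
    rw [this, cc, Pi.zero_apply, map_zero]; rfl
  · obtain ⟨β, hβ⟩ := CechNat.exists_of_cls_eq_zero (PS (m + 1) R d) z.1 z.2 h0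
    rw [← hβ, cc_dC]
    refine Finset.sum_eq_zero fun j _ => ?_
    rw [cc_eq_zero β e _ fun ha => ?_, smul_zero]
    have h1 := Monomial.card_le_of_range_eq _ Finset.univ
      ((he.negSet_eq (Nat.succ_pos m)) ▸ ((adm_iff _ e).mp ha).2)
    simp at h1

/-- A cocycle with vanishing top coefficients has vanishing class. -/
theorem ψ_eq_zero_of_cc (z : Z n R d n) (h : ∀ e, Neg.{u} d e → cc z.1 e (σ₀ n) = 0) : ψ z = 0 := by
  rcases n with _ | m
  · have : z = 0 := Subtype.ext (cc_ext fun e i => by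
      rw [eq_σ₀_of_zero rfl i]
      refine Eq.trans ?_ (by simp [cc] : (0 : R) = cc (0 : Z 0 R d 0).1 e (σ₀ 0))
      by_contra hne
      refine hne (h e (neg_of (coefC_support _ _ hne).1 fun hn => absurd hn (lt_irrefl 0))))
    rw [this]; exact map_zero (ψHom (n := 0) (R := R) (d := d))
  · obtain ⟨β, hβ⟩ := exists_dC_eq z.1 z.2 fun e he _ i => by
      refine Monomial.eq_zero_of_one_value (by simp) (cc z.1 e) (fun t ht => ?_) (fun t => ?_)
        (σ₀ (m + 1)) (σ₀ (m + 1)).injective ?_ i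
      · refine cc_eq_zero _ _ _ fun ha => ht ?_
        refine Finite.injective_iff_surjective_of_equiv (σ₀ (m + 1)) |>.mpr fun j => ?_
        exact ((adm_iff t e).mp ha).2 (he.symm ▸ Finset.mem_univ j)
      · rw [← congr_fun (cc_dC z.1 e) t, show dC _ _ _ z.1 = 0 from z.2]
        simp [cc]
      · by_contra hne
        refine hne (h e (neg_of (coefC_support _ _ hne).1 fun _ j => ?_))
        exact (Finset.mem_filter.mp (he.symm ▸ Finset.mem_univ (⟨j⟩ : ULift.{u} (Fin (m + 2))) :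
          (⟨j⟩ : ULift.{u} (Fin (m + 2))) ∈ negSet.{u} e)).2
    exact (congrArg ψ (Subtype.ext hβ.symm)).trans (ψ_boundary β)

theorem cc_smc' (r : R) (z : Z n R d n) (e : Fin (n + 1) →₀ ℤ) :
    cc (⟨smc r z.1, dC_smc r z⟩ : Z n R d n).1 e (σ₀ n) = r * cc z.1 e (σ₀ n) := cc_smc r z.1 e _

/-- A representing cocycle of a class. -/
def repz (x : Coh.HH (CohB1.ProjSpace n R) (TS n R d) n) : Z n R d n := (ψ_surjective x).choose

theorem ψ_repz (x : Coh.HH (CohB1.ProjSpace n R) (TS n R d) n) : ψ (repz x) = x :=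
  (ψ_surjective x).choose_spec

theorem cc_congr {z z' : Z n R d n} (h : ψ z = ψ z') {e : Fin (n + 1) →₀ ℤ} (he : Neg.{u} d e) :
    cc z.1 e (σ₀ n) = cc z'.1 e (σ₀ n) := by
  have h' : ψ (z - z') = 0 := (map_sub (ψHom (n := n) (R := R) (d := d) (q := n)) z z').trans (sub_eq_zero.mpr h)
  have := cc_eq_zero_of_ψ_eq_zero (z - z') h' he
  simpa [cc, sub_eq_zero] using this

/-- The coordinate at `e`. -/
def res (e : Fin (n + 1) →₀ ℤ) (he : Neg.{u} d e) : Coh.HH (CohB1.ProjSpace n R) (TS n R d) n →ₗ[R] R where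
  toFun x := cc (repz x).1 e (σ₀ n)
  map_add' x y := by
    rw [cc_congr (z' := repz x + repz y) (by rw [ψ_add, ψ_repz, ψ_repz, ψ_repz]) he]
    simp [cc]
  map_smul' r x := by
    rw [cc_congr (z' := ⟨smc r (repz x).1, dC_smc r _⟩) (by rw [← smul_ψ, ψ_repz, ψ_repz]) he, cc_smc']
    rfl

theorem res_ψ (e : Fin (n + 1) →₀ ℤ) (he : Neg.{u} d e) (z : Z n R d n) :
    res e he (ψ z) = cc z.1 e (σ₀ n) := cc_congr (ψ_repz _) he

theorem ext_res {x y : Coh.HH (CohB1.ProjSpace n R) (TS n R d) n}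
    (h : ∀ e (he : Neg.{u} d e), res e he x = res e he y) : x = y := by
  rw [← sub_eq_zero, ← ψ_repz (x - y)]
  refine ψ_eq_zero_of_cc _ fun e he => ?_
  change res e he (x - y) = 0
  rw [map_sub, h e he, sub_self]

theorem exists_cl (e : Fin (n + 1) →₀ ℤ) (he : Neg.{u} d e) :
    ∃ x : Coh.HH (CohB1.ProjSpace n R) (TS n R d) n,
      ∀ e' (he' : Neg.{u} d e'), res e' he' x = if e' = e then 1 else 0 := by
  classical
  obtain ⟨c, hc⟩ := exists_cochain (q := n) (d := d) (R := R) {e}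
    (fun e' i => if e' = e then (Monomial.orient (σ₀ n) i : R) else 0)
    (fun e' i h => by
      obtain rfl : e' = e := by by_contra hne; exact h (if_neg hne)
      refine (adm_iff i e').mpr ⟨he.sum, fun j _ => surjective_of_injective i ?_ j⟩
      by_contra hi
      simp [Monomial.orient_eq_zero (σ₀ n) i hi] at h)
    (fun e' i h => by
      obtain rfl : e' = e := by by_contra hne; exact h (if_neg hne)
      simp)
  have hcd : dC (cover n R) (PS n R d) n c = 0 := cc_ext fun e' t => by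
    rw [cc_dC, show cc c e' = _ from funext (hc e')]
    have h := congrArg (fun x : ℤ => (x : R)) (Monomial.D_orient (σ₀ n) t)
    simp only [Monomial.D, smul_eq_mul, Int.cast_sum, Int.cast_mul, Int.cast_pow, Int.cast_neg,
      Int.cast_one, Int.cast_zero] at h
    split_ifs with he
    · simpa [Monomial.D, cc, zsmul_eq_mul] using h
    · simp [Monomial.D, cc]
  refine ⟨ψ ⟨c, hcd⟩, fun e' he' => ?_⟩
  rw [res_ψ, hc, Monomial.orient_self, Int.cast_one]

/-- The basis of top cohomology. -/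
def cl (e : Fin (n + 1) →₀ ℤ) (he : Neg.{u} d e) : Coh.HH (CohB1.ProjSpace n R) (TS n R d) n :=
  (exists_cl e he).choose

theorem res_cl (e e' : Fin (n + 1) →₀ ℤ) (he : Neg.{u} d e) (he' : Neg.{u} d e') :
    res e' he' (cl (R := R) e he) = if e' = e then 1 else 0 := (exists_cl e he).choose_spec e' he'

open scoped Classical in
/-- The finite set of exponents of top cohomology. -/
def negFinset (n : ℕ) (d : ℤ) : Finset (Fin (n + 1) →₀ ℤ) := (box n d).filter fun e => Neg.{u} d e

theorem mem_negFinset {e : Fin (n + 1) →₀ ℤ} : e ∈ negFinset.{u} n d ↔ Neg.{u} d e := by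
  classical
  refine ⟨fun h => (Finset.mem_filter.mp h).2, fun h => Finset.mem_filter.mpr ⟨mem_box h.sum ?_, h⟩⟩
  rcases Nat.eq_zero_or_pos n with rfl | hn
  · rcases le_total 0 (e 0) with h0 | h0
    · exact Or.inl fun j => by rwa [Subsingleton.elim (α := Fin 1) j 0]
    · exact Or.inr fun j => by rwa [Subsingleton.elim (α := Fin 1) j 0]
  · exact Or.inr fun j => (h.neg hn j).le

theorem sum_res_smul_cl (x : Coh.HH (CohB1.ProjSpace n R) (TS n R d) n) :
    ∑ e : negFinset.{u} n d, res e.1 (mem_negFinset.mp e.2) x • cl e.1 (mem_negFinset.mp e.2) = x := by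
  classical
  refine ext_res fun e he => ?_
  simp only [map_sum, map_smul, res_cl, smul_eq_mul, mul_ite, mul_one, mul_zero]
  rw [Finset.sum_eq_single ⟨e, mem_negFinset.mpr he⟩
    (fun b _ hb => if_neg fun h => hb (Subtype.ext h.symm)) (fun h => absurd (Finset.mem_univ _) h), if_pos rfl]

/-! ### The pairing -/

theorem neg_negOne : Neg.{u} (-((n : ℤ) + 1)) (negOne n) := neg_of sum_negOne fun _ j => by simp

/-- The trace `H^n(A(-n-1)~) → R`. -/
def tr (n : ℕ) (R : Type u) [CommRing R] :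
    Coh.HH (CohB1.ProjSpace n R) (TS n R (-((n : ℤ) + 1))) n →ₗ[R] R := res (negOne n) neg_negOne

theorem mapK_ψ (φ : TS n R a ⟶ TS n R b) (z : Z n R a n)
    (hc : dC (cover n R) (PS n R b) n (Cech.Complex.map (Curves.LES.toAbMap φ).hom n z.1) = 0) :
    Curves.LES.mapK R φ n (ψ z) = ψ ⟨Cech.Complex.map (Curves.LES.toAbMap φ).hom n z.1, hc⟩ := by
  refine (ConcreteCategory.congr_hom ((cmp n R n).nat _ _ (Curves.LES.toAbMap φ) interAcyclic_TS
    interAcyclic_TS) (CechNat.cls (PS n R a) z.1 z.2)).trans ?_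
  exact congrArg _ (CechNat.cls_map (PS n R a) _ z.1 z.2)

theorem coeff_mul_eq (x g : Lau n R) (e : Fin (n + 1) →₀ ℤ) :
    (x * g).coeff e = ∑ f ∈ g.coeff.support, g.coeff f * x.coeff (e - f) := by
  conv_lhs => rw [← AddMonoidAlgebra.sum_coeff_single g]
  simp only [Finsupp.sum, Finset.mul_sum, AddMonoidAlgebra.coeff_sum, Finsupp.finsetSum_apply,
    AddMonoidAlgebra.coeff_mul_single_apply, ← sub_eq_add_neg]
  exact Finset.sum_congr rfl fun f _ => mul_comm _ _

theorem neg_of_glob {g : Lau n R} (hg : Glob (-((n : ℤ) + 1) - a) g) {f : Fin (n + 1) →₀ ℤ}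
    (hf : g.coeff f ≠ 0) : Neg.{u} a (negOne n - f) := fun j => by
  rw [sub_sub_cancel]; exact hg f hf j

theorem tr_mul (g : Lau n R) (hg : Glob (-((n : ℤ) + 1) - a) g)
    (x : Coh.HH (CohB1.ProjSpace n R) (TS n R a) n) :
    tr n R (Curves.LES.mapK R (mul a _ g hg) n x) =
      ∑ f : g.coeff.support, g.coeff f.1 *
        res (negOne n - f.1) (neg_of_glob hg (Finsupp.mem_support_iff.mp f.2)) x := by
  obtain ⟨z, rfl⟩ := ψ_surjective x
  have hc : dC (cover n R) (PS n R _) n
      (Cech.Complex.map (Curves.LES.toAbMap (mul a _ g hg)).hom n z.1) = 0 := by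
    rw [← map_dC, show dC _ _ n z.1 = 0 from z.2, map_zero]
  rw [mapK_ψ _ z hc]
  refine (res_ψ _ _ _).trans ?_
  have key : coefC (σ₀ n) (Cech.Complex.map (Curves.LES.toAbMap (mul a _ g hg)).hom n z.1 (σ₀ n)) =
      coefC (σ₀ n) (z.1 (σ₀ n)) * g := coef_mul g hg (σ₀ n) (z.1 (σ₀ n))
  rw [cc, key, coeff_mul_eq, ← Finset.sum_coe_sort]
  exact Finset.sum_congr rfl fun f _ => by rw [res_ψ]; rfl

/-- The pairing on `A(a)~` is perfect. -/
theorem existsUnique_hom (a : ℤ) (ℓ : Coh.HH (CohB1.ProjSpace n R) (TS n R a) n →ₗ[R] R) :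
    ∃! φ : TS n R a ⟶ TS n R (-((n : ℤ) + 1)),
      ∀ x, ℓ x = tr n R (Curves.LES.mapK R φ n x) := by
  classical
  let g : Lau n R := ∑ e : negFinset.{u} n a,
    AddMonoidAlgebra.single (negOne n - e.1) (ℓ (cl e.1 (mem_negFinset.mp e.2)))
  have hcoeff : ∀ e (he : Neg.{u} a e), g.coeff (negOne n - e) = ℓ (cl e he) := fun e he => by
    simp only [g, AddMonoidAlgebra.coeff_sum, Finsupp.finsetSum_apply, AddMonoidAlgebra.coeff_single]
    rw [Finset.sum_eq_single ⟨e, mem_negFinset.mpr he⟩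
      (fun b _ hb => Finsupp.single_eq_of_ne fun h => hb (Subtype.ext (sub_right_injective h).symm))
      (fun h => absurd (Finset.mem_univ _) h), Finsupp.single_eq_same]
  have hg : Glob (-((n : ℤ) + 1) - a) g := fun f hf j => by
    obtain ⟨e, -, he⟩ : ∃ e ∈ (Finset.univ : Finset (negFinset.{u} n a)),
        (AddMonoidAlgebra.single (negOne n - e.1) (ℓ (cl e.1 (mem_negFinset.mp e.2)))).coeff f ≠ 0 := by
      refine Finset.exists_ne_zero_of_sum_ne_zero ?_
      simpa only [g, AddMonoidAlgebra.coeff_sum, Finsupp.finsetSum_apply] using hf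
    rw [AddMonoidAlgebra.coeff_single, Finsupp.single_apply] at he
    split_ifs at he with h
    · exact h ▸ mem_negFinset.mp e.2 j
    · exact absurd rfl he
  refine ⟨mul a _ g hg, fun x => ?_, fun φ hφ => ?_⟩
  · conv_lhs => rw [← sum_res_smul_cl x]
    rw [tr_mul, map_sum]
    refine (Finset.sum_bij_ne_zero (fun f _ _ => (⟨negOne n - f.1,
      mem_negFinset.mpr (neg_of_glob hg (Finsupp.mem_support_iff.mp f.2))⟩ : negFinset.{u} n a))
      (fun _ _ _ => Finset.mem_univ _)
      (fun f _ _ f' _ _ h => Subtype.ext (sub_right_injective (congrArg Subtype.val h)))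
      (fun e _ hne => ?_) (fun f _ _ => ?_)).symm
    · have h0 : g.coeff (negOne n - e.1) ≠ 0 := fun h0 => hne (by
        rw [map_smul, smul_eq_mul, ← hcoeff e.1 (mem_negFinset.mp e.2), h0, mul_zero])
      refine ⟨⟨negOne n - e.1, Finsupp.mem_support_iff.mpr h0⟩, Finset.mem_univ _, ?_, Subtype.ext (sub_sub_cancel _ _)⟩
      intro h
      refine hne ?_
      rw [map_smul, smul_eq_mul, ← hcoeff e.1 (mem_negFinset.mp e.2), mul_comm, ← h]
      simp only [sub_sub_cancel]
    · rw [map_smul, smul_eq_mul, mul_comm, ← hcoeff]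
      simp only [sub_sub_cancel]
  · obtain ⟨g', hg', rfl⟩ := exists_eq_mul φ
    have hkey : ∀ (g₁ : Lau n R) (h₁ : Glob (-((n : ℤ) + 1) - a) g₁) (e) (he : Neg.{u} a e),
        tr n R (Curves.LES.mapK R (mul a _ g₁ h₁) n (cl e he)) = g₁.coeff (negOne n - e) := by
      intro g₁ h₁ e he
      rw [tr_mul]
      simp only [res_cl, mul_ite, mul_one, mul_zero]
      by_cases hm : negOne n - e ∈ g₁.coeff.support
      · rw [Finset.sum_eq_single ⟨_, hm⟩
          (fun f _ hf => if_neg fun h => hf (Subtype.ext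
            ((sub_sub_cancel (negOne n) f.1).symm.trans (congrArg (negOne n - ·) h))))
          (fun h => absurd (Finset.mem_univ _) h), if_pos (sub_sub_cancel _ _)]
      · rw [Finsupp.notMem_support_iff.mp hm]
        exact Finset.sum_eq_zero fun f _ => if_neg fun h => hm (by rw [← h, sub_sub_cancel]; exact f.2)
    have hgg : g' = g := AddMonoidAlgebra.ext (Finsupp.ext fun f => by
      by_cases hf : Neg.{u} a (negOne n - f)
      · have := hcoeff _ hf
        rw [sub_sub_cancel] at this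
        rw [this, hφ, hkey g' hg', sub_sub_cancel]
      · have h1 : g'.coeff f = 0 := by by_contra h; exact hf (neg_of_glob hg' h)
        have h2 : g.coeff f = 0 := by by_contra h; exact hf (neg_of_glob hg h)
        rw [h1, h2])
    subst hgg
    rfl

end Groth.Agent.Lib.ProjCoh.Top
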