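import Groth.Agent.Lib.ProjTilde.Basic
import Groth.Agent.Lib.ProjSpace.Basic
import Groth.Agent.Lib.Cech.Complex
import Mathlib.Algebra.MonoidAlgebra.Basic

/-!
# Sections of `O(d)` on the intersections of the standard opens of `P^n_R`

The sections over `D₊(T_{i_0} ⋯ T_{i_q})` are the Laurent polynomials of degree `d` whose negative
exponents occur only at the indices `i_a`.  The identification is `Sections.coef`.
-/

universe u

open CategoryTheory AlgebraicGeometry TopologicalSpace Opposite MvPolynomial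

noncomputable section

namespace Groth.Agent.Lib.ProjCoh.Sections

open Groth.Agent.Lib.ProjTilde

/-! ### Laurent polynomials -/

/-- Polynomials in `n + 1` variables. -/
abbrev S (n : ℕ) (R : Type u) [CommRing R] : Type u := MvPolynomial (Fin (n + 1)) R

/-- Laurent polynomials in `n + 1` variables. -/
abbrev Lau (n : ℕ) (R : Type u) [CommRing R] : Type u := AddMonoidAlgebra R (Fin (n + 1) →₀ ℤ)

variable {n : ℕ} {R : Type u} [CommRing R]

/-- Exponents as integer exponents. -/
def castE : (Fin (n + 1) →₀ ℕ) →+ (Fin (n + 1) →₀ ℤ) :=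
  Finsupp.mapRange.addMonoidHom (Nat.castAddMonoidHom ℤ)

@[simp] theorem castE_apply (s : Fin (n + 1) →₀ ℕ) (j : Fin (n + 1)) : castE s j = (s j : ℤ) := rfl

theorem castE_injective : Function.Injective (castE (n := n)) := fun s t h => by
  ext j; exact Int.ofNat.inj (DFunLike.congr_fun h j)

/-- Polynomials as Laurent polynomials. -/
def toL : S n R →ₐ[R] Lau n R := AddMonoidAlgebra.mapDomainAlgHom R R castE

theorem coeff_toL (p : S n R) (s : Fin (n + 1) →₀ ℕ) :
    (toL p).coeff (castE s) = coeff s p :=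
  Finsupp.mapDomain_apply castE_injective _ s

theorem exists_of_coeff_toL_ne_zero (p : S n R) (e : Fin (n + 1) →₀ ℤ) (h : (toL p).coeff e ≠ 0) :
    ∃ s, castE s = e ∧ coeff s p ≠ 0 := by
  by_cases he : e ∈ Set.range (castE (n := n))
  · obtain ⟨s, rfl⟩ := he
    exact ⟨s, rfl, by rwa [coeff_toL] at h⟩
  · exact absurd (Finsupp.mapDomain_of_notMem_range _ _ he) h

theorem toL_injective : Function.Injective (toL (n := n) (R := R)) :=
  AddMonoidAlgebra.mapDomain_injective castE_injective

theorem toL_monomial (s : Fin (n + 1) →₀ ℕ) (r : R) :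
    toL (monomial s r) = AddMonoidAlgebra.single (castE s) r :=
  AddMonoidAlgebra.mapDomain_single

/-- The Laurent monomial of exponent `e`. -/
def zmono (e : Fin (n + 1) →₀ ℤ) : Lau n R := AddMonoidAlgebra.single e 1

theorem zmono_add (a b : Fin (n + 1) →₀ ℤ) : (zmono (a + b) : Lau n R) = zmono a * zmono b := by
  simp [zmono, AddMonoidAlgebra.single_mul_single]

theorem zmono_zero : (zmono (n := n) (R := R) 0) = 1 := rfl

/-- The monomial of exponent `w`. -/
def mono (R : Type u) [CommRing R] (w : Fin (n + 1) →₀ ℕ) : S n R := monomial w 1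

theorem toL_mono (w : Fin (n + 1) →₀ ℕ) : toL (mono R w) = zmono (castE w) := toL_monomial w 1

theorem mono_add (a b : Fin (n + 1) →₀ ℕ) : mono R (a + b) = mono R a * mono R b := by
  simp [mono, monomial_mul]

theorem mono_nsmul (k : ℕ) (v : Fin (n + 1) →₀ ℕ) : mono R (k • v) = mono R v ^ k := by
  simp [mono, monomial_pow]

theorem mono_mem (w : Fin (n + 1) →₀ ℕ) : mono R w ∈ CohB1.polyGrading n R w.degree :=
  (mem_homogeneousSubmodule _ _).mpr (isHomogeneous_monomial 1 rfl)

theorem mono_mul_injective (w : Fin (n + 1) →₀ ℕ) : Function.Injective fun p : S n R => mono R w * p := by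
  intro p p' h
  apply toL_injective
  have h' := congrArg (fun x => zmono (-castE w) * toL x) h
  simp only [map_mul, toL_mono, ← mul_assoc, ← zmono_add, neg_add_cancel, zmono_zero, one_mul] at h'
  exact h'

/-- The Laurent polynomial `m / T^w`. -/
def laur (w : Fin (n + 1) →₀ ℕ) (m : S n R) : Lau n R := toL m * zmono (-castE w)

theorem laur_mono_mul (w u : Fin (n + 1) →₀ ℕ) (m : S n R) :
    laur (u + w) (mono R u * m) = laur w m := by
  rw [laur, laur, map_mul, toL_mono, map_add, neg_add_rev, zmono_add]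
  rw [show zmono (castE u) * toL m * (zmono (-castE w) * zmono (-castE u)) =
    toL m * zmono (-castE w) * (zmono (R := R) (castE u) * zmono (-castE u)) by ring]
  rw [← zmono_add, add_neg_cancel, zmono_zero, mul_one]

theorem coeff_laur (w : Fin (n + 1) →₀ ℕ) (m : S n R) (e : Fin (n + 1) →₀ ℤ) :
    (laur w m).coeff e = (toL m).coeff (e + castE w) := by
  simp [laur, zmono, AddMonoidAlgebra.coeff_mul_single_apply]

/-! ### The covering -/

variable (n R) in
/-- The standard opens `D₊(T_j)`. -/
def cover (j : ULift.{u} (Fin (n + 1))) : (CohB1.ProjSpace n R).Opens :=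
  Proj.basicOpen (CohB1.polyGrading n R) (X j.down)

theorem iSup_cover : iSup (cover n R) = ⊤ := by
  exact (Equiv.ulift.{u, 0}.iSup_comp
    (g := fun j : Fin (n + 1) => Proj.basicOpen (CohB1.polyGrading n R) (X j))).trans
    (Groth.Agent.Lib.ProjSpace.Basic.iSup_basicOpen_X_eq_top n R)

/-- The exponent of `T_{i_0} ⋯ T_{i_q}`. -/
def expo {q : ℕ} (i : Fin (q + 1) → ULift.{u} (Fin (n + 1))) : Fin (n + 1) →₀ ℕ :=
  ∑ a, Finsupp.single (i a).down 1

theorem degree_expo {q : ℕ} (i : Fin (q + 1) → ULift.{u} (Fin (n + 1))) : (expo i).degree = q + 1 := by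
  simp [expo, map_sum]

theorem degree_expo_pos {q : ℕ} (i : Fin (q + 1) → ULift.{u} (Fin (n + 1))) :
    0 < (expo i).degree := (degree_expo i).symm ▸ q.succ_pos

theorem expo_ne_zero {q : ℕ} {i : Fin (q + 1) → ULift.{u} (Fin (n + 1))} {j : Fin (n + 1)}
    (h : expo i j ≠ 0) : ∃ a, (i a).down = j := by
  by_contra hne
  push Not at hne
  apply h
  simp only [expo, Finsupp.finsetSum_apply]
  exact Finset.sum_eq_zero fun a _ => Finsupp.single_eq_of_ne' (hne a)

theorem one_le_expo {q : ℕ} (i : Fin (q + 1) → ULift.{u} (Fin (n + 1))) (a : Fin (q + 1)) :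
    1 ≤ expo i (i a).down := by
  simp only [expo, Finsupp.finsetSum_apply]
  refine le_trans ?_ (Finset.single_le_sum (fun b _ => Nat.zero_le _) (Finset.mem_univ a))
  simp

theorem inter_eq {q : ℕ} (i : Fin (q + 1) → ULift.{u} (Fin (n + 1))) :
    Cech.Complex.inter (cover n R) i = Proj.basicOpen (CohB1.polyGrading n R) (mono R (expo i)) := by
  rw [mono, expo, monomial_sum_one]
  refine le_antisymm (fun x hx => ?_) (le_iInf fun a x hx => ?_)
  · intro h
    obtain ⟨a, -, ha⟩ := (x.isPrime.prod_mem_iff).mp h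
    exact Cech.Complex.inter_le (cover n R) i a hx ha
  · intro ha
    exact hx ((x.isPrime.prod_mem_iff).mpr ⟨a, Finset.mem_univ _, ha⟩)

/-! ### Representatives -/

variable {d : ℤ}

/-- The sheaf `A(d)~` on `P^n_R`. -/
abbrev TS (n : ℕ) (R : Type u) [CommRing R] (d : ℤ) : (CohB1.ProjSpace n R).Modules :=
  GrTilde.tilde (CohB1.polyGrading n R) (CohB1.polyGrading n R) d

/-- The presheaf of abelian groups of `A(d)~`. -/
abbrev PS (n : ℕ) (R : Type u) [CommRing R] (d : ℤ) :
    (Opens (CohB1.ProjSpace n R).toPresheafedSpace.carrier)ᵒᵖ ⥤ AddCommGrpCat.{u} :=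
  (Coh.toAb (TS n R d)).obj

/-- Sections of `A(d)~`. -/
abbrev Sect (n : ℕ) (R : Type u) [CommRing R] (d : ℤ) (W : (CohB1.ProjSpace n R).Opens) : Type u :=
  GrTilde.sect (CohB1.polyGrading n R) (CohB1.polyGrading n R) d (op W)

/-- `σ = m / T^w`. -/
structure Rep {W : (CohB1.ProjSpace n R).Opens} (σ : Sect n R d W) (w : Fin (n + 1) →₀ ℕ)
    (m : S n R) : Prop where
  deg : Frac.Deg (CohB1.polyGrading n R) (w.degree + d) m
  le : W ≤ Proj.basicOpen (CohB1.polyGrading n R) (mono R w)
  val : ∀ (x : W) (hx : mono R w ∉ x.1.asHomogeneousIdeal),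
    Frac.val σ x = LocalizedModule.mk m ⟨mono R w, hx⟩

theorem Rep.notMem {W : (CohB1.ProjSpace n R).Opens} {σ : Sect n R d W} {w : Fin (n + 1) →₀ ℕ}
    {m : S n R} (h : Rep σ w m) (x : W) : mono R w ∉ x.1.asHomogeneousIdeal :=
  (ProjectiveSpectrum.mem_basicOpen _ _ x.1).mp (h.le x.2)

theorem Rep.res {W V : (CohB1.ProjSpace n R).Opens} {σ : Sect n R d W} {w : Fin (n + 1) →₀ ℕ}
    {m : S n R} (h : Rep σ w m) (hV : V ≤ W) :
    Rep (GrTilde.res (CohB1.polyGrading n R) (CohB1.polyGrading n R) d (homOfLE hV).op σ) w m :=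
  ⟨h.deg, hV.trans h.le, fun x hx => h.val ⟨x.1, hV x.2⟩ hx⟩

theorem Rep.add {W : (CohB1.ProjSpace n R).Opens} {σ τ : Sect n R d W} {w w' : Fin (n + 1) →₀ ℕ}
    {m m' : S n R} (h : Rep σ w m) (h' : Rep τ w' m') :
    Rep (σ + τ) (w + w') (mono R w' * m + mono R w * m') := by
  have h1 : Frac.Deg (CohB1.polyGrading n R) (((w + w').degree : ℤ) + d) (mono R w' • m) :=
    (Frac.Deg.smul (mono_mem w') h.deg).congr (by simp only [map_add]; push_cast; ring)
  have h2 : Frac.Deg (CohB1.polyGrading n R) (((w + w').degree : ℤ) + d) (mono R w • m') :=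
    (Frac.Deg.smul (mono_mem w) h'.deg).congr (by simp only [map_add]; push_cast; ring)
  refine ⟨h1.add h2, ?_, fun x hx => ?_⟩
  · rw [mono_add, Proj.basicOpen_mul]; exact le_inf h.le h'.le
  · refine (Basic.val_add σ τ x).trans ?_
    rw [h.val x (h.notMem x), h'.val x (h'.notMem x), LocalizedModule.mk_add_mk]
    congr 1
    exact Subtype.ext (mono_add w w').symm

/-- Representatives on `D₊(T^v)` determine the Laurent polynomial. -/
theorem Rep.laur_eq {W : (CohB1.ProjSpace n R).Opens} {v : Fin (n + 1) →₀ ℕ} (hv : 0 < v.degree)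
    (hW : W = Proj.basicOpen (CohB1.polyGrading n R) (mono R v)) {σ : Sect n R d W}
    {w w' : Fin (n + 1) →₀ ℕ} {m m' : S n R} (h : Rep σ w m) (h' : Rep σ w' m') :
    laur w m = laur w' m' := by
  subst hW
  obtain ⟨N, hN⟩ := Frac.exists_pow_smul_eq_zero hv (mono_mem v)
    (m := mono R w' • m - mono R w • m') fun x =>
      (Frac.mk_eq_mk_iff (mono_mem w) (mono_mem w') (h.notMem x) (h'.notMem x) h.deg h'.deg).mp
        ((h.val x (h.notMem x)).symm.trans (h'.val x (h'.notMem x)))
  have h0 : mono R w' * m = mono R w * m' := by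
    rw [← sub_eq_zero]
    refine mono_mul_injective (R := R) (N • v) ?_
    simpa [mono_nsmul, mul_sub] using hN
  calc laur w m = laur (w' + w) (mono R w' * m) := (laur_mono_mul w w' m).symm
    _ = laur (w + w') (mono R w * m') := by rw [h0, add_comm]
    _ = laur w' m' := laur_mono_mul w' w m'

variable {q : ℕ}

theorem exists_rep (i : Fin (q + 1) → ULift.{u} (Fin (n + 1)))
    (σ : Sect n R d (Cech.Complex.inter (cover n R) i)) :
    ∃ (k : ℕ) (m : S n R), Rep σ (k • expo i) m := by
  have key : ∀ (W : (CohB1.ProjSpace n R).Opens)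
      (_ : W = Proj.basicOpen (CohB1.polyGrading n R) (mono R (expo i))) (σ : Sect n R d W),
      ∃ (k : ℕ) (m : S n R), Rep σ (k • expo i) m := by
    rintro W rfl σ
    obtain ⟨k, l, m, hm, hl, hval⟩ := Frac.exists_frac_basicOpen (degree_expo_pos i) (mono_mem (expo i)) σ
    refine ⟨k, m, Frac.Deg.of_mem hm (Or.inl ?_), ?_, fun x hx => ?_⟩
    · rw [map_nsmul, hl]; push_cast [smul_eq_mul]; ring
    · intro x hx h
      exact hx (x.isPrime.mem_of_pow_mem k ((mono_nsmul (R := R) k (expo i)) ▸ h))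
    · have hx' : mono R (expo i) ^ k ∉ x.1.asHomogeneousIdeal := by rwa [← mono_nsmul]
      rw [hval x hx']
      congr 1
      exact Subtype.ext (mono_nsmul k _).symm
  exact key _ (inter_eq i) σ

/-- The Laurent polynomial of a section over an intersection of standard opens. -/
def coefFun (i : Fin (q + 1) → ULift.{u} (Fin (n + 1)))
    (σ : Sect n R d (Cech.Complex.inter (cover n R) i)) : Lau n R :=
  laur ((exists_rep i σ).choose • expo i) (exists_rep i σ).choose_spec.choose

theorem coefFun_eq (i : Fin (q + 1) → ULift.{u} (Fin (n + 1)))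
    {σ : Sect n R d (Cech.Complex.inter (cover n R) i)} {w : Fin (n + 1) →₀ ℕ} {m : S n R}
    (h : Rep σ w m) : coefFun i σ = laur w m :=
  (exists_rep i σ).choose_spec.choose_spec.laur_eq (degree_expo_pos i) (inter_eq i) h

/-- The Laurent polynomial of a section, as an additive map. -/
def coef (i : Fin (q + 1) → ULift.{u} (Fin (n + 1))) :
    Sect n R d (Cech.Complex.inter (cover n R) i) →+ Lau n R :=
  AddMonoidHom.mk' (coefFun i) fun σ τ => by
    obtain ⟨k, m, h⟩ := exists_rep i σ
    obtain ⟨k', m', h'⟩ := exists_rep i τ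
    rw [coefFun_eq i (h.add h'), coefFun_eq i h, coefFun_eq i h']
    conv_rhs => rw [← laur_mono_mul (k • expo i) (k' • expo i) m,
      ← laur_mono_mul (k' • expo i) (k • expo i) m', add_comm (k' • expo i) (k • expo i)]
    rw [laur, laur, laur, map_add, add_mul]

theorem coef_eq (i : Fin (q + 1) → ULift.{u} (Fin (n + 1)))
    {σ : Sect n R d (Cech.Complex.inter (cover n R) i)} {w : Fin (n + 1) →₀ ℕ} {m : S n R}
    (h : Rep σ w m) : coef i σ = laur w m := coefFun_eq i h

theorem coef_res {p : ℕ} (i : Fin (q + 1) → ULift.{u} (Fin (n + 1)))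
    (i' : Fin (p + 1) → ULift.{u} (Fin (n + 1)))
    (h : Cech.Complex.inter (cover n R) i ≤ Cech.Complex.inter (cover n R) i')
    (σ : Sect n R d (Cech.Complex.inter (cover n R) i')) :
    coef i (Cech.Complex.res (PS n R d) h σ) = coef i' σ := by
  obtain ⟨k, m, hσ⟩ := exists_rep i' σ
  exact (coef_eq i (hσ.res h)).trans (coef_eq i' hσ).symm

theorem coef_injective (i : Fin (q + 1) → ULift.{u} (Fin (n + 1))) :
    Function.Injective (coef (R := R) (d := d) i) := by
  refine (injective_iff_map_eq_zero _).mpr fun σ h => ?_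
  obtain ⟨k, m, hσ⟩ := exists_rep i σ
  rw [coef_eq i hσ, laur] at h
  have h' := congrArg (fun x => x * zmono (castE (k • expo i))) h
  simp only [mul_assoc, ← zmono_add, neg_add_cancel, zmono_zero, mul_one, zero_mul] at h'
  have hm : m = 0 := toL_injective (h'.trans (map_zero _).symm)
  subst hm
  exact Frac.sect_ext fun x => (hσ.val x (hσ.notMem x)).trans (LocalizedModule.zero_mk _)

/-- The exponents occurring in sections of `O(d)` over the intersection indexed by `i`. -/
def Adm (d : ℤ) (i : Fin (q + 1) → ULift.{u} (Fin (n + 1))) (e : Fin (n + 1) →₀ ℤ) : Prop :=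
  (∑ j, e j) = d ∧ ∀ j, e j < 0 → ∃ a, (i a).down = j

theorem sum_castE (s : Fin (n + 1) →₀ ℕ) : ∑ j, castE s j = (s.degree : ℤ) := by
  rw [Finsupp.degree_eq_sum]; push_cast; rfl

theorem coef_support (i : Fin (q + 1) → ULift.{u} (Fin (n + 1)))
    (σ : Sect n R d (Cech.Complex.inter (cover n R) i)) {e : Fin (n + 1) →₀ ℤ}
    (he : (coef i σ).coeff e ≠ 0) : Adm d i e := by
  obtain ⟨k, m, hσ⟩ := exists_rep i σ
  rw [coef_eq i hσ, coeff_laur] at he
  obtain ⟨s, hs, hsm⟩ := exists_of_coeff_toL_ne_zero m _ he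
  obtain rfl : e = castE s - castE (k • expo i) := by rw [hs]; abel
  constructor
  · simp only [Finsupp.sub_apply, Finset.sum_sub_distrib, sum_castE]
    rcases hσ.deg with ⟨l, hl, hm⟩ | rfl
    · have e' : s.degree = l :=
        (MvPolynomial.IsHomogeneous.degree_eq_sum_deg_support hm (mem_support_iff.mpr hsm)).symm
      omega
    · simp at hsm
  · intro j hj
    refine expo_ne_zero (fun h0 => ?_)
    simp [h0] at hj
    omega

theorem coef_surj (i : Fin (q + 1) → ULift.{u} (Fin (n + 1))) (l : Lau n R)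
    (hl : ∀ e, l.coeff e ≠ 0 → Adm d i e) :
    ∃ σ : Sect n R d (Cech.Complex.inter (cover n R) i), coef i σ = l := by
  classical
  let k : ℕ := l.coeff.support.sup fun e => Finset.univ.sup fun j => (e j).natAbs
  let s : (Fin (n + 1) →₀ ℤ) → Fin (n + 1) →₀ ℕ := fun e =>
    (e + castE (k • expo i)).mapRange Int.toNat rfl
  have hs : ∀ e ∈ l.coeff.support, castE (s e) = e + castE (k • expo i) := fun e he => by
    ext j
    simp only [castE_apply, s, Finsupp.mapRange_apply]
    refine Int.toNat_of_nonneg ?_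
    rcases lt_or_ge (e j) 0 with h | h
    · obtain ⟨a, rfl⟩ := (hl e (Finsupp.mem_support_iff.mp he)).2 j h
      have h1 : (e (i a).down).natAbs ≤ k :=
        (Finset.le_sup (f := fun j => (e j).natAbs) (Finset.mem_univ _)).trans
          (Finset.le_sup (f := fun e => Finset.univ.sup fun j => (e j).natAbs) he)
      have h2 : k ≤ k * expo i (i a).down := Nat.le_mul_of_pos_right k (one_le_expo i a)
      simp only [Finsupp.add_apply, castE_apply, Finsupp.smul_apply, smul_eq_mul]
      omega
    · simp only [Finsupp.add_apply, castE_apply]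
      omega
  let m : S n R := ∑ e ∈ l.coeff.support, monomial (s e) (l.coeff e)
  have hm : Frac.Deg (CohB1.polyGrading n R) ((k • expo i).degree + d) m :=
    Frac.Deg.sum fun e he => Frac.Deg.of_mem
      ((mem_homogeneousSubmodule _ _).mpr (isHomogeneous_monomial _ rfl)) (Or.inl (by
        rw [← sum_castE, hs e he, ← sum_castE]
        simp only [Finsupp.add_apply, Finset.sum_add_distrib,
          (hl e (Finsupp.mem_support_iff.mp he)).1]
        ring))
  have hle : Cech.Complex.inter (cover n R) i ≤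
      Proj.basicOpen (CohB1.polyGrading n R) (mono R (k • expo i)) := by
    rw [inter_eq, mono_nsmul]
    exact fun x hx h => hx (x.isPrime.mem_of_pow_mem k h)
  refine ⟨Frac.fracSec _ (mono_mem _) hm hle,
    (coef_eq i ⟨hm, hle, fun x _ => Frac.val_fracSec _ _ _ _ x⟩).trans ?_⟩
  rw [laur, map_sum, Finset.sum_mul]
  conv_rhs => rw [← AddMonoidAlgebra.sum_coeff_single l]
  refine Finset.sum_congr rfl fun e he => ?_
  rw [toL_monomial, hs e he, zmono, AddMonoidAlgebra.single_mul_single]
  simp

end Groth.Agent.Lib.ProjCoh.Sections
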